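import Cfsg.Agent.H40.GH5c
import Cfsg.Agent.H31.TB
import Cfsg.Agent.H51.PGU3
import Cfsg.Agent.H86.R2Suz
import Cfsg.Agent.H93.S2BL
import Cfsg.Agent.H92.GHU1

/-! The centralizer of an involution in `U₃(4)` is determined by its order and its derived
group. -/

set_option autoImplicit false

namespace H58.U34C

open Cfsg Subgroup H98 H86.AG H92.MW H92.GU H31
open H46 (frattiniOf)
open H40.GH (Pre)
open scoped commutatorElement

variable {G H : Type*} [Group G] [Group H] {A T : Subgroup G} {a₀ a₁ a₂ a₃ c d ρ x : G}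
  {b₀ b₁ b₂ b₃ c' d' σ : H}

/-- The presentation. -/
def Rel (a₀ a₁ a₂ a₃ c d ρ : G) : Prop :=
  (c * c = 1 ∧ d * d = 1 ∧ c * d * c⁻¹ = d) ∧
  (a₀ * c * a₀⁻¹ = c ∧ a₁ * c * a₁⁻¹ = c ∧ a₂ * c * a₂⁻¹ = c ∧ a₃ * c * a₃⁻¹ = c) ∧
  (a₀ * d * a₀⁻¹ = d ∧ a₁ * d * a₁⁻¹ = d ∧ a₂ * d * a₂⁻¹ = d ∧ a₃ * d * a₃⁻¹ = d) ∧
  (a₀ * a₀ = c * d ∧ a₁ * a₁ = c * d ∧ a₂ * a₂ = c * d ∧ a₃ * a₃ = c * d) ∧
  (a₀ * a₁ * a₀⁻¹ = c * a₁ ∧ a₀ * a₂ * a₀⁻¹ = d * a₂ ∧ a₀ * a₃ * a₀⁻¹ = d * a₃ ∧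
    a₁ * a₂ * a₁⁻¹ = c * a₂ ∧ a₁ * a₃ * a₁⁻¹ = d * a₃ ∧ a₂ * a₃ * a₂⁻¹ = c * a₃) ∧
  ρ * a₀ * ρ⁻¹ = a₁ ∧ ρ * a₁ * ρ⁻¹ = a₂ ∧ ρ * a₂ * ρ⁻¹ = a₃ ∧ ρ * a₃ * ρ⁻¹ = (a₀ * a₁ * a₂ * a₃)⁻¹ ∧
  ρ * c * ρ⁻¹ = c ∧ ρ * d * ρ⁻¹ = d ∧ ρ ^ 5 = 1

theorem Rel.prod (h : Rel a₀ a₁ a₂ a₃ c d ρ) (h' : Rel b₀ b₁ b₂ b₃ c' d' σ) :
    Rel (a₀, b₀) (a₁, b₁) (a₂, b₂) (a₃, b₃) (c, c') (d, d') (ρ, σ) := by
  simp only [Rel, Prod.mk_mul_mk, Prod.inv_mk, Prod.mk.injEq, Prod.pow_mk, Prod.mk_eq_one] at *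
  simp only [h, h', and_self]

theorem lm {l : List G} (h : x ∈ l) : x ∈ closure {y | y ∈ l} := subset_closure h

theorem Rel.card [Finite G] (h : Rel a₀ a₁ a₂ a₃ c d ρ) :
    Nat.card (closure {y | y ∈ [a₀, a₁, a₂, a₃, c, d]} ⊔ zpowers ρ : Subgroup G) ≤ 320 := by
  obtain ⟨⟨s1, s2, s3⟩, ⟨t1, t2, t3, t4⟩, ⟨u1, u2, u3, u4⟩, ⟨v1, v2, v3, v4⟩,
    ⟨w1, w2, w3, w4, w5, w6⟩, r1, r2, r3, r4, r5, r6, r7⟩ := h
  have p : PCL [a₀, a₁, a₂, a₃, c, d] := by
    simp only [PCL, List.forall_mem_cons, *, one_mem, true_and, List.not_mem_nil, false_imp_iff,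
      implies_true, and_true]
    refine ⟨⟨⟨⟨?_, ?_, ?_, ?_⟩, ?_, ?_, ?_, ?_⟩, ?_, ?_, ?_, ?_, ?_⟩, ?_, ?_, ?_, ?_, ?_, ?_⟩ <;>
      repeat' first | apply mul_mem | exact lm (by simp)
  obtain ⟨s, hs, hm⟩ := p.exists_finset
  set K := closure {y | y ∈ [a₀, a₁, a₂, a₃, c, d]}
  have c1 : Nat.card K ≤ 64 := by
    refine le_trans ?_ hs
    rw [← Nat.card_eq_finsetCard]
    exact Nat.card_le_card_of_injective (fun x : K => (⟨x.1, hm _ x.2⟩ : s))
      fun a b e => Subtype.ext (congrArg (fun y : s => y.1) e)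
  have n : ρ ∈ nor K := mem_nor (show K ≤ K.comap (MulAut.conj ρ).toMonoidHom from
    (closure_le _).2 (by
      suffices ∀ x ∈ [a₀, a₁, a₂, a₃, c, d], ρ * x * ρ⁻¹ ∈ K from this
      simp only [List.forall_mem_cons, *, List.not_mem_nil, false_imp_iff, implies_true, and_true]
      refine ⟨?_, ?_, ?_, inv_mem ?_, ?_, ?_⟩ <;>
        repeat' first | apply mul_mem | exact lm (by simp)))
  have c2 : Nat.card (zpowers ρ) ≤ 5 := by
    rw [Nat.card_zpowers]; exact orderOf_le_of_pow_eq_one (by norm_num) r7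
  exact (Nat.le_of_dvd (Nat.mul_pos Nat.card_pos Nat.card_pos)
    (H46.card_sup_dvd (zpowers_le.2 n))).trans (Nat.mul_le_mul c1 c2)

theorem Rel.equiv [Finite G] [Finite H] (h : Rel a₀ a₁ a₂ a₃ c d ρ) (h' : Rel b₀ b₁ b₂ b₃ c' d' σ)
    (g : ∀ K : Subgroup G, a₀ ∈ K → a₁ ∈ K → a₂ ∈ K → a₃ ∈ K → ρ ∈ K → K = ⊤)
    (g' : ∀ K : Subgroup H, b₀ ∈ K → b₁ ∈ K → b₂ ∈ K → b₃ ∈ K → σ ∈ K → K = ⊤)
    (c1 : Nat.card G = 320) (c2 : Nat.card H = 320) : Nonempty (G ≃* H) := by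
  have c3 := (h.prod h').card
  set K := closure {y | y ∈ [(a₀, b₀), (a₁, b₁), (a₂, b₂), (a₃, b₃), (c, c'), (d, d')]} ⊔
    zpowers (ρ, σ)
  have m : ∀ p ∈ [(a₀, b₀), (a₁, b₁), (a₂, b₂), (a₃, b₃), (c, c'), (d, d')], p ∈ K :=
    fun p hp => mem_sup_left (lm hp)
  have m' : (ρ, σ) ∈ K := mem_sup_right (mem_zpowers _)
  let f : K →* G := (MonoidHom.fst G H).comp K.subtype
  let f' : K →* H := (MonoidHom.snd G H).comp K.subtype
  have s : Function.Surjective f := MonoidHom.range_eq_top.1 (g _ ⟨⟨_, m (a₀, b₀) (by simp)⟩, rfl⟩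
    ⟨⟨_, m (a₁, b₁) (by simp)⟩, rfl⟩ ⟨⟨_, m (a₂, b₂) (by simp)⟩, rfl⟩
    ⟨⟨_, m (a₃, b₃) (by simp)⟩, rfl⟩ ⟨⟨_, m'⟩, rfl⟩)
  have s' : Function.Surjective f' := MonoidHom.range_eq_top.1 (g' _
    ⟨⟨_, m (a₀, b₀) (by simp)⟩, rfl⟩ ⟨⟨_, m (a₁, b₁) (by simp)⟩, rfl⟩
    ⟨⟨_, m (a₂, b₂) (by simp)⟩, rfl⟩ ⟨⟨_, m (a₃, b₃) (by simp)⟩, rfl⟩ ⟨⟨_, m'⟩, rfl⟩)
  exact ⟨(MulEquiv.ofBijective f (s.bijective_of_nat_card_le (by omega))).symm.trans
    (MulEquiv.ofBijective f' (s'.bijective_of_nat_card_le (by omega)))⟩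

theorem mod5 [Finite G] (ρ5 : ρ ^ 5 = 1) (ρA : ρ ∈ nor A) :
    Nat.card A % 5 = Nat.card (A ⊓ centralizer {ρ} : Subgroup G) % 5 := by
  have : Fact (Nat.Prime 5) := ⟨Nat.prime_five⟩
  have := H93.S2B.card_modEq_Fx (U := A) (e := MulAut.conj ρ) (p := 5) (fun u hu => nor_cn ρA hu)
    (by rw [← map_pow, ρ5, map_one])
  rwa [show H93.S2B.Fx (MulAut.conj ρ) = centralizer {ρ} from Subgroup.ext fun z =>
    cn_eq_iff.trans (Commute.symm_iff.trans mem_centralizer_singleton_iff.symm)] at this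

theorem card_cases [Finite G] (cT : Nat.card T = 64) (h : A ≤ T) :
    Nat.card A = 1 ∨ Nat.card A = 2 ∨ Nat.card A = 4 ∨ Nat.card A = 8 ∨ Nat.card A = 16 ∨
      Nat.card A = 32 ∨ A = T := by
  have c := card_dvd_of_le h
  rw [cT] at c
  obtain ⟨j, hj, e⟩ := (Nat.dvd_prime_pow Nat.prime_two (m := 6)).1 c
  interval_cases j
  any_goals omega
  exact .inr (.inr (.inr (.inr (.inr (.inr (eq_of_le_of_card_ge h (by omega)))))))

theorem rel_of_pre [Finite G] (h : Pre T ρ) (ρ5 : ρ ^ 5 = 1) (n : T ≠ ⊥) :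
    ∃ a₀ a₁ a₂ a₃ c d, Rel a₀ a₁ a₂ a₃ c d ρ ∧ T = closure {a₀, a₁, a₂, a₃} := by
  let N : G → G := fun x => x * cn ρ x * cn ρ (cn ρ x) * cn ρ (cn ρ (cn ρ x)) *
    cn ρ (cn ρ (cn ρ (cn ρ x)))
  have m : ∀ {x}, x ∈ T → cn ρ x ∈ T := nor_cn h.nρ
  have r5 : ∀ x, cn ρ (cn ρ (cn ρ (cn ρ (cn ρ x)))) = x := fun x => by
    simp only [cn_cn]
    rw [show ρ * (ρ * (ρ * (ρ * ρ))) = ρ ^ 5 by simp [pow_succ, mul_assoc], ρ5, one_cn]
  obtain ⟨y, hy, yΦ⟩ := SetLike.exists_of_lt (H46.frattiniOf_lt n)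
  have w : N y ∈ frattiniOf T := by
    refine h.fpf _ (mul_mem (mul_mem (mul_mem (mul_mem hy (m hy)) (m (m hy))) (m (m (m hy))))
      (m (m (m (m hy))))) ?_
    have := h.cΦ (mul_mem (mul_mem (mul_mem (m hy) (m (m hy))) (m (m (m hy)))) (m (m (m (m hy))))) hy
    convert this using 1
    rw [show ⁅ρ, N y⁆ = cn ρ (N y) * (N y)⁻¹ from rfl]
    simp only [N, cn_mul, r5]
    group
  have e : N (y * N y) = 1 := by
    have c0 := cn_of_comm (h.fx _ w)
    have k : ∀ {z}, z ∈ T → ∀ g, N y * (z * g) = z * (N y * g) := fun hz g => by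
      rw [← mul_assoc, ← h.cm w hz, mul_assoc]
    have s : ∀ g, N y * (N y * g) = g := fun g => by rw [← mul_assoc, h.sq _ w, one_mul]
    calc _ = N y * N y := by
          conv_rhs => enter [1]; simp only [N]
          generalize hN : N y = z at *
          simp only [N, cn_mul, c0, mul_assoc, k (m hy), k (m (m hy)), k (m (m (m hy))),
            k (m (m (m (m hy)))), s]
      _ = 1 := h.sq _ w
  have hx := mul_mem hy (H46.frattiniOf_le T w)
  have xΦ : y * N y ∉ frattiniOf T := fun e => yΦ ((mul_mem_cancel_right w).1 e)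
  generalize y * N y = x at e hx xΦ
  obtain ⟨c, d, hc, hd, ⟨e1, e2, e3, e4, e5, e6⟩, sq, gen, -⟩ := h.frame hx xΦ fun _ => rfl
  have st : ∀ i : ℕ, ρ * (ρ ^ i * x * (ρ ^ i)⁻¹) * ρ⁻¹ = ρ ^ (i + 1) * x * (ρ ^ (i + 1))⁻¹ :=
    fun i => by group
  have mi : ∀ i : ℕ, ρ ^ i * x * (ρ ^ i)⁻¹ ∈ T := fun i => nor_cn (pow_mem h.nρ i) hx
  have cc : ∀ {z}, z ∈ frattiniOf T → ∀ {a}, a ∈ T → a * z * a⁻¹ = z := fun hz _ ha => by
    rw [h.cm hz ha, mul_inv_cancel_right]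
  have cv : ∀ {a b z : G}, ⁅a, b⁆ = z → a * b * a⁻¹ = z * b := fun e => by rw [← e]; group
  refine ⟨_, _, _, _, c, d, ⟨⟨h.sq c hc, h.sq d hd, cc hd (H46.frattiniOf_le T hc)⟩,
    ⟨cc hc (mi 0), cc hc (mi 1), cc hc (mi 2), cc hc (mi 3)⟩,
    ⟨cc hd (mi 0), cc hd (mi 1), cc hd (mi 2), cc hd (mi 3)⟩, ⟨sq 0, sq 1, sq 2, sq 3⟩,
    ⟨cv e1, cv e2, cv e3, cv e4, cv e5, cv e6⟩, st 0, st 1, st 2, ?_, cn_of_comm (h.fx c hc),
    cn_of_comm (h.fx d hd), ρ5⟩, gen⟩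
  refine eq_inv_of_mul_eq_one_right ?_
  rw [← e]
  simp only [N, cn]
  group

theorem pre_of [Finite G] (cG : Nat.card G = 320) (cT : Nat.card (commutator G) = 64)
    (hZ : IsKleinFour (center (commutator G))) :
    ∃ ρ : G, ρ ^ 5 = 1 ∧ commutator G ⊔ zpowers ρ = ⊤ ∧ Pre (commutator G) ρ := by
  have : Fact (Nat.Prime 5) := ⟨Nat.prime_five⟩
  obtain ⟨ρ, o5⟩ := exists_prime_orderOf_dvd_card' (G := G) 5 (by rw [cG]; norm_num)
  have ρ5 : ρ ^ 5 = 1 := by rw [← o5, pow_orderOf_eq_one]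
  set T := commutator G with hT
  have two : IsPGroup 2 T := IsPGroup.of_card (n := 6) cT
  have nT : ∀ g, g ∈ nor T := fun g => le_normalizer_of_normal (mem_top g)
  have top : T ⊔ zpowers ρ = ⊤ := by
    refine eq_top_of_le_card _ (Nat.le_of_dvd Nat.card_pos ?_)
    rw [cG]
    exact (show Nat.Coprime 64 5 by norm_num).mul_dvd_of_dvd_of_dvd
      (cT ▸ card_dvd_of_le le_sup_left) (by
        rw [← o5, ← Nat.card_zpowers]; exact card_dvd_of_le le_sup_right)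
  refine ⟨ρ, ρ5, top, ?_⟩
  set Φ := frattiniOf T
  have ΦT : Φ ≤ T := H46.frattiniOf_le T
  have nΦ : ∀ g, g ∈ nor Φ := fun g => H46.nrm_le_nrm_frattiniOf T (nT g)
  have sqΦ : ∀ x ∈ T, x * x ∈ Φ := fun x hx => sq x ▸ H46.pow_mem_frattiniOf Nat.prime_two two hx
  have cΦ : ∀ x ∈ T, ∀ y ∈ T, ⁅x, y⁆ ∈ Φ := fun x hx y hy => H9.Sec.SQ.comm sqΦ hx hy
  have mρ : ∀ x ∈ T, ⁅ρ, x⁆ ∈ T := fun x hx => mul_mem (nor_cn (nT ρ) hx) (inv_mem hx)
  let q := QuotientGroup.mk' (frattini T)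
  have q1 : ∀ x : T, q x = 1 ↔ (x : G) ∈ Φ := fun x => by
    rw [← mem_subgroupOf, H46.frattiniOf_subgroupOf]; exact QuotientGroup.eq_one_iff x
  have qe : ∀ x y : T, q x = q y ↔ (x : G)⁻¹ * y ∈ Φ := fun x y => by
    rw [← inv_mul_eq_one, ← map_inv, ← map_mul, q1]; rfl
  let f : T →* T ⧸ frattini T := MonoidHom.mk' (fun x => q ⟨_, mρ x x.2⟩) fun x y => by
    rw [← map_mul, qe]
    have := cΦ _ (inv_mem (mρ y y.2)) _ (inv_mem x.2)
    convert nor_cn (nΦ x) this using 1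
    simp only [coe_mul, cn, commutatorElement_def]; group
  let M : Subgroup G := (f.range.comap q).map T.subtype
  have mM : ∀ {t}, t ∈ M ↔ t ∈ T ∧ ∃ x ∈ T, ⁅ρ, x⁆⁻¹ * t ∈ Φ := fun {t} =>
    ⟨fun ⟨y, ⟨x, e⟩, e'⟩ => ⟨e' ▸ y.2, x, x.2, e' ▸ (qe _ _).1 e⟩,
      fun ⟨ht, x, hx, e⟩ => ⟨⟨t, ht⟩, ⟨⟨x, hx⟩, (qe _ _).2 e⟩, rfl⟩⟩
  have ΦM : Φ ≤ M := fun z hz => mM.2 ⟨ΦT hz, 1, one_mem _, by simpa using hz⟩
  have nM : M.Normal := normalizer_eq_top_iff.1 (eq_top_iff.2 (top ▸ sup_le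
    (fun t ht => mem_nor fun z hz => by
      have := mul_mem (ΦM (cΦ t ht z (mM.1 hz).1)) hz
      rwa [commutatorElement_def, inv_mul_cancel_right] at this)
    (zpowers_le.2 (mem_nor fun z hz => by
      obtain ⟨h1, x, hx, e⟩ := mM.1 hz
      refine mM.2 ⟨nor_cn (nT ρ) h1, _, nor_cn (nT ρ) hx, ?_⟩
      convert nor_cn (nΦ ρ) e using 1
      simp only [cn, commutatorElement_def]; group))))
  have TM : T ≤ M := by
    let p := QuotientGroup.mk' M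
    have k : ∀ g : G, (∀ t ∈ T, ⁅g, t⁆ ∈ M) → ⁅g, ρ⁆ ∈ M → ∀ y, ⁅g, y⁆ ∈ M := fun g h1 h2 y => by
      have c : ∀ y, ⁅g, y⁆ ∈ M ↔ y ∈ (centralizer {p g}).comap p := fun y => by
        rw [mem_comap, mem_centralizer_singleton_iff, eq_comm,
          ← commutatorElement_eq_one_iff_mul_comm, ← map_commutatorElement]
        exact (QuotientGroup.eq_one_iff _).symm
      exact (c y).2 ((top.ge.trans (sup_le (fun t ht => (c t).1 (h1 t ht))
        (zpowers_le.2 ((c ρ).1 h2)))) (mem_top y))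
    have m1 : ∀ t ∈ T, ⁅ρ, t⁆ ∈ M := fun t ht => mM.2 ⟨mρ t ht, t, ht, by
      rw [inv_mul_cancel]; exact one_mem _⟩
    have sw : ∀ {g y : G}, ⁅g, y⁆ ∈ M → ⁅y, g⁆ ∈ M := fun e => by
      rw [← commutatorElement_inv]; exact inv_mem e
    exact commutator_le.2 fun g _ y _ => k g (fun t ht => sw (k t
      (fun s hs => ΦM (cΦ t ht s hs)) (sw (m1 t ht)) g)) (sw (k ρ m1 (by simp) g)) y
  have fs : f.range = ⊤ := eq_top_iff.2 fun z _ => by
    obtain ⟨t, rfl⟩ := QuotientGroup.mk'_surjective _ z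
    obtain ⟨y, hy, e⟩ := TM t.2
    exact (Subtype.ext e : y = t) ▸ hy
  have fk : frattini T = f.ker := by
    refine eq_of_le_of_card_ge (fun x hx => (q1 _).2 ?_) (Nat.le_of_mul_le_mul_left (le_of_eq ?_)
      (Nat.pos_of_ne_zero (frattini T).index_ne_zero_of_finite))
    · have := (q1 x).1 ((QuotientGroup.eq_one_iff x).2 hx)
      exact mul_mem (nor_cn (nΦ ρ) this) (inv_mem this)
    · rw [index_mul_card, ← f.ker.index_mul_card, index_ker, fs, card_top]; rfl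
  have fpf : ∀ x ∈ T, ⁅ρ, x⁆ ∈ Φ → x ∈ Φ := fun x hx e =>
    (q1 ⟨x, hx⟩).1 ((QuotientGroup.eq_one_iff _).2 (fk.ge ((q1 _).2 e)))
  have lt : Φ ≠ T := (H46.frattiniOf_lt fun e => by rw [e, card_bot] at cT; omega).ne
  have CΦ : T ⊓ centralizer {ρ} ≤ Φ := fun x hx => fpf x hx.1 (by
    rw [commutatorElement_eq_one_iff_mul_comm.2 (mem_centralizer_singleton_iff.1 hx.2).symm]
    exact one_mem _)
  have c4 : Nat.card (T ⊓ centralizer {ρ} : Subgroup G) = 4 := by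
    have := mod5 ρ5 (nT ρ)
    rcases card_cases cT (inf_le_left : T ⊓ centralizer {ρ} ≤ T) with e | e | e | e | e | e | e
    any_goals omega
    exact absurd (le_antisymm ΦT (e.ge.trans CΦ)) lt
  have key : ∀ L ≤ T, T ⊓ centralizer {ρ} ≤ L → ρ ∈ nor L → L = T ⊓ centralizer {ρ} ∨ L = T := by
    intro L LT CL ρL
    have := mod5 ρ5 ρL
    rw [show L ⊓ centralizer {ρ} = T ⊓ centralizer {ρ} from
      le_antisymm (inf_le_inf_right _ LT) (le_inf CL inf_le_right), c4] at this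
    rcases card_cases cT LT with e | e | e | e | e | e | e
    any_goals omega
    exacts [.inl (eq_of_le_of_card_ge CL (by omega)).symm, .inr e]
  have eΦ : Φ = T ⊓ centralizer {ρ} := (key Φ ΦT CΦ (nΦ ρ)).resolve_right lt
  have fx : ∀ x ∈ Φ, Commute ρ x := fun x hx =>
    (mem_centralizer_singleton_iff.1 (eΦ.le hx).2).symm
  have cent : Φ ≤ cen T := by
    have nC : ∀ g, g ∈ nor (cen Φ) := fun g => normalizer_le_normalizer_centralizer Φ (nΦ g)
    have ρC : ρ ∈ cen Φ := fun z hz => (fx z hz).symm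
    have e := H46.eq_of_frattiniOf_sup (X := T ⊓ cen Φ) inf_le_left fun t ht => by
      obtain ⟨-, x, hx, e⟩ := mM.1 (TM ht)
      rw [← mul_inv_cancel_left ⁅ρ, x⁆ t]
      refine mul_mem (mem_sup_right ⟨mρ x hx, ?_⟩) (mem_sup_left e)
      have := mul_mem ρC (nor_cn (nC x) (inv_mem ρC))
      rwa [show ρ * cn x ρ⁻¹ = ⁅ρ, x⁆ by simp only [cn, commutatorElement_def]; group] at this
    exact fun z hz t ht => ((e.ge ht).2 z hz).symm
  have sq : ∀ x ∈ Φ, x * x = 1 := fun x hx => congrArg (fun z : center T => ((z : T) : G))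
    (IsKleinFour.mul_self (⟨⟨x, ΦT hx⟩, mem_center_iff.2 fun t =>
      Subtype.ext (cent hx t t.2)⟩ : center T))
  refine ⟨two, nT ρ, ρ5 ▸ one_mem _, fx, ?_, fpf, fun L LT ΦL ρL n => ?_, cent, sq,
    le_antisymm (commutator_le.2 cΦ) (H46.frattiniOf_le_of Nat.prime_two le_rfl fun t ht => ?_)⟩
  · have := relIndex_mul_relIndex ⊥ _ _ bot_le ΦT
    rw [relIndex_bot_left, relIndex_bot_left, cT, eΦ, c4, ← eΦ] at this
    show Φ.relIndex T = 16
    omega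
  · exact ((key L LT (eΦ ▸ ΦL) ρL).resolve_left fun e => n (e.le.trans eΦ.ge)).ge
  · obtain ⟨-, x, hx, e⟩ := mM.1 (TM ht)
    have e1 : cn ρ x * cn ρ x = x * x := by rw [← cn_mul, cn_of_comm (fx _ (sqΦ x hx))]
    have e2 : t ^ 2 = ⁅ρ, x⁆ * ⁅ρ, x⁆ := by
      calc t ^ 2 = ⁅ρ, x⁆ * ((⁅ρ, x⁆⁻¹ * t) * ⁅ρ, x⁆) * (⁅ρ, x⁆⁻¹ * t) := by rw [pow_two]; group
        _ = ⁅ρ, x⁆ * ⁅ρ, x⁆ * ((⁅ρ, x⁆⁻¹ * t) * (⁅ρ, x⁆⁻¹ * t)) := by
          rw [← cent e _ (mρ x hx)]; group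
        _ = _ := by rw [sq _ e, mul_one]
    rw [e2, show ⁅ρ, x⁆ = cn ρ x * x⁻¹ from rfl]
    have := commutator_mem_commutator (nor_cn (nT ρ) hx) (inv_mem hx)
    convert this using 1
    calc _ = ⁅cn ρ x, x⁻¹⁆ * (x⁻¹ * (cn ρ x * cn ρ x) * x⁻¹) := by group
      _ = _ := by rw [e1]; group

theorem uniq [Finite G] [Finite H] (cG : Nat.card G = 320) (cT : Nat.card (commutator G) = 64)
    (hZ : IsKleinFour (center (commutator G))) (cH : Nat.card H = 320)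
    (cT' : Nat.card (commutator H) = 64) (hZ' : IsKleinFour (center (commutator H))) :
    Nonempty (G ≃* H) := by
  obtain ⟨ρ, h1, h2, h3⟩ := pre_of cG cT hZ
  obtain ⟨σ, k1, k2, k3⟩ := pre_of cH cT' hZ'
  obtain ⟨a₀, a₁, a₂, a₃, c, d, r, g⟩ := rel_of_pre h3 h1 fun e => by
    rw [e, card_bot] at cT; omega
  obtain ⟨b₀, b₁, b₂, b₃, c', d', r', g'⟩ := rel_of_pre k3 k1 fun e => by
    rw [e, card_bot] at cT'; omega
  refine r.equiv r' (fun K m0 m1 m2 m3 m => eq_top_iff.2 (h2 ▸ sup_le ?_ (zpowers_le.2 m)))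
    (fun K m0 m1 m2 m3 m => eq_top_iff.2 (k2 ▸ sup_le ?_ (zpowers_le.2 m))) cG cH
  · rw [g, closure_le]; rintro _ (rfl | rfl | rfl | rfl) <;> assumption
  · rw [g', closure_le]; rintro _ (rfl | rfl | rfl | rfl) <;> assumption

theorem of_uc [Finite G] (h : H51.UC G 4) : Nat.card G = 320 ∧ Nat.card (commutator G) = 64 ∧
    IsKleinFour (center (commutator G)) := by
  have cG : Nat.card G = 320 := h.card
  have : Fact (Nat.Prime 5) := ⟨Nat.prime_five⟩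
  obtain ⟨ρ, o5⟩ := exists_prime_orderOf_dvd_card' (G := G) 5 (by rw [cG]; norm_num)
  have ρ5 : ρ ^ 5 = 1 := by rw [← o5, pow_orderOf_eq_one]
  let T : Subgroup G :=
    { carrier := {x | H59.IsPElt 2 x}
      one_mem' := ⟨0, by simp⟩
      mul_mem' := h.mul _ _
      inv_mem' := fun ⟨k, e⟩ => ⟨k, by rw [inv_pow, e, inv_one]⟩ }
  have nT : ∀ g, g ∈ nor T := fun g => mem_nor fun x ⟨k, e⟩ => ⟨k, by rw [← cn_pow, e, cn_one]⟩
  have : T.Normal := normalizer_eq_top_iff.1 (eq_top_iff.2 fun g _ => nT g)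
  have two : IsPGroup 2 T := fun x => x.2.imp fun k e => Subtype.ext e
  have cT : Nat.card T = 64 := by
    obtain ⟨P⟩ : Nonempty (Sylow 2 G) := inferInstance
    rw [P.is_maximal' two fun x hx => (P.2 ⟨x, hx⟩).imp fun k e => congrArg Subtype.val e]
    change Nat.card P = 64
    rw [P.card_eq_multiplicity, cG, show 320 = 2 ^ 6 * 5 from rfl,
      Nat.factorization_mul (by norm_num) (by norm_num), Nat.prime_two.factorization_pow,
      Nat.prime_five.factorization]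
    simp
  let V : Subgroup G :=
    { carrier := {z | z * z = 1}
      one_mem' := mul_one _
      mul_mem' := fun {x y} hx hy => by
        show x * y * (x * y) = 1
        rw [mul_assoc, ← mul_assoc y, h.cen y hy x, mul_assoc, hy, mul_one, hx]
      inv_mem' := fun {x} hx => by
        show x⁻¹ * x⁻¹ = 1
        rw [← mul_inv_rev, hx, inv_one] }
  have cV : Nat.card V = 4 := h.cinv
  have VT : V ≤ T := fun z hz => ⟨1, (pow_two z).trans hz⟩
  have nV : ∀ g, g ∈ nor V := fun g => mem_nor fun x hx => cn_sq g hx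
  have nc : T ⊓ centralizer {ρ} ≠ T := fun e => by
    obtain ⟨k, hk⟩ := h.self ρ fun x hx => (mem_centralizer_singleton_iff.1 (e.ge hx).2).symm
    have := orderOf_dvd_of_pow_eq_one hk
    rw [o5] at this
    exact absurd (Nat.prime_five.dvd_of_dvd_pow this) (by norm_num)
  have eV : V = T ⊓ centralizer {ρ} := by
    refine eq_of_le_of_card_ge (le_inf VT fun z hz =>
      mem_centralizer_singleton_iff.2 (h.cen z hz ρ)) ?_
    have := mod5 ρ5 (nT ρ)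
    rcases card_cases cT (inf_le_left : T ⊓ centralizer {ρ} ≤ T) with e | e | e | e | e | e | e
    any_goals omega
    exact absurd e nc
  have key : ∀ L ≤ T, V ≤ L → ρ ∈ nor L → L = V ∨ L = T := by
    intro L LT CL ρL
    have := mod5 ρ5 ρL
    rw [show L ⊓ centralizer {ρ} = V from le_antisymm (eV ▸ inf_le_inf_right _ LT)
      (le_inf CL (eV.le.trans inf_le_right)), cV] at this
    rcases card_cases cT LT with e | e | e | e | e | e | e
    any_goals omega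
    exacts [.inl (eq_of_le_of_card_ge CL (by omega)).symm, .inr e]
  have ΦV : frattiniOf T ≤ V := by
    rcases key _ (sup_le (H46.frattiniOf_le T) VT) le_sup_right (normalizer_inf_normalizer_le_normalizer_sup
      _ _ ⟨H46.nrm_le_nrm_frattiniOf T (nT ρ), nV ρ⟩) with e | e
    · exact le_sup_left.trans e.le
    · rw [H46.eq_of_frattiniOf_sup VT e.ge] at cV; omega
  have sqV : ∀ x ∈ T, x * x ∈ V := fun x hx =>
    ΦV (sq x ▸ H46.pow_mem_frattiniOf Nat.prime_two two hx)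
  have DT : commutator G ≤ T := by
    have : Nat.card (G ⧸ T) = 5 := by
      have := T.card_mul_index
      rw [cT, cG] at this
      rw [← index_eq_card]; omega
    have := isCyclic_of_prime_card this
    exact (Normal.quotient_commutative_iff_commutator_le).1 inferInstance
  have e1 : commutator G ⊔ V = T := by
    refine (key _ (sup_le DT VT) le_sup_right (normalizer_inf_normalizer_le_normalizer_sup _ _
      ⟨le_normalizer_of_normal (mem_top ρ), nV ρ⟩)).resolve_left fun e => nc ?_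
    refine inf_eq_left.2 fun x hx => mem_centralizer_singleton_iff.2 ?_
    have hv : ⁅ρ, x⁆ ∈ V := e.le (mem_sup_left (commutator_mem_commutator trivial trivial))
    obtain ⟨k, hk⟩ := DT (commutator_mem_commutator (mem_top ρ) (mem_top x))
    exact (H40.GH.triv (h.cen _ hv ρ).symm (by rw [ρ5]; exact Commute.one_left x) hk).symm
  have e2 : commutator G = T := by
    have i := H86.index_le_sq (Z := V.subgroupOf (commutator G)) (fun x => by
        rw [mem_subgroupOf, Subtype.ext_iff]; rfl)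
      (fun x hx => mem_center_iff.2 fun y => Subtype.ext (h.cen x hx y).symm)
      (fun x y => mem_subgroupOf.2 (H9.Sec.SQ.comm (H := T) sqV (DT x.2) (DT y.2))) fun x => by
        rw [pow_two]; exact sqV _ (DT x.2)
    have : V.Normal := normalizer_eq_top_iff.1 (eq_top_iff.2 fun g _ => nV g)
    have i1 := relIndex_mul_relIndex ⊥ _ _ bot_le VT
    rw [relIndex_bot_left, relIndex_bot_left, cT, cV, ← e1, relIndex_sup_right] at i1
    rw [← inf_subgroupOf_right, Nat.card_congr (subgroupOfEquivOfLe inf_le_right).toEquiv,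
      inf_subgroupOf_right] at i
    have i2 : V ⊓ commutator G = V := eq_of_le_of_card_ge inf_le_left (by
      change V.relIndex (commutator G) ≤ _ at i
      nlinarith)
    rw [← e1, sup_eq_left.2 (i2.ge.trans inf_le_right)]
  refine ⟨cG, e2 ▸ cT, ?_⟩
  rw [e2]
  have e3 : T ⊓ cen T = V := (key (T ⊓ cen T) inf_le_left
    (le_inf VT fun z hz t _ => (h.cen z hz t).symm) (nor_zen (nT ρ))).resolve_right fun e => by
      let f : T →* V := MonoidHom.mk' (fun x => ⟨x * x, sqV x x.2⟩) fun x y => Subtype.ext (by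
        show (x : G) * y * (x * y) = x * x * (y * y)
        rw [mul_assoc, ← mul_assoc (y : G), (e.ge x.2).2 y y.2]; group)
      have i := f.ker.index_mul_card
      rw [index_ker, show f.ker = V.subgroupOf T from Subgroup.ext fun x => Subtype.ext_iff,
        Nat.card_congr (subgroupOfEquivOfLe VT).toEquiv, cV, cT] at i
      have := card_le_card_group f.range
      omega
  have e4 : center T = V.subgroupOf T := Subgroup.ext fun x => by
    rw [mem_subgroupOf, ← e3, mem_center_iff]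
    exact ⟨fun e => ⟨x.2, fun t ht => congrArg Subtype.val (e ⟨t, ht⟩)⟩,
      fun e t => Subtype.ext (e.2 t t.2)⟩
  have c4 : Nat.card (center T) = 4 := by
    rw [e4, Nat.card_congr (subgroupOfEquivOfLe VT).toEquiv, cV]
  have : Nontrivial (center T) := Finite.one_lt_card_iff_nontrivial.1 (by omega)
  exact ⟨c4, (Monoid.exponent_eq_prime_iff Nat.prime_two).2 fun v hv =>
    orderOf_eq_prime (Subtype.ext (Subtype.ext ((pow_two _).trans (e4.le v.2)))) hv⟩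

theorem psu_pgu {F : Type*} [Field F] [Fintype F] (hF : Fintype.card F = 4 ^ 2) :
    Nonempty (PSU 3 F 4 ≃* GU 3 F 4 ⧸ center (GU 3 F 4)) := by
  have k : ∀ s, H59.suToGU 3 F 4 s ∈ center (GU 3 F 4) ↔ s ∈ center (SU 3 F 4) := fun s => by
    rw [H59.mem_center_GU_iff hF (by norm_num), H59.mem_center_SU_iff hF (by norm_num)]; rfl
  refine ⟨MulEquiv.ofBijective (QuotientGroup.map _ _ (H59.suToGU 3 F 4) fun s => (k s).2)
    ⟨(injective_iff_map_eq_one _).2 fun s hs => ?_, fun g => ?_⟩⟩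
  · obtain ⟨s, rfl⟩ := QuotientGroup.mk_surjective s
    exact (QuotientGroup.eq_one_iff s).2 ((k s).1 ((QuotientGroup.eq_one_iff _).1 hs))
  · obtain ⟨g, rfl⟩ := QuotientGroup.mk_surjective g
    obtain ⟨s, hs⟩ : g * H59.guScalar hF 3 (H59.guDet hF 3 g ^ 3) ∈ (H59.suToGU 3 F 4).range := by
      rw [H59.range_suToGU, ← H59.ker_guDet hF, MonoidHom.mem_ker, map_mul, H59.guDet_guScalar,
        ← pow_mul, ← pow_succ', show 3 * 3 + 1 = (4 + 1) * 2 from rfl, pow_mul,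
        ← H59.card_normOne hF, pow_card_eq_one', one_pow]
    refine ⟨s, ?_⟩
    show ((H59.suToGU 3 F 4 s : GU 3 F 4) : GU 3 F 4 ⧸ center (GU 3 F 4)) = _
    rw [hs, eq_comm, QuotientGroup.eq, inv_mul_cancel_left,
      H59.center_GU_eq_range hF (by norm_num)]
    exact ⟨_, rfl⟩

theorem s1903 [Finite G] (cG : Nat.card G = 320) (cT : Nat.card (commutator G) = 64)
    (hZ : IsKleinFour (center (commutator G))) {F : Type*} [Field F] [Fintype F]
    (hF : Fintype.card F = 16) :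
    ∃ t : PSU 3 F 4, orderOf t = 2 ∧ Nonempty (G ≃* centralizer ({t} : Set (PSU 3 F 4))) := by
  have := H86.charP_two_of_card (n := 4) hF
  obtain ⟨e⟩ := psu_pgu (F := F) hF
  obtain ⟨y, hy, u⟩ := H51.exists_uc (q := 4) hF
  obtain ⟨t, rfl⟩ := e.surjective y
  have m : (centralizer {t}).map e.toMonoidHom = centralizer {e t} := by
    ext z
    obtain ⟨z, rfl⟩ := e.surjective z
    rw [mem_centralizer_singleton_iff, ← map_mul, ← map_mul, e.injective.eq_iff,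
      ← mem_centralizer_singleton_iff]
    exact mem_map_iff_mem e.injective
  obtain ⟨h1, h2, h3⟩ := of_uc (u.of_equiv ((e.subgroupMap _).trans (MulEquiv.subgroupCongr m)))
  exact ⟨t, by rwa [MulEquiv.orderOf_eq] at hy, uniq cG cT hZ h1 h2 h3⟩

end H58.U34C
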