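import Cfsg.Agent.H58.ElTwo
import Cfsg.Agent.H56.OrthOrd

/-!
Orders of classical groups and primes dividing the number of nondegenerate subspaces.
-/

open Polynomial Module Pointwise

namespace H58

open H53
open H59 (perp mem_perp)
open H56 (O OG)

section arith

variable {q n k r d : ℕ} {ε η : Prop}

theorem exists_dvd_of_chain {o a b : ℕ → ℕ} {X : ℕ} (hr : r.Prime) (hq : ¬ r ∣ q) (hk : k ≤ n)
    (ho : ∀ j, k ≤ j → j < n → o (j + 1) = o j * (q ^ a j * b j)) (h0 : 0 < o k)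
    (h : X * o k ∣ o n) (hX : r ∣ X) : ∃ j, k ≤ j ∧ j < n ∧ r ∣ b j := by
  obtain ⟨m, rfl⟩ := Nat.exists_eq_add_of_le hk
  have key : ∀ t ≤ m, o (k + t) =
      o k * ∏ j ∈ Finset.range t, (q ^ a (k + j) * b (k + j)) := fun t => by
    induction t with
    | zero => simp
    | succ t ih =>
      intro ht
      rw [← add_assoc, ho _ (by omega) (by omega), ih (by omega), Finset.prod_range_succ, mul_assoc]
  rw [key m le_rfl] at h
  obtain ⟨j, h1, h2⟩ := exists_dvd_of_dvd_prod (a := fun j => a (k + j)) (b := fun j => b (k + j))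
    hr hq (hX.trans (dvd_of_mul_dvd_mul h0 h))
  exact ⟨k + j, by omega, by omega, h2⟩

open Classical in
/-- `q ^ k - 1` or `q ^ k + 1`. -/
noncomputable def sg (q k : ℕ) (ε : Prop) : ℕ := if ε then q ^ k - 1 else q ^ k + 1

/-- The order of the orthogonal group of dimension `n` and type `ε`. -/
noncomputable def ordO (q n : ℕ) (ε : Prop) : ℕ :=
  if n = 0 then 1 else if n % 2 = 1 then
    2 * q ^ (n / 2) ^ 2 * ∏ i ∈ Finset.range (n / 2), (q ^ (2 * (i + 1)) - 1) else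
    2 * q ^ (n / 2 * (n / 2 - 1)) * sg q (n / 2) ε *
      ∏ i ∈ Finset.range (n / 2 - 1), (q ^ (2 * (i + 1)) - 1)

theorem ordO_odd : ordO q (2 * d + 1) ε =
    2 * q ^ d ^ 2 * ∏ i ∈ Finset.range d, (q ^ (2 * (i + 1)) - 1) := by
  rw [ordO, if_neg (by omega), if_pos (by omega), show (2 * d + 1) / 2 = d by omega]

theorem ordO_even : ordO q (2 * (d + 1)) ε =
    2 * q ^ ((d + 1) * d) * sg q (d + 1) ε * ∏ i ∈ Finset.range d, (q ^ (2 * (i + 1)) - 1) := by
  rw [ordO, if_neg (by omega), if_neg (by omega), show 2 * (d + 1) / 2 = d + 1 by omega,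
    Nat.add_sub_cancel]

theorem sg_mul_sg : sg q k ε * sg q k (¬ ε) = q ^ (2 * k) - 1 := by
  have : q ^ (2 * k) - 1 = (q ^ k + 1) * (q ^ k - 1) := by
    rw [← Nat.sq_sub_sq, one_pow, ← pow_mul, mul_comm]
  rw [this]
  by_cases h : ε <;> simp [sg, h, mul_comm]

theorem sg_pos (hq : 1 < q) (hk : 0 < k) : 0 < sg q k ε := by
  have := Nat.one_lt_pow hk.ne' hq
  rw [sg]
  split_ifs <;> omega

theorem ordO_succ : ordO q (n + 1) ε = ordO q n η * (q ^ (n / 2) *
    if n = 0 then 2 else if n % 2 = 1 then sg q (n / 2 + 1) ε else sg q (n / 2) (¬ η)) := by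
  rcases n.even_or_odd' with ⟨d, rfl | rfl⟩
  · rcases d with _ | d
    · simp [ordO]
    · rw [ordO_odd, ordO_even, if_neg (by omega), if_neg (by omega), Finset.prod_range_succ,
        show 2 * (d + 1) / 2 = d + 1 by omega, ← sg_mul_sg (ε := η)]
      ring
  · rw [show 2 * d + 1 + 1 = 2 * (d + 1) by ring, ordO_odd, ordO_even, if_neg (by omega),
      if_pos (by omega), show (2 * d + 1) / 2 = d by omega]
    ring

theorem ordO_pos (hq : 1 < q) : 0 < ordO q n ε := by
  induction n generalizing ε with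
  | zero => simp [ordO]
  | succ n ih =>
    rw [ordO_succ (η := True)]
    refine mul_pos ih (mul_pos (pow_pos (by omega) _) ?_)
    split_ifs
    exacts [two_pos, sg_pos hq (by omega), sg_pos hq (by omega)]

theorem ordO_congr (h : Even n → (ε ↔ η)) : ordO q n ε = ordO q n η := by
  rcases n.even_or_odd' with ⟨d, rfl | rfl⟩
  · rw [propext (h (even_two_mul d))]
  · rw [ordO_odd, ordO_odd]

theorem blk_of_dvd_sg {i : ℕ} (hq : 0 < q) (hr : r.Prime) (h2 : r ≠ 2)
    (hi : i = orderOf (q : ZMod r)) (h0 : 0 < i) (hk : 0 < k) (h : r ∣ sg q k ε) :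
    ∃ a, 0 < a ∧ a * (if Even i then i else 2 * i) = 2 * k ∧ (ε ↔ (Even i → Even a)) := by
  rw [sg] at h
  split_ifs at h with he
  · obtain ⟨a, h3, h4, h5⟩ := blk_of_dvd_sub hq hi hk h
    exact ⟨a, h3, h4, iff_of_true he h5⟩
  · obtain ⟨a, h3, h4, h5⟩ := blk_of_dvd_add hr h2 hi h0 h
    exact ⟨a, h3, h4, iff_of_false he h5⟩

theorem blk_of_dvd_ordO {i X : ℕ} (hq : 1 < q) (hr : r.Prime) (h2 : r ≠ 2) (hrq : ¬ r ∣ q)
    (hi : i = orderOf (q : ZMod r)) (h0 : 0 < i) (hk : k < n) (h : X * ordO q k η ∣ ordO q n ε)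
    (hX : r ∣ X) : ∃ a N, 0 < a ∧ a * (if Even i then i else 2 * i) + N = n ∧
      (N = 0 → (ε ↔ (Even i → Even a))) ∧
      (N < n - k ∨ (N = n - k ∧ ¬ (η ↔ (Even i → Even a)))) := by
  let ty : ℕ → Prop := fun j => (j = k → η) ∧ (j = n → ε)
  have h1 : ty k ↔ η := by simp [ty, hk.ne]
  have h3 : ty n ↔ ε := by simp [ty, hk.ne']
  obtain ⟨j, h4, h5, h6⟩ := exists_dvd_of_chain (o := fun j => ordO q j (ty j)) hr hrq hk.le
    (fun j _ _ => ordO_succ (η := ty j)) (ordO_pos hq) (by rwa [propext h1, propext h3]) hX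
  split_ifs at h6 with h7 h8
  · exact absurd ((Nat.prime_dvd_prime_iff_eq hr Nat.prime_two).1 h6) h2
  · obtain ⟨a, h9, h10, h11⟩ := blk_of_dvd_sg (by omega) hr h2 hi h0 (by omega) h6
    refine ⟨a, n - (j + 1), h9, by omega, fun h => ?_, Or.inl (by omega)⟩
    rwa [← h3, ← show j + 1 = n by omega]
  · obtain ⟨a, h9, h10, h11⟩ := blk_of_dvd_sg (by omega) hr h2 hi h0 (by omega) h6
    refine ⟨a, n - j, h9, by omega, by omega,
      (by omega : n - j < n - k ∨ n - j = n - k).imp_right fun h => ⟨h, ?_⟩⟩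
    rw [← h11, ← h1, show k = j by omega]
    exact iff_not_self

end arith

variable {F : Type*} [Field F] {σ : F →+* F} {ε : F}
variable {V : Type*} [AddCommGroup V] [Module F V] [FiniteDimensional F V]
variable {B : V →ₛₗ[σ] V →ₗ[F] F} {Q : QuadraticForm F V} {m r : ℕ}

omit [AddCommGroup V] [Module F V] [FiniteDimensional F V] in
theorem not_dvd_card_of_ne_zero [Finite F] (hr : r.Prime) (h0 : (r : F) ≠ 0) :
    ¬ r ∣ Nat.card F := by
  have := Fintype.ofFinite F
  obtain ⟨p, hp⟩ := CharP.exists F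
  have : Fact p.Prime := ⟨CharP.char_is_prime F p⟩
  exact not_dvd_card p hr fun h => h0 (h ▸ CharP.cast_eq_zero F p)

theorem card_O_eq [Finite F] (hQ : Q.polarBilin.Nondegenerate) :
    Nat.card (O Q) = ordO (Nat.card F) (finrank F V) (IsPlus Q) := by
  have := Fintype.ofFinite F
  rw [Nat.card_eq_fintype_card (α := F)]
  rcases (finrank F V).even_or_odd' with ⟨d, hd | hd⟩
  · by_cases h : IsPlus Q
    · obtain ⟨g, hg⟩ := h.exists_equiv hQ hd
      rw [← Nat.card_congr (H56.O.congr g hg).toEquiv, hd]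
      rcases d with _ | d
      · simp [ordO]
      · rw [H56.card_O_qPlus, ordO_even, sg, if_pos h]
    · obtain ⟨a, b, hab⟩ := exists_aniso_pair F
      obtain ⟨h1, g, hg⟩ := exists_equiv_of_not_isPlus h hQ hd hab
      obtain ⟨d, rfl⟩ := Nat.exists_eq_add_of_le' h1
      rw [← Nat.card_congr (H56.O.congr g hg).toEquiv, hd, H56.card_O_qMinus _ hab, ordO_even, sg,
        if_neg h]
      rfl
  · obtain ⟨h2, c, hc, g, hg⟩ := equiv_oddc hQ hd
    rw [← Nat.card_congr (H56.O.congr g hg).toEquiv, hd, H56.card_O_qOddc h2 _ hc, ordO_odd]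

/-- The subspaces `U` and `W` are isometric. -/
def QIsom (Q : QuadraticForm F V) (U W : Submodule F V) : Prop :=
  ∃ e : U ≃ₗ[F] W, ∀ u : U, Q (e u) = Q u

omit [FiniteDimensional F V] in
theorem QIsom.nd (hQ : Q.polarBilin.Nondegenerate) {U W : Submodule F V} (h : QIsom Q U W)
    (hW : ND Q.polarBilin W) : ND Q.polarBilin U := by
  obtain ⟨e, he⟩ := h
  rw [nd_iff (isSF_polar hQ)] at hW ⊢
  intro u hu h0
  obtain ⟨v, hv, h1⟩ := hW _ (e ⟨u, hu⟩).2 (by simpa using h0)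
  obtain ⟨w, hw⟩ := e.surjective ⟨v, hv⟩
  refine ⟨w, w.2, ?_⟩
  have := polar_map (Q := Q.restrict U) (Q' := Q.restrict W) e.toLinearMap he ⟨u, hu⟩ w
  rw [LinearEquiv.coe_coe, hw] at this
  exact fun h => h1 (this.trans h)

theorem qisom_iff_pl [Finite F] (hQ : Q.polarBilin.Nondegenerate) {U W : Submodule F V}
    (hW : ND Q.polarBilin W) (he : Even (finrank F W)) : QIsom Q U W ↔
      finrank F U = finrank F W ∧ ND Q.polarBilin U ∧ (Pl Q U ↔ Pl Q W) :=
  ⟨fun h => by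
    obtain ⟨e, he⟩ := id h
    exact ⟨e.finrank_eq, h.nd hQ hW, (isPlus_congr e he).symm⟩, fun ⟨h1, h2, h3⟩ =>
    exists_equiv_of_isPlus_iff (nondeg_restrict hQ h2) (nondeg_restrict hQ hW) h1 (h1 ▸ he) h3⟩

theorem qisom_iff_disc [Finite F] (h2 : (2 : F) ≠ 0) (hQ : Q.polarBilin.Nondegenerate)
    {U W : Submodule F V} (hW : ND Q.polarBilin W) : QIsom Q U W ↔
      finrank F U = finrank F W ∧ ND Q.polarBilin U ∧ disc (Q.restrict U) = disc (Q.restrict W) :=
  ⟨fun h => by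
    obtain ⟨e, he⟩ := id h
    exact ⟨e.finrank_eq, h.nd hQ hW, (disc_of_equiv e he).symm⟩, fun ⟨h1, h3, h4⟩ =>
    exists_equiv_of_disc h2 (nondeg_restrict hQ h3) (nondeg_restrict hQ hW) h1 h4⟩

theorem card_qisom_mul_dvd (hQ : Q.polarBilin.Nondegenerate) {A : Submodule F V}
    (hA : ND Q.polarBilin A) : Nat.card {W // QIsom Q W A} *
      Nat.card (O (Q.restrict (perp Q.polarBilin A))) ∣ Nat.card (O Q) := by
  have hc := (isSF_polar hQ).isCompl_perp hA
  refine card_mul_dvd_of_isCompl (OG Q) A {W | QIsom Q W A} (fun W => ⟨fun ⟨e, he⟩ => ?_, ?_⟩) hc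
    (OG (Q.restrict _)) fun a ha => ⟨fun v => ?_, sumHom_smul_left hc _⟩
  · obtain ⟨g, hg⟩ := H56.witt_sub hQ A (W.subtype ∘ₗ e.symm.toLinearMap)
      (fun x => by simpa using (he (e.symm x)).symm) (W.injective_subtype.comp e.symm.injective)
    exact ⟨g.1, g.2, smul_eq_of_equiv g.1 e.symm hg⟩
  · rintro ⟨g, hg, rfl⟩
    refine ⟨(g.submoduleMap A).symm, fun u => ?_⟩
    obtain ⟨w, rfl⟩ := (g.submoduleMap A).surjective u
    exact (congrArg (fun x : A => Q x) ((g.submoduleMap A).symm_apply_apply w)).trans (hg w).symm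
  · obtain ⟨x, y, rfl⟩ := H59.exists_add_eq_of_isCompl hc v
    rw [H59.sumHom_apply_add, QuadraticMap.map_add Q, QuadraticMap.map_add Q]
    have h1 := (a y).2 x x.2
    have h3 := y.2 x x.2
    rw [QuadraticMap.polarBilin_apply_apply] at h1 h3
    simp only [LinearEquiv.coe_one, id_eq, h1, h3, show Q (a y) = Q y from ha y]

theorem exists_blk_of_dvd_qisom [Finite F] (hQ : Q.polarBilin.Nondegenerate) {A : Submodule F V}
    (hA : ND Q.polarBilin A) (hm : finrank F A = m) (hm0 : 0 < m) (hr : r.Prime) (h2 : r ≠ 2)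
    (h0 : (r : F) ≠ 0) {i : ℕ} (hi : i = orderOf (Nat.card F : ZMod r)) {η : Prop}
    (hη : Even (finrank F (perp Q.polarBilin A)) → (Pl Q (perp Q.polarBilin A) ↔ η))
    (h : r ∣ Nat.card {W // QIsom Q W A}) :
    ∃ a N, 0 < a ∧ a * (if Even i then i else 2 * i) + N = finrank F V ∧
      (N = 0 → (IsPlus Q ↔ (Even i → Even a))) ∧
      (N < m ∨ (N = m ∧ ¬ (η ↔ (Even i → Even a)))) := by
  have h1 := card_qisom_mul_dvd hQ hA
  have h3 := (isSF_polar hQ).finrank_add_finrank_perp A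
  rw [card_O_eq hQ, card_O_eq (nondeg_restrict hQ ((isSF_polar hQ).disjoint_perp hA)),
    ordO_congr hη] at h1
  have := blk_of_dvd_ordO Finite.one_lt_card hr h2 (not_dvd_card_of_ne_zero hr h0) hi
    (hi ▸ orderOf_card_pos h0) (by omega) h1 h
  rwa [show finrank F V - finrank F (perp Q.polarBilin A) = m by omega] at this

theorem card_nd_mul_dvd (hB : IsSF ε B) {A : Submodule F V} (hA : ND B A)
    (h : ∀ U W : Submodule F V, ND B U → ND B W → finrank F U = finrank F W →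
      ∃ e : U ≃ₗ[F] W, ∀ x y, B (e x) (e y) = B x y) :
    Nat.card {W : Submodule F V // finrank F W = finrank F A ∧ ND B W} *
      Nat.card (H59.isom (B.domRestrict₁₂ (perp B A) (perp B A))) ∣ Nat.card (H59.isom B) := by
  have hc := hB.isCompl_perp hA
  refine card_mul_dvd_of_isCompl (H59.isom B) A {W | finrank F W = finrank F A ∧ ND B W}
    (fun W => ⟨fun ⟨h1, hW⟩ => ?_, ?_⟩) hc _ fun a ha => ⟨?_, sumHom_smul_left hc _⟩
  · have h2 := hB.finrank_add_finrank_perp A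
    have h3 := hB.finrank_add_finrank_perp W
    obtain ⟨e₁, h4⟩ := h A W hA hW h1.symm
    obtain ⟨e₂, h5⟩ := h _ _ (hB.disjoint_perp hA) (hB.disjoint_perp hW) (by omega)
    obtain ⟨g, h6, h7⟩ := exists_equiv_of_isCompl hc (hB.isCompl_perp hW) e₁ e₂
    refine ⟨g, fun x y => ?_, smul_eq_of_equiv g e₁ h6⟩
    obtain ⟨a, b, rfl⟩ := H59.exists_add_eq_of_isCompl hc x
    obtain ⟨c, d, rfl⟩ := H59.exists_add_eq_of_isCompl hc y
    simp [h6, h7, h4, h5, d.2 a a.2, (e₂ d).2 _ (e₁ a).2, hB.eq_zero_comm.1 (b.2 c c.2),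
      hB.eq_zero_comm.1 ((e₂ b).2 _ (e₁ c).2)]
  · rintro ⟨g, hg, rfl⟩
    refine ⟨finrank_smul_sub g A, (nd_iff hB).2 ?_⟩
    rintro _ ⟨u, hu, rfl⟩ h0
    obtain ⟨v, hv, h1⟩ := (nd_iff hB).1 hA u hu (by simpa using h0)
    exact ⟨g v, ⟨v, hv, rfl⟩, (hg u v).symm ▸ h1⟩
  · exact (H59.sumHom_mem_isom_iff hc (fun x hx y hy => hy x hx)
      (fun x hx y hy => hB.eq_zero_comm.1 (hy x hx)) _).2 ⟨one_mem _, ha⟩

theorem exists_dvd_nd_alt [Finite F] {B : V →ₗ[F] V →ₗ[F] F} (hB : IsSF (σ := RingHom.id F) (-1) B)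
    (ha : ∀ x, B x x = 0) (hr : r.Prime) (h0 : (r : F) ≠ 0) {A : Submodule F V} (hA : ND B A)
    (hm : finrank F A = m) (h : r ∣ Nat.card {W : Submodule F V // finrank F W = m ∧ ND B W}) :
    ∃ j, 2 * j < m ∧ r ∣ Nat.card F ^ (finrank F V - 2 * j) - 1 := by
  have h1 := card_nd_mul_dvd hB hA fun U W hU hW => H54.exists_isometry_of_finrank_eq
    (hB.restrict hU).nondegenerate (fun x => ha x) (hB.restrict hW).nondegenerate fun x => ha x
  have hC := hB.restrict (hB.disjoint_perp hA)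
  obtain ⟨d, hd⟩ := H54.even_finrank_of_isAlt hB.nondegenerate ha
  obtain ⟨e, he⟩ := H54.even_finrank_of_isAlt hC.nondegenerate fun x => ha x
  have h2 := hB.finrank_add_finrank_perp A
  rw [show Nat.card (H59.isom B) = _ from H54.card_Isom (m := d) hB.nondegenerate ha (by omega),
    show Nat.card (H59.isom (B.domRestrict₁₂ (perp B A) (perp B A))) = _ from
      H54.card_Isom (m := e) hC.nondegenerate (fun x => ha x) (by omega), hm] at h1
  obtain ⟨j, h3, h4, h5⟩ := exists_dvd_of_chain (o := H54.spOrder (Nat.card F))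
    (a := fun j => 2 * j + 1) (b := fun j => Nat.card F ^ (2 * (j + 1)) - 1) hr
    (not_dvd_card_of_ne_zero hr h0) (by omega) (fun j _ _ => by rw [H54.spOrder_succ]; ring)
    (H54.spOrder_pos Finite.one_lt_card _) h1 h
  exact ⟨d - (j + 1), by omega, by rwa [show finrank F V - 2 * (d - (j + 1)) = 2 * (j + 1) by omega]⟩

theorem exists_dvd_nd_herm [Fintype F] {q : ℕ} {hF : Fintype.card F = q ^ 2}
    {B : V →ₛₗ[H59.frob hF] V →ₗ[F] F} (hB : IsSF 1 B) (hr : r.Prime) (h0 : (r : F) ≠ 0)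
    {A : Submodule F V} (hA : ND B A) (hm : finrank F A = m)
    (h : r ∣ Nat.card {W : Submodule F V // finrank F W = m ∧ ND B W}) :
    ∃ j < m, r ∣ sg q (finrank F V - j) (Even (finrank F V - j)) := by
  have hσ := H59.frob_ne_id hF
  have h1 := card_nd_mul_dvd hB hA fun U W hU hW =>
    ((hB.restrict hU).isHerm hσ).exists_isometry ((hB.restrict hW).isHerm hσ)
  have h2 := hB.finrank_add_finrank_perp A
  rw [(hB.isHerm hσ).card_isom hF, ((hB.restrict (hB.disjoint_perp hA)).isHerm hσ).card_isom hF,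
    hm] at h1
  obtain ⟨j, h3, h4, h5⟩ := exists_dvd_of_chain (o := H59.ordGU q) (q := q)
    (a := id) (b := fun j => sg q (j + 1) (Even (j + 1))) hr
    (fun h => not_dvd_card_of_ne_zero hr h0 (by
      rw [Nat.card_eq_fintype_card, hF]; exact h.trans (dvd_pow_self q two_ne_zero)))
    (by omega) (fun j _ _ => by rw [H59.ordGU_succ, mul_comm, sg]; congr!)
    (H59.ordGU_pos (two_le_of_card_eq_sq hF) _) h1 h
  exact ⟨finrank F V - (j + 1), by omega, by
    rwa [show finrank F V - (finrank F V - (j + 1)) = j + 1 by omega]⟩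

end H58
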