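import Cfsg.Agent.H49.NWSpec

/-! DZ, branches NE and WA: the bridge to the wreath structure (jobs `JobN3`, `JobW3`). -/

set_option autoImplicit false
set_option linter.unusedSectionVars false

namespace H58.NW

open Subgroup Cfsg H14 H98 H1.Gold H31.S2 H85.FZ H49.D8 H85.DZ H49.NW

universe u

/-- The finite data: table, number of letters of `Z`, actions, new letters, conjugating programs. -/
structure Dat where
  T : Tb
  k : ℕ
  L : List ℕ
  f : List (ℕ × List ℕ)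
  L' : List ℕ
  f' : List (ℕ × List ℕ)
  ws : List (ℕ × List ℕ)
  pg : List (List ℕ)

namespace Dat

variable (D : Dat)

/-- One conjugation. -/
def step (w : List ℕ) (m : ℕ) : List ℕ :=
  if m < D.T.n then D.T.col ([m] ++ w ++ [m])
  else if m = D.T.n then (if w.all (· ∈ D.L) then D.T.col (app D.f w) else w)
  else if w.all (· ∈ D.L') then D.T.col (app D.f' w) else w

/-- The letters of `E_B`. -/
def LB : List ℕ := List.range D.k ++ [D.k + 2, D.k + 3]

/-- The finite checks. -/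
def Chk : Prop :=
  D.T.wf = true ∧ D.T.n = D.k + 5 ∧ 2 ≤ D.k ∧
  ((List.range 7).all fun s => D.T.same (app D.ws [s, s]) (app D.ws (tbR.sq s)) &&
      (List.range s).all fun r => D.T.same (app D.ws [r, s]) (app D.ws (s :: tbR.cj s r))) = true ∧
  (∀ j < 7, ∀ w ∈ subs j, D.T.eqv (app D.ws [j]) (app D.ws w) = false) ∧
  (D.T.same (app D.ws [6]) [D.k + 4] = true ∧ D.T.same (app D.ws [2, 3]) [D.k] = true ∧
    D.T.same (app D.ws [4, 5]) [D.k + 2] = true ∧ D.T.same (app D.ws [0, 1]) [1, 0] = true) ∧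
  (∀ w ∈ subs D.k, D.T.same (w ++ w) [] = true ∧
    (D.T.eqv (w ++ [D.k + 4]) ((D.k + 4) :: w) = true → w.all (· < 2) = true) ∧
    (∀ w' ∈ subs 6, D.T.eqv w (app D.ws w') = true → ∃ c ∈ subs 2, D.T.same w (app D.ws c) = true) ∧
    ∀ i < 4, ∃ ms ∈ D.pg, (ms.foldl D.step (app D.ws [i + 2] ++ w)).all (· < D.k) = true ∧
      ((D.T.eqv (ms.foldl D.step (app D.ws [i + 2] ++ w)) (app D.ws [0]) = true ∨
        D.T.eqv (ms.foldl D.step (app D.ws [i + 2] ++ w)) (app D.ws [1]) = true) →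
        D.T.same w [] = true ∨ D.T.same w (app D.ws [i % 2]) = true)) ∧
  (∀ i < D.k, (∀ j < 6, D.T.same (i :: app D.ws [j]) (app D.ws [j] ++ [i]) = true) ∧
    (D.T.col ([D.k + 4] ++ [i] ++ [D.k + 4])).all (· < D.k) = true) ∧
  (∀ w ∈ subs 6, D.T.eqv [0] (app D.ws w) = false) ∧
  (∀ j < 2, (app D.ws [j]).all (· < D.k) = true ∧ (app D.ws [j + 2]).all (· < D.k + 2) = true ∧
    (app D.ws [j + 4]).all (· ∈ D.LB) = true ∧ (app D.ws [j]).all (· ∈ D.L) = true ∧
    (app D.ws [j]).all (· ∈ D.L') = true ∧ D.T.same (app D.f (app D.ws [j])) (app D.ws [j + 2]) = true ∧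
    D.T.same (app D.f' (app D.ws [j])) (app D.ws [j + 4]) = true ∧
    ∃ w ∈ subs D.k, D.T.same [D.k + 1 + 2 * j] (app D.ws [2 + 2 * j] ++ w) = true) ∧
  (∀ r ∈ List.range (D.k + 2), r ∈ D.L ∧ (app D.f [r]).all (· ∈ List.range (D.k + 2)) = true) ∧
  ∀ r ∈ D.LB, r ∈ D.L' ∧ (app D.f' [r]).all (· ∈ D.LB) = true

set_option synthInstance.maxSize 4096 in
instance decChk : Decidable D.Chk := by unfold Chk; infer_instance

end Dat

variable {G : Type u} [Group G] [Finite G] {t v s u a σ ρ g : G} {z : ℕ → G} {D : Dat}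

theorem nor_of_act {L L' : List ℕ} {f : List (ℕ × List ℕ)} (A : Act z g L' f)
    (c : ∀ r ∈ L, r ∈ L' ∧ (app f [r]).all (· ∈ L) = true) {K : Subgroup G} (h1 : ∀ r ∈ L, z r ∈ K)
    (h2 : ∀ M : Subgroup G, (∀ r ∈ L, z r ∈ M) → K ≤ M) : g ∈ nor K :=
  mem_normalizer_fintype fun y hy => h2 (K.comap (MulAut.conj g).toMonoidHom) (fun r hr => by
    change g * z r * g⁻¹ ∈ K
    rw [A r (c r hr).1]
    exact W_mem_of fun i hi => h1 i (of_decide_eq_true (List.all_eq_true.1 (c r hr).2 i hi))) hy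

theorem run_conj (P : Pres D.T z) (sq : ∀ s, D.T.sq s = []) (A : Act z σ D.L D.f) (B : Act z ρ D.L' D.f')
    (ms w : List ℕ) : IsConj (W z w) (W z (ms.foldl D.step w)) := by
  induction ms generalizing w with
  | nil => exact IsConj.refl _
  | cons m ms ih =>
    refine IsConj.trans ?_ (ih _)
    unfold Dat.step
    split_ifs with h1 h2 h3 h4
    · exact isConj_iff.2 ⟨_, (P.conj sq (w := [m]) (by simpa using h1) w).trans (P.W_col _).symm⟩
    · exact isConj_iff.2 ⟨_, (A.w h3).trans (P.W_col _).symm⟩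
    · exact IsConj.refl _
    · exact isConj_iff.2 ⟨_, (B.w h4).trans (P.W_col _).symm⟩
    · exact IsConj.refl _

/-- The new letters. -/
def nx (D : Dat) (z : ℕ → G) (i : ℕ) : G := W z (app D.ws [i])

theorem W_nx {w : List ℕ} {n : ℕ} (hw : w ∈ subs n) : W (nx D z) w = W z (app D.ws w) :=
  W_app (fun _ _ => rfl) (subs_lt hw)

theorem mem_nx (P : Pres D.T z) {w c : List ℕ} {n : ℕ} (hc : c ∈ subs n)
    (k : D.T.same w (app D.ws c) = true) : W z w ∈ H (nx D z) n := by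
  rw [P.W_eq k, ← W_nx hc]
  exact W_mem (subs_lt hc)

theorem app_pair (f : List (ℕ × List ℕ)) (i j : ℕ) : app f [i, j] = app f [i] ++ app f [j] := by
  simp [app]

theorem wr_of (h : H85.DZ.Base t v s u a σ ρ) (c : D.Chk) (sq : ∀ s, D.T.sq s = []) (P : Pres D.T z)
    (I : Ind z D.T.n) (A : Act z σ D.L D.f) (B : Act z ρ D.L' D.f') (ea : z 0 = a) (eu : z 1 = u)
    (ev : z D.k = v) (es : z (D.k + 2) = s) (et : z (D.k + 4) = t)
    (EAt : H z (D.k + 2) ⊓ cen1 t = cl [a, u, v]) (sy : IsSyl 2 (H z (D.k + 5)) (nor (H z (D.k + 2))))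
    (noD : ∀ g ∈ H z (D.k + 4), ¬ IsConj t g)
    (cls : ∀ g, t * g ∈ H z (D.k + 4) → g * g = 1 → ∃ w ∈ H z (D.k + 4),
      g = w * t * w⁻¹ ∨ (g = w * (t * a) * w⁻¹ ∧ a * (t * g) ∈ H (nx D z) 6)) :
    Wr t v s u a σ ρ (nx D z) (H z D.k) ∧ H z D.k ⊔ H (nx D z) 6 = H z (D.k + 4) := by
  obtain ⟨wf, hn, hk, c1, c2, ⟨c3, c4, c5, c6⟩, c7, c8, c9, c10, c11, c12⟩ := c
  have wR : tbR.wf = true := by decide
  have P' : Pres tbR (nx D z) := P.derive tbR D.ws c1
  have mem : ∀ e ∈ H z D.k, ∃ w ∈ subs D.k, e = W z w := fun e he => P.mem wf (by omega) he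
  have e23 : nx D z 2 * nx D z 3 = z D.k := by simpa [app_pair, nx] using P.W_eq c4
  have e45 : nx D z 4 * nx D z 5 = z (D.k + 2) := by simpa [app_pair, nx] using P.W_eq c5
  have eY : ∀ j < 2, ∀ M : Subgroup G, H z D.k ≤ M → nx D z (2 + 2 * j) ∈ M → z (D.k + 1 + 2 * j) ∈ M :=
    fun j hj M h1 h2 => by
      obtain ⟨w, hw, e⟩ := (c10 j hj).2.2.2.2.2.2.2
      have := P.W_eq e
      rw [W_cons, W_nil, mul_one, W_append] at this
      exact this ▸ mul_mem h2 (h1 (W_mem (subs_lt hw)))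
  have mA : ∀ M : Subgroup G, H z D.k ≤ M → nx D z 2 ∈ M → nx D z 3 ∈ M → H z (D.k + 2) ≤ M :=
    fun M h1 h2 h3 => by
      rw [H_succ, H_succ]
      exact sup_le (sup_le h1 (zpowers_le.2 (e23 ▸ mul_mem h2 h3))) (zpowers_le.2 (eY 0 two_pos M h1 h2))
  have EA : H z D.k ⊔ cl [nx D z 2, nx D z 3] = H z (D.k + 2) := le_antisymm
    (sup_le (H_mono (by omega)) (cl_le.2 (by
      simpa using ⟨W_mem (c10 0 two_pos).2.1, W_mem (c10 1 one_lt_two).2.1⟩)))
    (mA _ le_sup_left (mem_sup_right (mem_cl (by simp))) (mem_sup_right (mem_cl (by simp))))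
  have LB : ∀ {M : Subgroup G}, (∀ r ∈ D.LB, z r ∈ M) → ∀ j < 2, nx D z (j + 4) ∈ M := fun hM j hj =>
    W_mem_of fun r hr => hM r (of_decide_eq_true (List.all_eq_true.1 (c10 j hj).2.2.1 r hr))
  have EU : H z D.k ⊔ H (nx D z) 6 = H z (D.k + 4) := by
    refine le_antisymm (sup_le (H_mono (by omega)) (H_le fun i hi => ?_)) ?_
    · rcases (by omega : i < 2 ∨ (i - 2 < 2 ∧ i = i - 2 + 2) ∨ (i - 4 < 2 ∧ i = i - 4 + 4)) with
        k | ⟨k, e⟩ | ⟨k, e⟩
      · exact H_mono (by omega) (W_mem (c10 i k).1)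
      · exact e ▸ H_mono (by omega) (W_mem (c10 _ k).2.1)
      · exact e ▸ LB (fun r hr => x_mem (by simp [Dat.LB] at hr; omega)) _ k
    · have m : ∀ i < 6, nx D z i ∈ H z D.k ⊔ H (nx D z) 6 := fun i hi => mem_sup_right (x_mem hi)
      rw [H_succ, H_succ]
      exact sup_le (sup_le (mA _ le_sup_left (m 2 (by omega)) (m 3 (by omega)))
        (zpowers_le.2 (e45 ▸ mul_mem (m 4 (by omega)) (m 5 (by omega)))))
        (zpowers_le.2 (eY 1 one_lt_two _ le_sup_left (m 4 (by omega))))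
  refine ⟨{ h with
    pres := P'
    ind := P.ind_derive I P' wR (fun _ _ => rfl) c2
    et := by simpa [et, nx] using P.W_eq c3
    ev := e23.trans ev
    es := e45.trans es
    ez := by simpa [app_pair, ea, eu, nx] using P.W_eq c6
    Z2 := fun e he => by
      obtain ⟨w, hw, rfl⟩ := mem e he
      simpa using P.W_eq (c7 w hw).1
    Zc := H_le fun i hi => mem_cen_iff.2 fun y hy => (mem_cen1.1 (H_le (K := cen1 (z i)) (fun j hj =>
      mem_cen1.2 (by simpa [nx] using (P.W_eq ((c8 i hi).1 j hj)).symm)) hy)).symm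
    ΦZ := H_le fun i hi => W_mem (c10 i hi).1
    aZ := ea ▸ x_mem (by omega)
    ZD := fun e he => by
      obtain ⟨w, hw, rfl⟩ := mem e he.1
      obtain ⟨w', hw', e⟩ := P'.mem wR (show 6 ≤ 7 by decide) he.2
      obtain ⟨c, hc, k⟩ := (c7 w hw).2.2.1 w' hw' (P.eqv I (e.trans (W_nx hw')))
      exact mem_nx P hc k
    aD := fun k => by
      obtain ⟨w, hw, e⟩ := P'.mem wR (show 6 ≤ 7 by decide) k
      exact P.ne I (c9 w hw) (by simpa [ea, W_nx hw] using e)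
    tZ := mem_normalizer_fintype fun y hy => H_le (K := (H z D.k).comap (MulAut.conj t).toMonoidHom)
      (fun i hi => by
        have := (P.conj sq (w := [D.k + 4]) (by simp [hn]) [i]).trans (P.W_col _).symm
        rw [W_cons, W_cons, W_nil, mul_one, mul_one, et] at this
        exact this.symm ▸ W_mem (c8 i hi).2 : ∀ i < D.k, t * z i * t⁻¹ ∈ H z D.k) hy
    Zt := fun e he => by
      obtain ⟨w, hw, rfl⟩ := mem e he.1
      refine H_le (fun i hi => ?_) (W_mem ((c7 w hw).2.1 (P.eqv I (by simpa [et] using mem_cen1.1 he.2))))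
      interval_cases i <;> exact mem_cl (by simp [ea, eu])
    EAt := EA ▸ EAt
    syA := by rw [EA, EU, ← et, ← H_succ]; exact sy
    σA := EA ▸ nor_of_act A c11 (fun r hr => x_mem (List.mem_range.1 hr))
      fun M hM => H_le fun i hi => hM i (List.mem_range.2 hi)
    ρB := nor_of_act B c12 (fun r hr => by
        simp only [Dat.LB, List.mem_append, List.mem_range, List.mem_cons, List.not_mem_nil, or_false] at hr
        rcases hr with k | rfl | rfl
        · exact mem_sup_left (x_mem k)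
        · exact e45 ▸ mem_sup_right (mul_mem (mem_cl (by simp)) (mem_cl (by simp)))
        · exact eY 1 one_lt_two _ le_sup_left (mem_sup_right (mem_cl (by simp))))
      fun M hM => sup_le (H_le fun i hi => hM i (by simp [Dat.LB, hi]))
        (cl_le.2 (by simpa using ⟨LB hM 0 two_pos, LB hM 1 one_lt_two⟩))
    noD := EU ▸ noD
    cls := EU ▸ cls
    fz := fun i hi => by
      interval_cases i
      exacts [isConj_iff.2 ⟨σ, (A.w (c10 0 two_pos).2.2.2.1).trans (P.W_eq (c10 0 two_pos).2.2.2.2.2.1)⟩,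
        isConj_iff.2 ⟨σ, (A.w (c10 1 one_lt_two).2.2.2.1).trans (P.W_eq (c10 1 one_lt_two).2.2.2.2.2.1)⟩,
        isConj_iff.2 ⟨ρ, (B.w (c10 0 two_pos).2.2.2.2.1).trans (P.W_eq (c10 0 two_pos).2.2.2.2.2.2.1)⟩,
        isConj_iff.2 ⟨ρ, (B.w (c10 1 one_lt_two).2.2.2.2.1).trans
          (P.W_eq (c10 1 one_lt_two).2.2.2.2.2.2.1)⟩]
    fus := fun i hi e he => by
      obtain ⟨w, hw, rfl⟩ := mem e he
      obtain ⟨ms, -, k1, k2⟩ := (c7 w hw).2.2.2 i hi
      exact ⟨_, W_mem k1, W_append z _ w ▸ run_conj P sq A B ms _, fun k =>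
        (k2 (k.imp (P.eqv I) (P.eqv I))).imp P.W_eq P.W_eq⟩ }, EU⟩

/-- The narrow data. -/
def dN : Dat := ⟨tbQ [], 3, [0, 1, 2, 3, 4, 7], sQ, [0, 1, 2, 5, 6, 7], rQ,
  [(0, [2]), (1, [2, 1, 0]), (2, [4]), (3, [4, 3]), (4, [6]), (5, [6, 5]), (6, [7])],
  [[5, 8], [8, 8, 6, 8], [7, 8, 6, 8], [5, 8, 6, 8], [8, 6, 8], [3, 9], [9, 9, 4, 9], [7, 9, 4, 9],
    [3, 9, 4, 9], [9, 4, 9]]⟩

/-- The wide data. -/
def dW : Dat := ⟨tbV false [], 4, [0, 1, 2, 3, 4, 5, 8], sV, [0, 1, 2, 3, 6, 7, 8], rV false,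
  [(0, [3, 2]), (1, [3, 2, 1, 0]), (2, [5, 2]), (3, [5, 2, 4]), (4, [7, 3]), (5, [7, 3, 6]), (6, [8])],
  [[6, 9], [9, 9, 7, 9], [8, 9, 7, 9], [6, 9, 7, 9], [9, 7, 9], [4, 10], [10, 10, 5, 10], [8, 10, 5, 10],
    [4, 10, 5, 10], [10, 5, 10]]⟩

theorem keyN : dN.Chk ∧ (∀ w ∈ subs 7, ∃ c ∈ subs 6,
      dN.T.same ([0, 7] ++ (w ++ [7, 0] ++ w.reverse)) (app dN.ws c) = true) ∧
    ∀ w ∈ subs 3, ∃ c ∈ subs 2, dN.T.same w (app dN.ws c) = true ∨
      dN.T.same (0 :: w) (app dN.ws c) = true := by decide +kernel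

theorem keyW : dW.Chk ∧ ∀ w ∈ subs 4, (∃ c ∈ subs 2, dW.T.same w (app dW.ws c) = true ∨
      dW.T.same (0 :: w) (app dW.ws c) = true ∨ dW.T.same (3 :: w) (app dW.ws c) = true ∨
      dW.T.same (3 :: 0 :: w) (app dW.ws c) = true) ∧ w.all (· ∈ dW.L') = true ∧
    ∀ c ∈ subs 4, dW.T.eqv (app dW.f' w) c = true → dW.T.same w [] = true ∨ dW.T.same w [0] = true ∨
      dW.T.same w [3] = true ∨ dW.T.same w [3, 0] = true := by decide +kernel

theorem jobN3 : H49.NW.JobN3.{u} := by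
  intro G _ _ t v s u a σ ρ y Y X h
  have P : Pres dN.T _ := h.pres
  obtain ⟨k, -⟩ := wr_of (D := dN) h.toBase keyN.1 (fun _ => rfl) P h.ind h.aσ h.aρ rfl rfl rfl rfl rfl
    (by rw [H_val]; exact h.EAt) (by rw [H_val _ (dN.k + 2)]; exact h.naA) (fun _ => h.noD) fun g hg gg => by
      obtain ⟨w, hw, e⟩ := h.cls hg gg
      refine ⟨w, hw, e.imp_right fun e => ⟨e, ?_⟩⟩
      obtain ⟨w, hw', rfl⟩ := P.mem h.wf (show 7 ≤ 8 by decide) hw
      obtain ⟨c, hc, k⟩ := keyN.2.1 w hw'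
      have := mem_nx P hc k
      rw [W_append, ← P.conj (fun _ => rfl) (List.all_eq_true.2 fun r hr => decide_eq_true
        ((nf_lt (nf_of_mem_subs hw') r hr).trans (by decide)))] at this
      simpa [e, mul_assoc] using this
  refine ⟨_, _, k, h.narA, h.narB, fun e he => ?_⟩
  obtain ⟨w, hw, rfl⟩ := P.mem h.wf (show 3 ≤ 8 by decide) he
  obtain ⟨c, hc, k⟩ := keyN.2.2 w hw
  exact k.imp (mem_nx P hc) (mem_nx P hc)

theorem jobW3 : H49.NW.JobW3.{u} := by
  intro G _ _ t v s u a σ ρ p q Y X h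
  have P : Pres dW.T _ := h.pres
  obtain ⟨k, e⟩ := wr_of (D := dW) h.toBase keyW.1 (fun _ => rfl) P h.ind h.aσ h.aρ rfl rfl rfl rfl rfl
    (by rw [H_val]; exact h.EAt) (by rw [H_val _ (dW.k + 2)]; exact h.naA) (fun _ => h.noD)
    fun g hg gg => (h.cls hg gg).imp fun w k => ⟨k.1, .inl k.2⟩
  refine ⟨_, _, k, x_mem (x := val [a, u, p, q, v, Y, s, X, t]) (i := 3) (by decide), ?_, ?_,
    fun e he => ?_, fun e he k => ?_, e ▸ P.card h.wf (by decide) (h.ind.mono (by decide))⟩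
  · rw [inv_eq_of_mul_eq_one_right h.tt]
    simpa [mul_assoc] using P.W_eq (w := [8, 3, 8]) (w' := [3, 0]) (by decide +kernel)
  · have := P.W_eq (w := [3, 3, 2]) (w' := [2]) (by decide +kernel)
    have k := h.aσ 2 (by simp)
    rw [show q * nx dW (val [a, u, p, q, v, Y, s, X, t]) 0 = p from this.trans (mul_one p)]
    simpa [app, sV] using k
  · obtain ⟨w, hw, rfl⟩ := P.mem h.wf (show 4 ≤ 9 by decide) he
    obtain ⟨c, hc, k⟩ := (keyW.2 w hw).1
    exact k.imp (mem_nx P hc) (Or.imp (mem_nx P hc)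
      (Or.imp (mem_nx P hc) fun k => by simpa [mul_assoc] using mem_nx P hc k))
  · obtain ⟨w, hw, rfl⟩ := P.mem h.wf (show 4 ≤ 9 by decide) he
    obtain ⟨c, hc, e⟩ := P.mem h.wf (show 4 ≤ 9 by decide) k
    exact ((keyW.2 w hw).2.2 c hc (P.eqv h.ind ((h.aρ.w (keyW.2 w hw).2.1).symm.trans e))).imp P.W_eq
      (Or.imp (fun k => by simpa using P.W_eq k) (Or.imp (fun k => by simpa using P.W_eq k)
        fun k => by simpa using P.W_eq k))

end H58.NW
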