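/- STD-2E6 (row S3327), slot LN: automorphisms of `E₆(K)` act semilinearly on a fixed line. -/
import Cfsg.Agent.H78.TEDef
import Cfsg.Agent.H84.SfSup

set_option autoImplicit false

namespace H58.TEL

open Cfsg.Lie H63 H65 H64 H64.SG H68 H46.SF H78.TE
open H84.SfSup (y44 lin44)

theorem ht8 : ∀ r : Rt E6, hN r = 8 → r = R6 66 ∨ r = R6 68 := by decide +kernel

theorem jobLN : JobLN := by
  intro K _ _ _ τ α s s' hs hs' e b
  obtain ⟨g, π, c, σ, hd⟩ := τ.ex α
  rw [(τ.spec α g π c σ hd).1]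
  have cm : ∀ a a' : K, xG E6 K 68 a * xG E6 K 66 a' = yE K 44 a' a := fun a a' =>
    (cY (r := R6 68) (s := R6 66) (by decide +kernel) a a').trans (y44 a' a).symm
  obtain ⟨t, t', tt, h⟩ : ∃ t t' : K, t' * t ≠ 0 ∧ ∀ b, (MulAut.conj g * α)
      (xG E6 K 68 (s * b) * xG E6 K 66 (s' * b)) = yE K 44 (σ b * t') (σ b * t) := by
    obtain ⟨e1, n1, h1⟩ := τ.std _ π c σ hd (R6 68)
    obtain ⟨e2, n2, h2⟩ := τ.std _ π c σ hd (R6 66)
    have k1 : e1 * σ s ≠ 0 := mul_ne_zero n1 ((map_ne_zero σ).2 hs)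
    have k2 : e2 * σ s' ≠ 0 := mul_ne_zero n2 ((map_ne_zero σ).2 hs')
    have k := fun b => (map_mul (MulAut.conj g * α) (xG E6 K 68 (s * b)) (xG E6 K 66 (s' * b))).trans
      (congrArg₂ (· * ·) (h1 (s * b)) (h2 (s' * b)))
    generalize hr : (if τ.gr (MulAut.conj g * α) = 1 then R6 68 else τ.gp (R6 68) : Rt E6) = r at k
    generalize hv : (if τ.gr (MulAut.conj g * α) = 1 then R6 66 else τ.gp (R6 66) : Rt E6) = v at k
    have : r = R6 68 ∧ v = R6 66 ∨ r = R6 66 ∧ v = R6 68 := by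
      split_ifs at hr hv
      · exact .inl ⟨hr.symm, hv.symm⟩
      · have a1 := ht8 r (by rw [← hr, hN_eq, τ.gp_ht, ← hN_eq]; decide +kernel)
        have a2 := ht8 v (by rw [← hv, hN_eq, τ.gp_ht, ← hN_eq]; decide +kernel)
        have a3 : r ≠ v := fun e => absurd (τ.gp.injective (hr.trans (e.trans hv.symm))) (by decide)
        rcases a1 with rfl | rfl <;> rcases a2 with rfl | rfl <;> simp at a3 ⊢
    rcases this with ⟨rfl, rfl⟩ | ⟨rfl, rfl⟩
    · refine ⟨_, _, mul_ne_zero k2 k1, fun b => (k b).trans ((cm _ _).trans ?_)⟩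
      rw [map_mul, map_mul]
      congr 1 <;> ring
    · refine ⟨_, _, mul_ne_zero k1 k2, fun b => (k b).trans ((y44 _ _).symm.trans ?_)⟩
      rw [map_mul, map_mul]
      congr 1 <;> ring
  have h1 := h 1
  rw [map_one, mul_one, mul_one, one_mul, one_mul, MulAut.mul_apply, e, cm, MulAut.conj_apply] at h1
  have h2 := lin44 (mul_ne_zero hs' hs) h1 (σ b)
  rw [← h b, MulAut.mul_apply, MulAut.conj_apply] at h2
  rw [cm (s * σ b), mul_comm s' (σ b), mul_comm s (σ b)]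
  exact (mul_left_cancel (mul_right_cancel h2)).symm

end H58.TEL
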