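/- STD-2E6 (row S3327), slot P2b: the big root subgroups (port of `H70/SgP2b` to `D₄`). -/
import Cfsg.Agent.H78.TESpec

set_option autoImplicit false
set_option linter.unusedSectionVars false

namespace H58.TEP

open Cfsg.Lie H63 H65 H64 H64.SG Subgroup
open H78.TE (D4 e4 PL Env Tr Fam JobP2b)

universe u

variable {F : Type} [Field F] [CharP F 2] {G : Type u} [Group G] {L : Subgroup G}
  {x : ℕ → F → G} {t : G}

variable (L x t) in
/-- `w` centralises `P₀ r` and translates `t` by `x r c`. -/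
def Tl (r : Rt D4) (w : G) (c : F) : Prop := w ∈ Cs (PL L x r) ∧ w * t * w⁻¹ = t * x r c

variable (L x t) in
/-- the elements of `A r` -/
def Il (r : Rt D4) (w : G) : Prop := ∃ c, Tl L x t r w c ∧ w * w = 1 ∧ (c = 0 → w ∈ XR D4 x r)

theorem ge1 {a : ℤ} (h : a = 1) : 0 ≤ a := by omega

theorem cjs_inv (n : G) (A : Subgroup G) : cjs n⁻¹ (cjs n A) = A := by
  refine (Subgroup.map_map _ _ _).trans ?_
  convert Subgroup.map_id A
  ext; simp [mul_assoc]

theorem pairing_sub {r s : Rt D4} (h : D4.pairing r s = 1) : ∃ u : Rt D4, rt r = rt s + rt u := by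
  obtain ⟨u, hu⟩ := exists_sub_of_pairing_pos (r := s) (s := r)
    (by rw [e4.pairing_comm]; omega) (by rintro rfl; rw [pairing_self] at h; omega)
  exact ⟨u, by rw [hu]; abel⟩

variable (L x t) in
/-- The hypotheses, under a local name. -/
structure En : Prop extends Env L x t

namespace En

variable (E : En L x t)
include E

theorem s : St D4 x := E.st

theorem xt (r : Rt D4) (c : F) : x r c * t = t * x r c := E.tc _ (E.le r c)

theorem xc {r s : Rt D4} (h : 0 ≤ D4.pairing r s) (a b : F) : x r a * x s b = x s b * x r a :=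
  e4.comm_of_nonneg E.s h a b

theorem mem_PL {r : Rt D4} {g : G} : g ∈ PL L x r ↔ g ∈ L ∧ ∀ c, x r c * g = g * x r c :=
  and_congr_right fun _ => ⟨fun h c => mem_Cs.1 h _ (x_mem_XR D4 x r c), fun h => mem_Cs.2 fun y hy => by
    obtain ⟨c, rfl⟩ := E.s.mem_XR.1 hy
    exact h c⟩

theorem cx {r s : Rt D4} {w : G} (hw : w ∈ Cs (PL L x r)) (h : 0 ≤ D4.pairing r s) (b : F) :
    x s b * w = w * x s b := mem_Cs.1 hw _ (E.mem_PL.2 ⟨E.le s b, fun c => E.xc h c b⟩)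

/-- `x r a` commutes with `x v 1`, `r + v` a root, only for `a = 0`. -/
theorem zero_of_comm {r v : Rt D4} (h : D4.pairing r v = -1) {a : F}
    (e : x r a * x v 1 = x v 1 * x r a) : a = 0 := by
  obtain ⟨u, hu⟩ := exists_add h
  have := e4.commutator_add E.s hu a 1
  rw [e, mul_one] at this
  exact E.inj u a (by rw [← this]; group)

/-- `C(t) ∩ C(P₀) = ⟨t⟩ X_r` -/
theorem ca (r : Rt D4) {k : G} (kt : t * k = k * t) (hk : k ∈ Cs (PL L x r)) :
    ∃ a, k = x r a ∨ k = x r a * t := by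
  obtain ⟨s, hs⟩ := e4.exists_pairing r (a := 1) (by simp)
  obtain ⟨a, b, h⟩ := E.cp r s (Or.inr hs) k kt (mem_Cs.2 fun g hg => mem_Cs.1 hk g hg.1)
  obtain ⟨v, h1, h2⟩ := e4.exists_third r s (a := 0) (b := -1) (by simp [hs]) (by simp) (by simp)
    (by simp) (by simp) (by simp [hs])
  have h3 := E.cx hk h1.ge (1 : F)
  have h4 := E.xc h1.ge a 1
  have hb : b = 0 := by
    refine E.zero_of_comm h2 (mul_left_cancel (a := x r a) ?_)
    rcases h with rfl | rfl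
    · rw [← mul_assoc, ← h3, ← mul_assoc, ← mul_assoc, h4]
    · rw [mul_assoc _ t, ← E.xt, ← mul_assoc, ← mul_assoc, ← mul_assoc, mul_left_inj] at h3
      rw [← mul_assoc, ← h3, ← mul_assoc, h4]
  rw [hb, E.s.x_zero, mul_one] at h
  exact ⟨a, h⟩

/-- An element normalising `L` that maps `X r` onto `X s`. -/
theorem cj_PL {n : G} (hn : n ∈ Ns L) {r s : Rt D4} (m : ∀ c, n * x r c * n⁻¹ ∈ XR D4 x s) {g : G}
    (hg : g ∈ PL L x s) : n⁻¹ * g * n ∈ PL L x r := by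
  refine E.mem_PL.2 ⟨by simpa using (mem_normalizer_iff.1 (inv_mem hn) _).1 hg.1, fun c => ?_⟩
  calc x r c * (n⁻¹ * g * n) = n⁻¹ * (n * x r c * n⁻¹ * g) * n := by group
    _ = _ := by rw [mem_Cs.1 hg.2 _ (m c)]; group

theorem self_nonneg (r : Rt D4) : 0 ≤ D4.pairing r r := by rw [pairing_self]; omega

theorem tl_mul {r : Rt D4} {w w' : G} {c c' : F} (h : Tl L x t r w c) (h' : Tl L x t r w' c') :
    Tl L x t r (w * w') (c + c') := by
  refine ⟨mul_mem h.1 h'.1, ?_⟩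
  calc w * w' * t * (w * w')⁻¹ = w * (w' * t * w'⁻¹) * w⁻¹ := by group
    _ = w * t * w⁻¹ * (w * x r c') * w⁻¹ := by rw [h'.2]; group
    _ = _ := by
      rw [h.2, ← E.cx h.1 (E.self_nonneg r), ← E.s.add r r.2]; group

theorem tl_inv {r : Rt D4} {w : G} {c : F} (h : Tl L x t r w c) : Tl L x t r w⁻¹ c := by
  refine ⟨inv_mem h.1, ?_⟩
  have h1 := E.cx h.1 (E.self_nonneg r) c
  calc w⁻¹ * t * w⁻¹⁻¹ = w⁻¹ * (t * x r c) * (x r c * w) := by
        rw [mul_assoc, mul_assoc, mul_assoc, ← mul_assoc (x r c), x_sq E.s]; group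
    _ = t * (w⁻¹ * (x r c * w)) := by rw [← h.2]; group
    _ = _ := by rw [h1, inv_mul_cancel_left]

theorem tl_x (r : Rt D4) (a : F) : Tl L x t r (x r a) 0 :=
  ⟨mem_Cs.2 fun _ hg => ((E.mem_PL.1 hg).2 a).symm, by
    rw [E.xt, E.s.x_zero, mul_inv_cancel_right, mul_one]⟩

theorem tl_t (r : Rt D4) : Tl L x t r t 0 :=
  ⟨mem_Cs.2 fun g hg => E.tc g hg.1, by rw [E.s.x_zero, mul_inv_cancel_right, mul_one]⟩

theorem tl_ker {r : Rt D4} {w : G} (h : Tl L x t r w 0) : ∃ a, w = x r a ∨ w = x r a * t := by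
  refine E.ca r ?_ h.1
  have := h.2
  rw [E.s.x_zero, mul_one, mul_inv_eq_iff_eq_mul] at this
  exact this.symm

theorem tl_uniq {r : Rt D4} {w : G} {c c' : F} (h : Tl L x t r w c) (h' : Tl L x t r w c') :
    c = c' := by
  have := mul_left_cancel (h.2.symm.trans h'.2)
  have e : x r (c + c') = 1 := by rw [← E.s.add r r.2, this, x_sq E.s]
  have := E.inj _ _ e
  rw [← CharTwo.neg_eq c']
  exact eq_neg_of_add_eq_zero_left this

theorem tl_zero {r : Rt D4} {w : G} {c : F} (h : Tl L x t r w c) (e : t * w = w * t) : c = 0 := by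
  have := h.2
  rw [← e, mul_inv_cancel_right, left_eq_mul] at this
  exact E.inj _ _ this

theorem tl_all (h : Tr L x t) (r : Rt D4) (c : F) : ∃ w, Tl L x t r w c := by
  obtain ⟨w, h1, h2⟩ := h c
  obtain ⟨ω, rfl⟩ := e4.exists_W (hi D4) r
  obtain ⟨n, hn, e⟩ := exists_mv E.s.stN ω
  replace hn : n ∈ L := (SG.gen_le_iff (S := Set.univ)).2 (fun r _ => E.le r) hn
  refine ⟨n * w * n⁻¹, mem_Cs.2 fun g hg => ?_, ?_⟩
  · have := mem_Cs.1 h1 _ (E.cj_PL (le_normalizer hn) (fun c => e _ c ▸ x_mem_XR D4 x _ c) hg)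
    calc g * (n * w * n⁻¹) = n * (n⁻¹ * g * n * w) * n⁻¹ := by group
      _ = _ := by rw [this]; group
  · calc n * w * n⁻¹ * t * (n * w * n⁻¹)⁻¹ = n * (w * (n⁻¹ * t * n) * w⁻¹) * n⁻¹ := by group
      _ = n * t * n⁻¹ * (n * x (hi D4) c * n⁻¹) := by
        rw [E.tc _ (inv_mem hn), inv_mul_cancel_right, h2]; group
      _ = _ := by rw [e, E.tc _ hn, mul_inv_cancel_right]

variable (h : Tr L x t)
include h

theorem step1 {s a r : Rt D4} (hr : rt r = rt s + rt a) {y : G} {d : F} (hy : Tl L x t s y d) (c : F) :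
    ∃ w b, Tl L x t r w (c * d) ∧ y⁻¹ * (x a c * y * (x a c)⁻¹) = w * x s b := by
  have hD := e4
  have sa := hD.pairing_of_add hr
  have rs : D4.pairing r s = 1 := by rw [hD.pairing_add_left hr, pairing_self, hD.pairing_comm, sa]; rfl
  obtain ⟨w, hw⟩ := E.tl_all h r (c * d)
  set u := y⁻¹ * (x a c * y * (x a c)⁻¹) with hu
  have u1 : u * t * u⁻¹ = t * x r (c * d) := by
    calc u * t * u⁻¹ = y⁻¹ * (x a c * (y * ((x a c)⁻¹ * t * x a c) * y⁻¹) * (x a c)⁻¹) * y := by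
          rw [hu]; group
      _ = y⁻¹ * ((x a c * t) * (x a c)⁻¹ * (x a c * x s d * (x a c)⁻¹)) * y := by
          rw [mul_assoc (x a c)⁻¹, ← E.xt, inv_mul_cancel_left, hy.2]; group
      _ = (y⁻¹ * t * y⁻¹⁻¹) * y⁻¹ * (x s d * (x r (c * d) * y)) := by
          rw [E.xt, mul_inv_cancel_right, hD.conj_add E.s (hr.trans (add_comm _ _))]; group
      _ = _ := by
          rw [(E.tl_inv hy).2, E.cx hy.1 (by rw [hD.pairing_comm, rs]; omega), ← mul_assoc (x s d) y,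
            E.cx hy.1 (E.self_nonneg s)]
          calc t * x s d * y⁻¹ * (y * x s d * x r (c * d)) = t * (x s d * x s d) * x r (c * d) := by
                group
            _ = _ := by rw [x_sq E.s, mul_one]
  have u2 : u ∈ Cs (PL L x r ⊓ PL L x s) := by
    refine mem_Cs.2 fun p hp => ?_
    have h1 := mem_Cs.1 hy.1 p hp.2
    have h2 : (x a c)⁻¹ * p * x a c * y = y * ((x a c)⁻¹ * p * x a c) := by
      refine mem_Cs.1 hy.1 _ (E.mem_PL.2 ⟨mul_mem (mul_mem (inv_mem (E.le a c)) hp.1.1) (E.le a c),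
        fun b => ?_⟩)
      have h3 := hD.conj_add E.s (hr.trans (add_comm _ _)) c b
      have h4 : Commute (x s b * x r (c * b)) p :=
        Commute.mul_left ((E.mem_PL.1 hp.2).2 b) ((E.mem_PL.1 hp.1).2 _)
      calc x s b * ((x a c)⁻¹ * p * x a c) = (x a c)⁻¹ * (x a c * x s b * (x a c)⁻¹ * p) * x a c := by
            group
        _ = _ := by rw [h3, h4.eq, ← h3]; group
    calc p * u = (p * y⁻¹) * x a c * y * (x a c)⁻¹ := by rw [hu]; group
      _ = y⁻¹ * x a c * ((x a c)⁻¹ * p * x a c * y) * (x a c)⁻¹ := by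
        rw [(Commute.inv_right h1).eq]; group
      _ = _ := by rw [h2, hu]; group
  obtain ⟨a1, b, e⟩ := E.cp r s (Or.inr rs) (w⁻¹ * u) (by
      calc t * (w⁻¹ * u) = w⁻¹ * (w * t * w⁻¹) * u := by group
        _ = _ := by rw [hw.2, ← u1]; group)
    (mul_mem (inv_mem (mem_Cs.2 fun g hg => mem_Cs.1 hw.1 g hg.1)) u2)
  rcases e with e | e
  · refine ⟨w * x r a1, b, by simpa using E.tl_mul hw (E.tl_x r a1), ?_⟩
    rw [mul_assoc, ← e, mul_inv_cancel_left]
  · refine ⟨w * x r a1 * t, b, by simpa using E.tl_mul (E.tl_mul hw (E.tl_x r a1)) (E.tl_t r), ?_⟩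
    rw [mul_assoc, ← E.xt, mul_assoc, ← mul_assoc (x r a1), ← e, mul_inv_cancel_left]

theorem step2 {s p v : Rt D4} (hv : rt v = rt s + rt p) {y : G} {d : F} (hy : Tl L x t s y d) (c : F) :
    Tl L x t v (y⁻¹ * (x p c * y * (x p c)⁻¹)) (c * d) := by
  have hD := e4
  have sp := hD.pairing_of_add hv
  obtain ⟨a, sa, pa⟩ := hD.exists_third s p (a := -1) (b := 1) (by simp [sp]) (by simp) (by simp)
    (by simp [sp]) (by simp) (by simp)
  obtain ⟨b, hb⟩ := pairing_sub pa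
  obtain ⟨r, hr⟩ := exists_add sa
  have hv' : rt v = rt r + rt b := by rw [hv, hr, hb, add_assoc]
  have sb : D4.pairing s b = 0 := by have := pairing_add s hb; omega
  have va : D4.pairing v a = 0 := by rw [hD.pairing_add_left hv]; omega
  have vs : D4.pairing v s = 1 := by rw [hD.pairing_add_left hv, pairing_self, hD.pairing_comm, sp]; rfl
  have ra : D4.pairing r a = 1 := by rw [hD.pairing_add_left hr, pairing_self, sa]; rfl
  have rs : D4.pairing r s = 1 := by rw [hD.pairing_add_left hr, pairing_self, hD.pairing_comm, sa]; rfl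
  obtain ⟨w1, b1, h1, e1⟩ := E.step1 h hr hy c
  obtain ⟨w2, b2, h2, e2⟩ := E.step1 h hv hy c
  obtain ⟨w3, b3, h3, e3⟩ := E.step1 h hv' h1 1
  set g := x b 1 with hg
  have gy : g * y = y * g := E.cx hy.1 sb.ge 1
  have gs : g * x s b1 = x s b1 * g := (E.xc sb.ge b1 1).symm
  have ga : g * x a c * g⁻¹ = x a c * x p c := by
    rw [hg, hD.conj_add E.s (hb.trans (add_comm _ _)), one_mul]
  have k1 : w1 * w3 * x r b3 * x s b1 = w1 * x s b1 * w2 * (x s b2 * x r (c * b2)) := by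
    calc w1 * w3 * x r b3 * x s b1 = g * w1 * g⁻¹ * x s b1 := by
          rw [mul_assoc w1, ← e3]; group
      _ = g * (w1 * x s b1) * g⁻¹ := by rw [mul_assoc (g * w1), (Commute.inv_left gs).eq]; group
      _ = (g * y⁻¹ * g⁻¹) * ((g * x a c * g⁻¹) * (g * y * g⁻¹) * (g * x a c * g⁻¹)⁻¹) := by
          rw [← e1]; group
      _ = y⁻¹ * x a c * y * (y⁻¹ * (x p c * y * (x p c)⁻¹)) * (x a c)⁻¹ := by
          rw [ga, gy, (Commute.inv_right gy).eq]; group
      _ = y⁻¹ * (x a c * y * (x a c)⁻¹) * (x a c * w2) * (x a c)⁻¹ *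
          (x a c * x s b2 * (x a c)⁻¹) := by rw [e2]; group
      _ = _ := by
          rw [e1, E.cx h2.1 va.ge, hD.conj_add E.s (hr.trans (add_comm _ _))]; group
  have k2 : w2⁻¹ * w3 = x s b2 * x r (c * b2 + b3) := by
    rw [mul_assoc w1 (x s b1), E.cx h2.1 (ge1 vs), mul_assoc, mul_assoc, mul_assoc, mul_right_inj,
      mul_assoc w2, ← mul_assoc (x s b1), E.s.x_comm, mul_assoc (x s b2), ← E.xc (ge1 rs),
      ← mul_assoc, ← mul_assoc, ← mul_assoc, mul_left_inj] at k1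
    rw [← E.s.add r r.2, inv_mul_eq_iff_eq_mul, ← mul_assoc, ← mul_assoc, ← k1, mul_assoc,
      x_sq E.s, mul_one]
  have k3 := E.cx (mul_mem (inv_mem h2.1) h3.1) va.ge (1 : F)
  rw [k2, mul_assoc, E.xc (ge1 ra), ← mul_assoc, ← mul_assoc, mul_left_inj] at k3
  rw [e2, E.zero_of_comm sa k3.symm, E.s.x_zero, mul_one]
  exact h2

theorem step3 {s p v : Rt D4} (hv : rt v = rt s + rt p) {y : G} {d : F} (hy : Tl L x t s y d) (c : F) :
    y⁻¹ * (x p c * y * (x p c)⁻¹) * (y⁻¹ * (x p c * y * (x p c)⁻¹)) = 1 := by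
  have hD := e4
  have vp : D4.pairing v p = 1 := by
    rw [hD.pairing_add_left hv, pairing_self, hD.pairing_of_add hv]; rfl
  have := E.cx (E.step2 h hv hy c).1 (ge1 vp) c
  calc _ = y⁻¹ * x p c * y * ((x p c)⁻¹ * (y⁻¹ * (x p c * y * (x p c)⁻¹))) := by group
    _ = y⁻¹ * (x p c * x p c) * y * ((x p c)⁻¹ * (x p c)⁻¹) := by
      rw [(Commute.inv_left this).eq]; group
    _ = 1 := by rw [x_inv E.s, x_sq E.s]; group

omit h in
theorem il_x (r : Rt D4) (a : F) : Il L x t r (x r a) :=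
  ⟨0, E.tl_x r a, x_sq E.s r a, fun _ => x_mem_XR D4 x r a⟩

theorem il_comm {s p v : Rt D4} (hv : rt v = rt s + rt p) {y : G} (hy : Il L x t s y) (c : F) :
    Il L x t v (y⁻¹ * (x p c * y * (x p c)⁻¹)) := by
  obtain ⟨d, h1, -, h3⟩ := hy
  refine ⟨_, E.step2 h hv h1 c, E.step3 h hv h1 c, fun e => ?_⟩
  rcases mul_eq_zero.1 e with rfl | rfl
  · rw [E.s.x_zero]; simp
  · obtain ⟨b, rfl⟩ := E.s.mem_XR.1 (h3 rfl)
    rw [e4.conj_add E.s (hv.trans (add_comm _ _)), inv_mul_cancel_left]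
    exact x_mem_XR D4 x _ _

omit h in
/-- two involutions with the same translation differ by an element of `X r` -/
theorem same {r : Rt D4} {w w' : G} {c : F} (h1 : Tl L x t r w c) (h2 : Tl L x t r w' c)
    (ww : w * w = 1) (ww' : w' * w' = 1) (c0 : c ≠ 0) : ∃ a, w' = w * x r a := by
  obtain ⟨a, e | e⟩ := E.tl_ker (r := r) (w := w⁻¹ * w')
    (by simpa [CharTwo.add_self_eq_zero] using E.tl_mul (E.tl_inv h1) h2)
  · exact ⟨a, by rw [← e, mul_inv_cancel_left]⟩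
  · exfalso
    have e' : w' = w * x r a * t := by rw [mul_assoc, ← e, mul_inv_cancel_left]
    refine c0 (E.inj r c (mul_left_cancel (a := t) ?_))
    have h3 := E.cx h1.1 (E.self_nonneg r) a
    rw [← h1.2, inv_eq_of_mul_eq_one_right ww, mul_one]
    have c1 : Commute (x r a) (t * w) := Commute.mul_right (E.xt r a) h3
    calc w * t * w = w * (x r a * x r a) * (t * w) * (t * t) := by rw [x_sq E.s, E.tt]; group
      _ = w * x r a * (x r a * (t * w)) * t * t := by group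
      _ = (w * x r a * t * (w * x r a * t)) * t := by rw [c1.eq]; group
      _ = t := by rw [← e', ww', one_mul]

theorem il_col {r s : Rt D4} (rs : D4.pairing r s = 1) {w y : G} (hw : Il L x t r w)
    (hy : Il L x t s y) : y * w = w * y := by
  have hD := e4
  obtain ⟨e, w1, w2, w3⟩ := hw
  obtain ⟨d, y1, y2, y3⟩ := hy
  by_cases e0 : e = 0
  · obtain ⟨b, rfl⟩ := E.s.mem_XR.1 (w3 e0)
    exact (E.cx y1.1 (by rw [hD.pairing_comm, rs]; omega) b).symm
  by_cases d0 : d = 0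
  · obtain ⟨b, rfl⟩ := E.s.mem_XR.1 (y3 d0)
    exact E.cx w1.1 (ge1 rs) b
  obtain ⟨p, hp⟩ := pairing_sub rs
  have k1 := E.step2 h hp y1 (e / d)
  have k2 := E.step3 h hp y1 (e / d)
  rw [div_mul_cancel₀ e d0] at k1
  obtain ⟨a, rfl⟩ := E.same k1 w1 k2 w2 e0
  refine Commute.mul_right ?_ (E.cx y1.1 (by rw [hD.pairing_comm, rs]; omega) a).symm
  set z := x p (e / d) * y * (x p (e / d))⁻¹ with hz
  have zz : z * z = 1 := by
    calc z * z = x p (e / d) * (y * y) * (x p (e / d))⁻¹ := by rw [hz]; group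
      _ = 1 := by rw [y2]; group
  have yi := inv_eq_of_mul_eq_one_right y2
  rw [yi] at k2 ⊢
  have : z * y = y * z := by
    rw [← inv_eq_of_mul_eq_one_right k2, mul_inv_rev, yi, inv_eq_of_mul_eq_one_right zz]
  show y * (y * z) = y * z * y
  rw [mul_assoc, this]

theorem il_onto (r : Rt D4) (c : F) : ∃ w, Il L x t r w ∧ Tl L x t r w c := by
  by_cases c0 : c = 0
  · exact ⟨_, E.il_x r 0, c0 ▸ E.tl_x r 0⟩
  obtain ⟨s, p, hp⟩ := e4.exists_sum r
  obtain ⟨y, hy⟩ := E.tl_all h s c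
  have := E.step2 h hp hy 1
  rw [one_mul] at this
  exact ⟨_, ⟨c, this, E.step3 h hp hy 1, fun e => absurd e c0⟩, this⟩

theorem il_ab {r : Rt D4} {w w' : G} (hw : Il L x t r w) (hw' : Il L x t r w') :
    w * w' = w' * w := by
  have hD := e4
  obtain ⟨e, w1, w2, w3⟩ := hw
  have ⟨e', v1, _⟩ := hw'
  by_cases e0 : e = 0
  · obtain ⟨b, rfl⟩ := E.s.mem_XR.1 (w3 e0)
    exact E.cx v1.1 (E.self_nonneg r) b
  obtain ⟨s, p, hp⟩ := hD.exists_sum r
  have sp := hD.pairing_of_add hp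
  obtain ⟨y, hy, y1⟩ := E.il_onto h s e
  have k1 := E.step2 h hp y1 1
  have k2 := E.step3 h hp y1 1
  rw [one_mul] at k1
  obtain ⟨a, rfl⟩ := E.same k1 w1 k2 w2 e0
  have c1 : Commute y w' := E.il_col h
    (by rw [hD.pairing_add_left hp, pairing_self, hD.pairing_comm, sp]; rfl) hw' hy
  have c2 : Commute (x p 1) w' :=
    E.cx v1.1 (by rw [hD.pairing_add_left hp, pairing_self, sp]; omega) 1
  exact (c1.inv_left.mul_left ((c2.mul_left c1).mul_left c2.inv_left)).mul_left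
    (E.cx v1.1 (E.self_nonneg r) a)

omit h in
theorem il_nt (r : Rt D4) : ¬ Il L x t r t := by
  rintro ⟨c, h1, -, h3⟩
  obtain ⟨a, e⟩ := E.s.mem_XR.1 (h3 (E.tl_zero h1 rfl))
  exact E.nt (e ▸ E.le r a)

/-- the big root subgroup -/
def AA (r : Rt D4) : Subgroup G where
  carrier := {w | Il L x t r w}
  one_mem' := by simpa [E.s.x_zero] using E.il_x r 0
  inv_mem' := fun {w} hw => by
    have ⟨_, _, h2, _⟩ := hw
    rwa [inv_eq_of_mul_eq_one_right h2]
  mul_mem' := fun {w w'} hw hw' => by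
    have ab := E.il_ab h hw hw'
    obtain ⟨c, w1, w2, w3⟩ := hw
    obtain ⟨c', v1, v2, v3⟩ := hw'
    refine ⟨_, E.tl_mul w1 v1, ?_, fun e => ?_⟩
    · calc w * w' * (w * w') = w * (w' * w) * w' := by group
        _ = (w * w) * (w' * w') := by rw [← ab]; group
        _ = 1 := by rw [w2, v2, mul_one]
    · have : c' = c := by rw [← CharTwo.neg_eq c]; exact eq_neg_of_add_eq_zero_right e
      subst this
      by_cases c0 : c' = 0
      · exact mul_mem (w3 c0) (v3 c0)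
      · obtain ⟨a, rfl⟩ := E.same w1 v1 w2 v2 c0
        rw [← mul_assoc, w2, one_mul]
        exact x_mem_XR D4 x r a

omit h in
theorem tl_of {r : Rt D4} {w : G} (h1 : w ∈ Cs (PL L x r)) (h2 : w * t * w⁻¹ * t⁻¹ ∈ XR D4 x r) :
    ∃ c, Tl L x t r w c := by
  obtain ⟨c, e⟩ := E.s.mem_XR.1 h2
  exact ⟨c, h1, by rw [← E.xt, ← e, inv_mul_cancel_right]⟩

omit h in
theorem card_XR (r : Rt D4) : Nat.card (XR D4 x r) = Nat.card F :=
  (Nat.card_congr (Equiv.ofBijective (fun c => (⟨x r c, x_mem_XR D4 x r c⟩ : XR D4 x r))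
    ⟨fun a b e => by
      have e' : x r a = x r b := congrArg Subtype.val e
      have := E.inj r (a + b) (by rw [← E.s.add r r.2, e', x_sq E.s])
      rw [← CharTwo.neg_eq b]
      exact eq_neg_of_add_eq_zero_left this,
    fun ⟨g, hg⟩ => by
      obtain ⟨c, rfl⟩ := E.s.mem_XR.1 hg
      exact ⟨c, rfl⟩⟩)).symm

omit h in
theorem il_cj {n : G} (hn : n ∈ Cz t) {r s : Rt D4} (e : cjs n (XR D4 x r) = XR D4 x s) {w : G}
    (hw : Il L x t r w) : Il L x t s (n * w * n⁻¹) := by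
  obtain ⟨c, w1, w2, w3⟩ := hw
  have nt : n * t * n⁻¹ = t := by rw [← mem_Cz.1 hn, mul_inv_cancel_right]
  have m : ∀ g ∈ XR D4 x r, n * g * n⁻¹ ∈ XR D4 x s := fun g hg => e ▸ ⟨g, hg, rfl⟩
  obtain ⟨c', hc⟩ := E.s.mem_XR.1 (m _ (x_mem_XR D4 x r c))
  refine ⟨c', ⟨mem_Cs.2 fun g hg => ?_, ?_⟩, ?_, fun e0 => ?_⟩
  · have h1 := E.cj_PL (E.ct hn) (fun c => m _ (x_mem_XR D4 x r c)) hg
    calc g * (n * w * n⁻¹) = n * (n⁻¹ * g * n * w) * n⁻¹ := by group
      _ = _ := by rw [mem_Cs.1 w1.1 _ h1]; group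
  · calc n * w * n⁻¹ * t * (n * w * n⁻¹)⁻¹ = n * (w * (n⁻¹ * t * n) * w⁻¹) * n⁻¹ := by group
      _ = n * t * n⁻¹ * (n * x r c * n⁻¹) := by
        rw [mul_assoc n⁻¹, mem_Cz.1 hn, inv_mul_cancel_left, w1.2]; group
      _ = _ := by rw [nt, hc]
  · calc _ = n * (w * w) * n⁻¹ := by group
      _ = 1 := by rw [w2]; group
  · rw [e0, E.s.x_zero] at hc
    exact m _ (w3 (E.inj r c (by simpa using hc)))

theorem fam : Fam L x t (E.AA h) := by
  have le : ∀ r, XR D4 x r ≤ E.AA h r := fun r g hg => by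
    obtain ⟨c, rfl⟩ := E.s.mem_XR.1 hg
    exact E.il_x r c
  have tc : ∀ r, ∀ a ∈ E.AA h r, a * t * a⁻¹ * t⁻¹ ∈ XR D4 x r := fun r a ⟨c, h1, _⟩ => by
    rw [h1.2, ← E.xt, mul_inv_cancel_right]
    exact x_mem_XR D4 x r c
  have onto : ∀ (r : Rt D4) (c : F), ∃ a ∈ E.AA h r, a * t * a⁻¹ = t * x r c := fun r c =>
    let ⟨w, h1, h2⟩ := E.il_onto h r c; ⟨w, h1, h2.2⟩
  have fix : ∀ r, ∀ a ∈ E.AA h r, a ∈ Cz t → a ∈ XR D4 x r := fun r a ⟨c, h1, _, h3⟩ ha =>
    h3 (E.tl_zero h1 (mem_Cz.1 ha))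
  refine ⟨le, fun r a ⟨_, _, h2, _⟩ => h2, fun r => ?_, E.il_nt, tc, onto, fix,
    fun r a ⟨_, h1, _⟩ => h1.1, fun r w h1 h2 => ?_, fun n hn r s e => ?_,
    fun r s rs a ha => mem_Cs.2 fun b hb => E.il_col h rs ha hb, fun r s v hv a ha c => ?_⟩
  · let f : E.AA h r →* G := MonoidHom.mk' (fun a => a * t * (a : G)⁻¹ * t⁻¹) (by
      rintro ⟨a, c, a1, -⟩ ⟨b, d, b1, -⟩
      show a * b * t * (a * b)⁻¹ * t⁻¹ = a * t * a⁻¹ * t⁻¹ * (b * t * b⁻¹ * t⁻¹)
      rw [(E.tl_mul a1 b1).2, a1.2, b1.2, ← E.xt, ← E.xt, ← E.xt, ← E.s.add r r.2]; group)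
    have h1 : f.range = XR D4 x r := by
      refine le_antisymm (by rintro _ ⟨a, rfl⟩; exact tc r a a.2) fun g hg => ?_
      obtain ⟨c, rfl⟩ := E.s.mem_XR.1 hg
      obtain ⟨a, ha, e⟩ := onto r c
      refine ⟨⟨a, ha⟩, ?_⟩
      show a * t * a⁻¹ * t⁻¹ = _
      rw [e, ← E.xt, mul_inv_cancel_right]
    have h2 : f.ker = (XR D4 x r).subgroupOf (E.AA h r) := by
      ext a
      show (a : G) * t * (a : G)⁻¹ * t⁻¹ = 1 ↔ (a : G) ∈ XR D4 x r
      rw [mul_inv_eq_one, mul_inv_eq_iff_eq_mul]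
      refine ⟨fun e => fix r a a.2 (mem_Cz.2 e.symm), fun e => ?_⟩
      obtain ⟨c, e⟩ := E.s.mem_XR.1 e
      rw [e, E.xt]
    rw [← card_mul_index f.ker, index_ker, h1, h2,
      Nat.card_congr (subgroupOfEquivOfLe (le r)).toEquiv, E.card_XR, sq]
  · obtain ⟨c, hc⟩ := E.tl_of h1 h2
    obtain ⟨a, a1, a2⟩ := E.il_onto h r c
    obtain ⟨b, e | e⟩ := E.tl_ker (r := r) (w := a⁻¹ * w)
      (by simpa [CharTwo.add_self_eq_zero] using E.tl_mul (E.tl_inv a2) hc)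
    · left
      rw [inv_mul_eq_iff_eq_mul.1 e]
      exact mul_mem (S := Subgroup G) a1 (E.il_x r b)
    · right
      rw [inv_mul_eq_iff_eq_mul.1 e, mul_assoc, mul_assoc, E.tt, mul_one]
      exact mul_mem (S := Subgroup G) a1 (E.il_x r b)
  · refine le_antisymm (by rintro _ ⟨a, ha, rfl⟩; exact E.il_cj hn e ha) fun b hb => ?_
    refine ⟨n⁻¹ * b * n⁻¹⁻¹, E.il_cj (inv_mem hn) ?_ hb, by simp [mul_assoc]⟩
    rw [← e]
    exact cjs_inv n _
  · have := E.il_comm h hv ha c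
    have ⟨_, _, h2, _⟩ := ha
    have ai := inv_eq_of_mul_eq_one_right h2
    rw [ai, ← mul_assoc, ← mul_assoc] at this
    rwa [ai]

end En

theorem jobP2b : H78.TE.JobP2b.{u} := fun _ _ _ _ _ _ _ _ _ _ E h => ⟨_, En.fam ⟨E⟩ h⟩

end H58.TEP
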