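/- R7 (row S3101), slot A5: the automorphisms of `Ω₅(q)`, with a kit for counting arguments. -/
import Cfsg.Agent.H27.R7Spec
import Cfsg.Agent.H56.OutStd
import Cfsg.Agent.H56.AutSurj
import Cfsg.Agent.S0814
import Cfsg.Agent.S0301

set_option autoImplicit false

namespace H58.R7A

open H56 H58 H27.R7 H12.OW QuadraticMap Module

variable {F V V' : Type} [Field F] [AddCommGroup V] [Module F V] [AddCommGroup V'] [Module F V']
  {Q : QuadraticForm F V} {Q' : QuadraticForm F V'}

theorem au_congr {T : V ≃+ V'} {σ : F ≃+* F} {c : F} (h : IsSemisim Q Q' T σ c) (a : Au Q') : Au Q :=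
  fun β => by
    let e : Om Q ≃* Om Q' := H55.commutatorCongr h.conj
    obtain ⟨S, hS⟩ := a ((e.symm.trans β).trans e)
    refine ⟨((h.trans (Gam_isSemisim S)).trans h.symm).toGam, fun x => O.ext fun v => ?_⟩
    obtain ⟨v, rfl⟩ := ((h.trans (Gam_isSemisim S)).trans h.symm).toGam.surjective v
    have k := congrArg (fun g : O Q' => g (S (T v))) (hS (e x))
    simp only [MulEquiv.trans_apply, MulEquiv.symm_apply_apply, Gam.conjO_apply,
      Gam.inv_apply_apply] at k
    rw [Gam.conjO_apply, Gam.inv_apply_apply]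
    refine T.injective ?_
    change T ((β x : O Q) (T.symm (S (T v)))) = T (T.symm (S (T ((x : O Q) v))))
    rw [T.apply_symm_apply, ← h.conj_apply, T.apply_symm_apply, ← h.conj_apply]
    exact k

variable [Finite F] [FiniteDimensional F V]

theorem au_of_rho (hQ : Q.polarBilin.Nondegenerate) (h5 : 5 ≤ finrank F V)
    (hs : Function.Surjective (rho Q)) : Au Q := fun β => by
  obtain ⟨p, hp⟩ := CharP.exists F
  have := Fact.mk (CharP.char_is_prime F p)
  obtain ⟨T, hT⟩ := hs (H55.quotCenterCongr β)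
  have hE : ¬ IsExc Q := not_isExc_of_finrank (by omega)
  let K : Subgroup (commutator (O Q)) := ((commutator (O Q)).subtype.comp β.toMonoidHom).eqLocus
    ((Gam.conjO Q T).toMonoidHom.comp (commutator (O Q)).subtype)
  have hK : EG Q ≤ K.map (commutator (O Q)).subtype := EG_le fun a b _ _ _ => by
    let x : commutator (O Q) := ⟨_, eich_mem_commutator hQ hE a b⟩
    have px : x ^ p = 1 := Subtype.ext (eich_pow_char p a b)
    refine ⟨x, eq_of_pow_char p (k := 1) ?_ ?_ ?_, rfl⟩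
    · rw [pow_one, ← map_pow, px, map_one]
    · rw [pow_one, ← map_pow, px, map_one]
    · have e := (MulEquiv.congr_fun hT (QuotientGroup.mk x)).symm
      rw [rho_mk] at e
      simp only [inv_mul_eq_iff_eq_mul, mul_one]
      exact (pOm_mk_eq_iff hQ (by omega) (β x) _).1 e
  refine ⟨T, fun x => ?_⟩
  obtain ⟨y, hy, e⟩ := hK ((commutator_eq_EG_fin hQ hE (by omega)).le x.2)
  obtain rfl : y = x := Subtype.ext e
  exact hy

theorem au_of_card (hQ : Q.polarBilin.Nondegenerate) (h5 : 5 ≤ finrank F V)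
    (h0 : Nat.card (Cfsg.Out (POm Q)) ≠ 0) (h : Nat.card (Cfsg.Out (POm Q)) = Nat.card (GN Q)) :
    Au Q := by
  have := Nat.finite_of_card_ne_zero h0
  have hs := ((outHom_injective hQ h5).bijective_of_nat_card_le h.le).2
  refine au_of_rho hQ h5 fun α => ?_
  obtain ⟨g, e⟩ := hs (QuotientGroup.mk α)
  obtain ⟨T, rfl⟩ := QuotientGroup.mk_surjective g
  rw [outHom_mk] at e
  obtain ⟨x, hx⟩ := QuotientGroup.eq.1 e
  obtain ⟨x, rfl⟩ := QuotientGroup.mk_surjective x
  exact ⟨T * Gam.ofO Q x, by rw [map_mul, rho_ofO, hx, mul_inv_cancel_left]⟩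

theorem exists_pf (F : Type) [Field F] [Fintype F] (h2 : (2 : F) ≠ 0) : ∃ (p f : ℕ) (_ : Fact p.Prime),
    p ≠ 2 ∧ 1 ≤ f ∧ Fintype.card F = p ^ f ∧ Odd (p ^ f) := by
  obtain ⟨p, _, f, pp, hF⟩ := FiniteField.card' F
  have := Fact.mk pp
  have p2 := mt (two_eq_zero_iff_of_card hF).2 h2
  exact ⟨p, f, this, p2, f.2, hF, (pp.odd_of_ne_two p2).pow⟩

theorem jobA5 : JobA5 := fun F _ _ h2 V _ _ _ Q hQ h5 => by
  have := Fintype.ofFinite F
  obtain ⟨p, f, _, p2, f1, hF, od⟩ := exists_pf F h2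
  obtain ⟨c, hc, g, hg⟩ := similar_qOdd hQ (m := 2) h5
  refine au_congr (isSemisim_of_linearEquiv g hc hg).symm ?_
  have nd := qOdd_nondeg 2 h2
  obtain ⟨e⟩ := Cfsg.Agent.S0301.result (F := F) (hF ▸ od)
  obtain ⟨e'⟩ := GN_qOdd hF p2 (m := 2) one_le_two
  have q3 : 3 ≤ p ^ f := by
    have := Fintype.one_lt_card (α := F)
    obtain ⟨k, hk⟩ := od
    omega
  have k1 := Cfsg.Agent.S0814.result p f f1 hF 2 le_rfl fun _ => q3
  have g2 : Nat.gcd 2 (p ^ f - 1) = 2 := Nat.gcd_eq_left (by obtain ⟨k, hk⟩ := od; omega)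
  rw [if_neg fun l => p2 l.2, one_mul, g2, ← Nat.card_congr (MulAut.congr e).toEquiv,
    card_mulAut_POmega _ (coe_qOdd 2 F) nd (by simp), Nat.card_congr e.toEquiv,
    Nat.card_congr (outCongr (pOmegaEquiv _ (coe_qOdd 2 F))).toEquiv] at k1
  have k2 := Nat.eq_of_mul_eq_mul_right Nat.card_pos k1
  refine au_of_card nd (by simp) (k2.trans_ne (by omega)) ?_
  rw [k2, Nat.card_congr e'.toEquiv, Nat.card_congr Multiplicative.toAdd, Nat.card_prod, Nat.card_zmod,
    Nat.card_zmod]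

end H58.R7A
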