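import Cfsg.Agent.H41.ItSpec

/-! Tower IT (S3193, S3194), slot P1: separated sides. -/

set_option autoImplicit false
set_option linter.unusedSectionVars false

namespace H58.ItP1

open Subgroup H41.IT

universe u

variable {G : Type u} [Group G] [Finite G]

omit [Finite G] in
theorem mem_C {g h : G} : h ∈ C g ↔ Commute h g := mem_centralizer_singleton_iff

omit [Finite G] in
theorem c_conj (g x : G) : c (g * x * g⁻¹) = c x := by
  have : C (g * x * g⁻¹) = (C x).map (MulAut.conj g).toMonoidHom := by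
    ext h
    obtain ⟨h, rfl⟩ := (MulAut.conj g).surjective h
    rw [show (MulAut.conj g) h = (MulAut.conj g).toMonoidHom h from rfl,
      mem_map_iff_mem (MulAut.conj g).injective, mem_C, mem_C]
    exact ⟨fun k => Commute.of_map (f := MulAut.conj g) (MulAut.conj g).injective k,
      fun k => k.map (MulAut.conj g)⟩
  rw [c, this, card_map_of_injective (MulAut.conj g).injective]

theorem left_mem {g h : G} (k : Commute g h) (o : (orderOf g).Coprime (orderOf h)) :
    g ∈ zpowers (g * h) := by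
  have e : (g * h) ^ orderOf h = g ^ orderOf h := by rw [k.mul_pow, pow_orderOf_eq_one, mul_one]
  obtain ⟨m, hm⟩ := exists_pow_eq_self_of_coprime o.symm
  rw [← e] at hm
  have := pow_mem (pow_mem (mem_zpowers (g * h)) (orderOf h)) m
  rwa [hm] at this

theorem cp {g h : G} (k : Commute g h) (o : (orderOf g).Coprime (orderOf h)) :
    C (g * h) = C g ⊓ C h := by
  ext a
  rw [mem_inf, mem_C, mem_C, mem_C]
  refine ⟨fun e => ⟨?_, ?_⟩, fun e => e.1.mul_right e.2⟩
  · obtain ⟨i, hi⟩ := left_mem k o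
    exact hi ▸ e.zpow_right i
  · obtain ⟨i, hi⟩ := left_mem k.symm o.symm
    exact hi ▸ (k.eq ▸ e).zpow_right i

theorem mul_ne {g h : G} (k : Commute g h) (o : (orderOf g).Coprime (orderOf h)) (g1 : g ≠ 1) :
    g * h ≠ 1 := fun e => g1 (by simpa [e] using left_mem k o)

/-- A central element of a Sylow subgroup. -/
theorem zs (H : Subgroup G) {s : ℕ} (hs : s.Prime) (hd : s ∣ Nat.card H) :
    ∃ h ∈ H, orderOf h = s ∧ ¬ s * Nat.card ↥(H ⊓ C h) ∣ Nat.card H := by
  have := Fact.mk hs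
  obtain ⟨P⟩ : Nonempty (Sylow s H) := inferInstance
  have : Nontrivial P := P.1.nontrivial_iff_ne_bot.2 (P.ne_bot_of_dvd_card hd)
  have := P.isPGroup'.center_nontrivial
  obtain ⟨k, k0, hk⟩ := (P.isPGroup'.to_subgroup (center P)).nontrivial_iff_card.1 inferInstance
  obtain ⟨z, hz⟩ := exists_prime_orderOf_dvd_card' (G := center P) s (hk ▸ dvd_pow_self s k0.ne')
  refine ⟨z.1.1.1, z.1.1.2, by simpa only [orderOf_coe] using hz, fun e => ?_⟩
  have le : P.1 ≤ (C z.1.1.1).subgroupOf H := fun a ha => mem_subgroupOf.2 (mem_C.2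
    (congrArg (fun w : P => w.1.1) (mem_center_iff.1 z.2 ⟨a, ha⟩)))
  have e1 : Nat.card ((C z.1.1.1).subgroupOf H) = Nat.card ↥(H ⊓ C z.1.1.1) := by
    rw [← inf_subgroupOf_left]
    exact Nat.card_congr (subgroupOfEquivOfLe inf_le_left).toEquiv
  rw [← card_mul_index ((C z.1.1.1).subgroupOf H), e1, mul_comm s] at e
  exact P.not_dvd_index ((Nat.dvd_of_mul_dvd_mul_left Nat.card_pos e).trans (index_dvd_of_le le))

theorem into {A : Subgroup G} (hA : Odd A.index) {t : G} (ht : orderOf t = 2) :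
    ∃ g, g⁻¹ * t * g ∈ A := by
  have hP : IsPGroup 2 (zpowers t) := IsPGroup.of_card (n := 1) (by rw [Nat.card_zpowers, ht]; rfl)
  obtain ⟨q, hq⟩ := hP.nonempty_fixed_point_of_prime_not_dvd_card (G ⧸ A)
    (fun e => (Nat.not_even_iff_odd.2 hA) (even_iff_two_dvd.2 e))
  obtain ⟨g, rfl⟩ := QuotientGroup.mk_surjective q
  have := QuotientGroup.eq.1 (show ((g : G) : G ⧸ A) = (t * g : G) from (hq ⟨t, mem_zpowers t⟩).symm)
  exact ⟨g, by rwa [mul_assoc]⟩

theorem prime_pow {x : G} (h : x ≠ 1) : ∃ z : G, (orderOf z).Prime ∧ C x ≤ C z ∧ z ∈ zpowers x := by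
  obtain ⟨p, hp, hd⟩ := Nat.exists_prime_and_dvd (mt orderOf_eq_one_iff.1 h)
  refine ⟨x ^ (orderOf x / p), by rwa [orderOf_pow_orderOf_div (orderOf_pos x).ne' hd],
    fun a ha => mem_C.2 ((mem_C.1 ha).pow_right _), npow_mem_zpowers _ _⟩

omit [Finite G] in
theorem ne_one {z : G} (h : (orderOf z).Prime) : z ≠ 1 := fun e =>
  Nat.not_prime_one (by rwa [e, orderOf_one] at h)

variable {x y : G} (k : K2 x y) (sep : ∀ g : G, g ≠ 1 → c g ∣ c x → ¬ c g ∣ c y)
include sep

theorem same {g h : G} (g1 : g ≠ 1) (e : Commute g h) (o : (orderOf g).Coprime (orderOf h))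
    (h1 : c g ∣ c x) : ¬ c h ∣ c y := fun h2 =>
  sep _ (mul_ne e o g1) ((card_dvd_of_le (cp e o ▸ inf_le_left)).trans h1)
    ((card_dvd_of_le (cp e o ▸ inf_le_right)).trans h2)

include k

theorem two (sz : SZ x y) (hx : Odd (C x).index) {t : G} (ht : orderOf t = 2) (ty : c t ∣ c y) :
    ∃ z : G, orderOf z = 2 ∧ c z = c x ∧ Commute z t ∧ c t ≠ c y := by
  obtain ⟨g, hg⟩ := into hx ht
  have x1 : g * x * g⁻¹ ≠ 1 := fun e => k.x1 (by simpa using e)
  obtain ⟨z, pz, lz, -⟩ := prime_pow x1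
  have cz : c z = c x := k.mx z (ne_one pz) (c_conj g x ▸ card_dvd_of_le lz)
  have m : t ∈ C (g * x * g⁻¹) := mem_C.2 (by
    simpa [mul_assoc] using (mem_C.1 hg).map (MulAut.conj g))
  have e : Commute z t := (mem_C.1 (lz m)).symm
  refine ⟨z, ?_, cz, e, fun e1 => sz.nc z t (ne_one pz) (ne_one (ht ▸ Nat.prime_two)) cz e1 e⟩
  by_contra o
  exact same sep (ne_one pz) e (ht ▸ (Nat.coprime_primes pz Nat.prime_two).2 o) cz.dvd ty

theorem key (sz : SZ x y) (hx : Odd (C x).index) {d₂ d₃ : ℕ}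
    (hy : ∀ g : G, g ≠ 1 → c g ∣ c y → c g = c y ∨ c g = d₂ ∨ c g = d₃) {t : G}
    (ht : orderOf t = 2) (ty : c t ∣ c y) {h : G} (h1 : h ≠ 1) (ho : Odd (orderOf h))
    (e : Commute t h) : 2 * c (t * h) ∣ c t := by
  obtain ⟨z, oz, cz, ez, ne⟩ := two k sep sz hx ht ty
  have t1 : t ≠ 1 := ne_one (ht ▸ Nat.prime_two)
  have step : ∀ h : G, h ≠ 1 → Odd (orderOf h) → Commute t h → C (t * h) = C t ⊓ C h ∧
      c (t * h) ≠ c t ∧ (c (t * h) = d₂ ∨ c (t * h) = d₃) := fun h h1 ho e => by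
    have o : (orderOf t).Coprime (orderOf h) := ht ▸ (Nat.coprime_two_left.2 ho)
    have e1 := cp e o
    have d1 : c (t * h) ∣ c t := card_dvd_of_le (e1 ▸ inf_le_left)
    have n1 : c (t * h) ≠ c t := fun e2 => by
      have e3 : C (t * h) = C t := eq_of_le_of_card_ge (e1 ▸ inf_le_left) e2.ge
      have e4 : z ∈ C t ⊓ C h := by rw [← e1, e3]; exact mem_C.2 ez
      have hy' : c h ∣ c y := (k.cov h h1).resolve_left fun e5 => same sep h1 e.symm o.symm e5 ty
      exact same sep (ne_one (oz ▸ Nat.prime_two)) (mem_C.1 e4.2)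
        (oz ▸ (Nat.coprime_two_left.2 ho)) cz.dvd hy'
    exact ⟨e1, n1, (hy _ (mul_ne e o t1) (d1.trans ty)).resolve_left fun e2 =>
      ne (Nat.dvd_antisymm ty (e2 ▸ d1))⟩
  obtain ⟨e1, n1, v1⟩ := step h h1 ho e
  obtain ⟨m, hm⟩ : c (t * h) ∣ c t := card_dvd_of_le (e1 ▸ inf_le_left)
  obtain ⟨s, hs, l, rfl⟩ := Nat.exists_prime_and_dvd (n := m) fun e2 => n1 (by rw [hm, e2, mul_one])
  have d : s * c (t * h) ∣ c t := ⟨l, by rw [hm]; ring⟩
  rcases hs.eq_two_or_odd' with rfl | so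
  · exact d
  obtain ⟨h', m', o', n'⟩ := zs (C t) hs ((dvd_mul_right _ _).trans d)
  obtain ⟨e2, n2, v2⟩ := step h' (ne_one (o' ▸ hs)) (o' ▸ so) (mem_C.1 m').symm
  have v0 := (hy t t1 ty).resolve_left ne
  have : c (t * h') = c (t * h) := by omega
  rw [← e2] at n'
  rw [← this] at d
  exact absurd d n'

omit k sep in
theorem jobP1 : JobP1.{u} := by
  intro G _ _ x y k sz hx sep d₁ d₂ d₃ h1 hy t ht
  have t1 : t ≠ 1 := ne_one (ht ▸ Nat.prime_two)
  have tx : c t ∣ c x := (k.cov t t1).resolve_right fun ty => by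
    obtain ⟨y0, p0, l0, -⟩ := prime_pow k.y1
    have c0 : c y0 = c y := k.my y0 (ne_one p0) (card_dvd_of_le l0)
    have o0 : Odd (orderOf y0) := p0.eq_two_or_odd'.resolve_left fun e => by
      obtain ⟨-, -, -, -, ne⟩ := two k sep sz hx e c0.dvd
      exact ne c0
    have d2 : 2 ∣ c t := ht ▸ (C t).orderOf_dvd_natCard (mem_C.2 (Commute.refl t))
    obtain ⟨v, mv, ov, nv⟩ := zs (C y0) Nat.prime_two (d2.trans (ty.trans c0.symm.dvd))
    have e := mem_C.1 mv
    have o : (orderOf v).Coprime (orderOf y0) := ov ▸ (Nat.coprime_two_left.2 o0)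
    have vy : c v ∣ c y := (k.cov v (ne_one (ov ▸ Nat.prime_two))).resolve_left fun e1 =>
      same sep (ne_one (ov ▸ Nat.prime_two)) e o e1 c0.dvd
    have := key k sep sz hx hy ov vy (ne_one p0) o0 e
    rw [inf_comm, ← cp e o] at nv
    exact nv (this.trans (vy.trans c0.symm.dvd))
  refine ⟨fun g g1 hg => (h1 g g1 (hg.trans tx)).imp_left fun e => ?_, fun n _ g g1 hg => ?_⟩
  · exact Nat.dvd_antisymm hg (e ▸ tx)
  · have e := (h1 t t1 tx).resolve_right n
    rw [e] at hg ⊢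
    exact k.mx g g1 hg

end H58.ItP1
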