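import Cfsg.Agent.H58.QF1
import Cfsg.Agent.H57.PslOut
import Cfsg.Agent.H9.R2Syl
import Cfsg.Agent.H86.QDSub

/-! Tower QF, job `JobFL3`. -/

set_option autoImplicit false

namespace H58.QF

open Cfsg Subgroup H14 H98 H97 H36.QE H36.QF H57 Matrix H58.QE
open H14.CO (cen cen1 nor cm Tw mem_cen mem_cen1)
open scoped MatrixGroups H61 commutatorElement

universe u

section Gen

theorem inv_mem_comm {K : Type*} [Group K] [Finite K] (h1 : H36.QE.One K) (h4 : ∀ x : K, Tw x → x ^ 4 = 1)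
    (h8 : 2 ^ 3 ∣ Nat.card K) {c : K} (hc : CO.Inv c) : c ∈ commutator K := by
  by_contra hn
  obtain ⟨T, hT⟩ := exists_isSyl 2 (⊤ : Subgroup K)
  have k2 : ∀ x ∈ T, x ∈ commutator K → x = 1 := fun x hx h => by_contra fun h0 => by
    obtain ⟨m, hm⟩ := (CO.tw_of_mem hT.isPGroup hx).exists_inv h0
    obtain ⟨g, rfl⟩ := isConj_iff.1 (h1 _ c hm hc)
    exact hn ((inferInstance : (commutator K).Normal).conj_mem _ (pow_mem h m) g)
  have k3 : ∀ x y : K, x * y * x⁻¹ * y⁻¹ ∈ commutator K := fun x y =>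
    commutator_mem_commutator (mem_top x) (mem_top y)
  have k4 : ∀ x y : T, Commute x y := fun x y => Subtype.ext (by
    have := k2 _ (mul_mem (mul_mem (mul_mem x.2 y.2) (inv_mem x.2)) (inv_mem y.2)) (k3 x y)
    rwa [mul_inv_eq_one, mul_inv_eq_iff_eq_mul] at this)
  let f : T →* T := MonoidHom.mk' (fun x => x * x) fun x y => by
    rw [← sq, ← sq, ← sq, (k4 x y).mul_pow]
  have k5 : Nat.card f.ker ≤ 2 := by
    refine (Nat.card_le_card_of_injective (fun x : f.ker => x = 1) fun x y h => ?_).trans (by simp)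
    by_cases hx : x = 1
    · exact hx.trans (h.to_iff.1 hx).symm
    obtain ⟨g, hg⟩ := isConj_iff.1 (h1 y.1.1 x.1.1
      ⟨fun e => hx (h.to_iff.2 (Subtype.ext (Subtype.ext e))), congrArg Subtype.val y.2⟩
      ⟨fun e => hx (Subtype.ext (Subtype.ext e)), congrArg Subtype.val x.2⟩)
    exact Subtype.ext (Subtype.ext (mul_inv_eq_one.1
      (k2 _ (mul_mem x.1.2 (inv_mem y.1.2)) (hg ▸ k3 g y))))
  have k6 : f.range ≤ f.ker := by
    rintro _ ⟨x, rfl⟩
    refine Subtype.ext (Eq.trans ?_ (h4 x (CO.tw_of_mem hT.isPGroup x.2)))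
    change x.1 * x.1 * (x.1 * x.1) = _
    rw [← sq, ← sq, ← pow_mul]
  have k7 := card_eq_card_quotient_mul_card_subgroup f.ker
  rw [Nat.card_congr (QuotientGroup.quotientKerEquivRange f).toEquiv] at k7
  have k8 := Nat.le_of_dvd Nat.card_pos (pow_dvd_of_syl hT h8)
  have k9 := Nat.mul_le_mul ((card_le_of_le k6).trans k5) k5
  omega

theorem noa_gen {Γ : Type*} [Group Γ] [Finite Γ] {α : MulAut Γ} (hz : ∀ z ∈ center Γ, z ^ 3 = 1)
    (h1 : H36.QE.One (Γ ⧸ center Γ)) {j : ℕ} (hj : ¬ 2 ^ (j + 1) ∣ Nat.card (Fix α))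
    (hk : 2 ^ (j + 1) ∣ Nat.card (Γ ⧸ center Γ)) (h : ∀ c : Fix α, CO.Inv c → c ∈ commutator (Fix α)) :
    NOa (quotCenterAut Γ α) := by
  obtain ⟨Q, hQ⟩ := exists_isSyl 2 (Fix (quotCenterAut Γ α))
  refine noa_of h1 (two_fix hz hj) hk hQ fun c hc _ ic => commutator_mono (fixQ_le α) (fixQ_le α) ?_
  obtain ⟨s, hs, rfl⟩ : c ∈ FixQ α := cube_of_sq ic.2 ▸ pow_mem_fixQ α hz (hQ.le hc)
  have h2 : QuotientGroup.mk' (center Γ) (s ^ 3) = QuotientGroup.mk' (center Γ) s := by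
    rw [map_pow, cube_of_sq ic.2]
  have h3 := hz (s * s) ((QuotientGroup.eq_one_iff _).1 ic.2)
  rw [← pow_two, ← pow_mul, mul_comm, pow_mul, pow_two] at h3
  have h4 := mem_map_of_mem (Fix α).subtype (h (⟨s, hs⟩ ^ 3)
    ⟨fun e => ic.1 (by rw [← h2, show s ^ 3 = 1 from congrArg Subtype.val e, map_one]), Subtype.ext h3⟩)
  rw [commutator_def, map_commutator, ← MonoidHom.range_eq_map, range_subtype] at h4
  rw [← map_commutator, ← h2]
  exact mem_map_of_mem _ h4

end Gen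

variable {F : Type} [Field F]

local notation "S3" => ProjectiveSpecialLinearGroup (Fin 3) F
local notation "pr" => QuotientGroup.mk' (center SL(3, F))

theorem sl_four (h2 : (2 : F) = 0) (s : SL(3, F)) (hs : Tw s) : s ^ 4 = 1 := by
  obtain ⟨k, hk⟩ := hs
  have : CharP F 2 := (CharP.charP_iff_prime_eq_zero Nat.prime_two).2 h2
  have h3 : IsNilpotent (s.1 - 1) := ⟨2 ^ k, by
    rw [sub_pow_char_pow_of_commute 2 k (Commute.one_right _), one_pow, sub_eq_zero]
    exact congrArg Subtype.val hk⟩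
  have h4 := aeval_self_charpoly (s.1 - 1)
  rw [sub_eq_zero.1 (isNilpotent_charpoly_sub_pow_of_isNilpotent h3).eq_zero, Fintype.card_fin,
    Polynomial.aeval_X_pow] at h4
  have h5 := sub_pow_char_pow_of_commute 2 2 (Commute.one_right s.1)
  rw [one_pow, pow_eq_zero_of_le (by norm_num) h4, eq_comm, sub_eq_zero] at h5
  exact Subtype.ext h5

theorem eq_of_pr {s t : SL(3, F)} (hs : s ^ 4 = 1) (ht : t ^ 4 = 1) (h : pr s = pr t) : s = t := by
  obtain ⟨z, hz, rfl⟩ := (QuotientGroup.mk'_eq_mk' _).1 h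
  rw [Commute.mul_pow (mem_center_iff.1 hz s), hs, one_mul] at ht
  rw [eq_one_of_three_four (center_cube (.inl rfl) z hz) ht, mul_one]

/-- the unitriangular matrices -/
def uu (a b c : F) : SL(3, F) := ⟨!![1, a, c; 0, 1, b; 0, 0, 1], by simp [det_fin_three]⟩

theorem uu_val (a b c : F) : (uu a b c).1 = !![1, a, c; 0, 1, b; 0, 0, 1] := rfl

theorem uu_mul (a b c a' b' c' : F) : uu a b c * uu a' b' c' = uu (a + a') (b + b') (c + c' + a * b') := by
  refine Subtype.ext ?_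
  change (uu a b c).1 * (uu a' b' c').1 = _
  simp only [uu_val]
  ext i j
  fin_cases i <;> fin_cases j <;> simp [Matrix.mul_apply, Fin.sum_univ_succ] <;> ring

theorem uu_zero : uu (0 : F) 0 0 = 1 := Subtype.ext (by rw [uu_val]; exact one_fin_three.symm)

theorem uu_inj {a b c a' b' c' : F} (h : uu a b c = uu a' b' c') : a = a' ∧ b = b' ∧ c = c' :=
  ⟨congrFun₂ (congrArg Subtype.val h) 0 1, congrFun₂ (congrArg Subtype.val h) 1 2,
    congrFun₂ (congrArg Subtype.val h) 0 2⟩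

theorem uu_inv (a b c : F) : (uu a b c)⁻¹ = uu (-a) (-b) (a * b - c) :=
  inv_eq_of_mul_eq_one_right (by rw [uu_mul, ← uu_zero]; congr 1 <;> ring)

theorem uu_sq (h2 : (2 : F) = 0) (a b c : F) : uu a b c * uu a b c = uu 0 0 (a * b) := by
  rw [uu_mul]
  congr 1
  exacts [by linear_combination a * h2, by linear_combination b * h2, by linear_combination c * h2]

theorem uu_four (h2 : (2 : F) = 0) (a b c : F) : uu a b c ^ 4 = 1 := by
  rw [show 4 = 2 * 2 from rfl, pow_mul, sq, sq, uu_sq h2, uu_sq h2, mul_zero, uu_zero]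

theorem pr_uu (h2 : (2 : F) = 0) {a b c a' b' c' : F} (h : pr (uu a b c) = pr (uu a' b' c')) :
    a = a' ∧ b = b' ∧ c = c' := uu_inj (eq_of_pr (uu_four h2 ..) (uu_four h2 ..) h)

variable (F) in
/-- the unitriangular subgroup of `PSL_3` -/
def UU : Subgroup S3 where
  carrier := {x | ∃ a b c, pr (uu a b c) = x}
  one_mem' := ⟨0, 0, 0, by rw [uu_zero, map_one]⟩
  mul_mem' := by
    rintro _ _ ⟨a, b, c, rfl⟩ ⟨a', b', c', rfl⟩
    exact ⟨_, _, _, by rw [← map_mul, uu_mul]⟩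
  inv_mem' := by
    rintro _ ⟨a, b, c, rfl⟩
    exact ⟨_, _, _, by rw [← map_inv, uu_inv]⟩

theorem lift_key (h2 : (2 : F) = 0) {g : GL (Fin 3) F} {σ : RingAut F} {s : SL(3, F)} (hs : s ^ 4 = 1)
    {a b c : F} (h : (pslDiag (Fin 3) F g * pslField (Fin 3) F σ) (pr s) = pr (uu a b c)) :
    g.1 * s.1.map σ = !![1, a, c; 0, 1, b; 0, 0, 1] * g.1 :=
  (Units.mul_inv_eq_iff_eq_mul _).1 (congrArg Subtype.val
    (eq_of_pr (s := (slDiag (Fin 3) F g * slField (Fin 3) F σ) s)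
      (by rw [← map_pow, hs, map_one]) (uu_four h2 a b c) h))

theorem lift_gr (h2 : (2 : F) = 0) {g : GL (Fin 3) F} {σ : RingAut F} {a b c a' b' c' : F}
    (h : (pslDiag (Fin 3) F g * pslField (Fin 3) F σ * pslGraph (Fin 3) F) (pr (uu a b c)) =
      pr (uu a' b' c')) :
    g.1 * !![1, -a, a * b - c; 0, 1, -b; 0, 0, 1]ᵀ.map σ = !![1, a', c'; 0, 1, b'; 0, 0, 1] * g.1 := by
  rw [← uu_val, ← uu_inv]
  exact lift_key h2 (s := slGraph (Fin 3) F (uu a b c)) (by rw [← map_pow, uu_four h2, map_one]) h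

theorem diag_cube (g : GL (Fin 3) F) : pslDiag _ F g ^ 3 ∈ H36.QF.Inn S3 := by
  rw [← map_pow]
  exact pslDiag_mem_inn_iff.2 ⟨GeneralLinearGroup.det g, by rw [map_pow, Fintype.card_fin]⟩

theorem inner_of [Finite F] (h2 : (2 : F) = 0) {β : MulAut S3} (hβ : Tw β)
    (h : (∀ a b c, ∃ a' c', β (pr (uu a b c)) = pr (uu a' b c')) ∨
      ∀ a b c, ∃ b' c', β (pr (uu a b c)) = pr (uu a b' c')) : β ∈ H36.QF.Inn S3 := by
  obtain ⟨g, σ, rfl | ⟨-, rfl⟩⟩ := psl_aut β
  · have hd := g.det_ne_zero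
    rw [det_fin_three] at hd
    have hσ : σ = 1 := RingEquiv.ext fun x => by
      rcases h with h | h
      · obtain ⟨a, c, e⟩ := h 0 1 0
        obtain ⟨a', c', e'⟩ := h 0 x 0
        have k := congrFun₂ (lift_key h2 (uu_four h2 ..) e) 1
        have k0 := k 0
        have k1 := k 1
        have k2 := k 2
        have k3 := congrFun₂ (lift_key h2 (uu_four h2 ..) e') 1 2
        simp [uu_val, Matrix.mul_apply, Fin.sum_univ_succ] at k0 k1 k2 k3
        exact mul_left_cancel₀ (show g.1 2 2 ≠ 0 from fun e => hd (by simp [k0, k1, e]))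
          (by change _ = _ * x; linear_combination k3 - σ x * k2)
      · obtain ⟨b, c, e⟩ := h 1 0 0
        obtain ⟨b', c', e'⟩ := h x 0 0
        have k := congrFun₂ (lift_key h2 (uu_four h2 ..) e)
        have k' := congrFun₂ (lift_key h2 (uu_four h2 ..) e') 0
        have k0 := k 2 1
        have k1 := k 0 0
        have k2 := k 0 1
        have k3 := k 0 2
        have k4 := k' 1
        have k5 := k' 2
        simp [uu_val, Matrix.mul_apply, Fin.sum_univ_succ] at k0 k1 k2 k3 k4 k5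
        rw [k0, mul_zero, add_zero] at k1
        refine mul_left_cancel₀ (show g.1 1 1 * g.1 2 2 - g.1 1 2 * g.1 2 1 ≠ 0 from fun e => hd ?_) ?_
        · rw [k0, k1]
          linear_combination g.1 0 0 * e
        · change _ = _ * x
          linear_combination g.1 2 2 * k4 + g.1 2 1 * k5 - σ x * (g.1 2 2 * k2 + g.1 2 1 * k3)
    rw [hσ, map_one, mul_one] at hβ ⊢
    exact zpowers_le.2 (diag_cube g) (hβ.mem_zpowers_odd (by decide))
  · have hd := g.det_ne_zero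
    rw [det_fin_three] at hd
    rcases h with h | h
    · obtain ⟨a, c, e⟩ := h 1 0 0
      obtain ⟨a', c', e'⟩ := h 0 0 1
      have k0 := congrFun₂ (lift_gr h2 e) 1 0
      have k1 := congrFun₂ (lift_gr h2 e) 2 0
      have k2 := congrFun₂ (lift_gr h2 e') 1 0
      have k3 := congrFun₂ (lift_gr h2 e') 2 0
      simp [Matrix.mul_apply, Fin.sum_univ_succ] at k0 k1 k2 k3
      simp [k0, k1, k2, k3] at hd
    · obtain ⟨b, c, e⟩ := h 0 1 0
      obtain ⟨b', c', e'⟩ := h 0 0 1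
      have k := congrFun₂ (lift_gr h2 e)
      have k' := congrFun₂ (lift_gr h2 e')
      have k0 := k 0 1
      have k1 := k 1 1
      have k2 := k 2 1
      have k3 := k' 0 0
      have k4 := k' 1 0
      have k5 := k' 0 1
      have k6 := k' 1 1
      simp [Matrix.mul_apply, Fin.sum_univ_succ] at k0 k1 k2 k3 k4 k5 k6
      have k7 : g.1 0 2 = 0 := k5.elim (fun e => by simpa [e] using k3) fun e => by simpa [e] using k0
      have k8 : g.1 1 2 = 0 := k6.elim (fun e => by simpa [e] using k4) fun e => by simpa [e] using k1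
      simp [k2, k7, k8] at hd

variable [Fintype F]

theorem two_l3e {f : ℕ} (hf : 1 ≤ f) (e : Nat.card F = 2 ^ f) : 2 ^ (f * 3) ∣ Nat.card S3 :=
  dvd_psl hf e (card_sl3 e ▸ pow_mul 2 f 3 ▸ Dvd.intro _ rfl)

theorem syl_UU (h2 : (2 : F) = 0) : IsSyl 2 (UU F) ⊤ := by
  obtain ⟨f, hf, e⟩ := exists_card_pow h2
  have h1 : Nat.card (UU F) = 2 ^ (f * 3) := by
    rw [← Nat.card_congr (Equiv.ofBijective (fun x : F × F × F =>
      (⟨_, x.1, x.2.1, x.2.2, rfl⟩ : UU F)) ⟨fun x y h => ?_, ?_⟩), Nat.card_prod, Nat.card_prod, e]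
    · ring
    · rintro ⟨_, a, b, c, rfl⟩
      exact ⟨(a, b, c), rfl⟩
    · obtain ⟨h3, h4, h5⟩ := pr_uu h2 (congrArg Subtype.val h)
      exact Prod.ext h3 (Prod.ext h4 h5)
  obtain ⟨U, hU⟩ := exists_isSyl 2 (⊤ : Subgroup S3)
  exact hU.of_card_ge (IsPGroup.of_card h1) le_top (h1 ▸ card_le_of_two hU.isPGroup le_top
    fun h => (mod_sl3 h2 e hf).two ((card_top (G := S3) ▸ h).trans (card_quotient_dvd_card _)))

theorem one_l3e (h2 : (2 : F) = 0) : H36.QE.One S3 :=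
  one_quot (center_cube (.inl rfl)) (one_sl h2 (.inr rfl))

theorem uf_l3e (hz : center S3 = ⊥) (h2 : (2 : F) = 0) : UF S3 := by
  have hj := conj_inj hz
  have hs : ∀ {a b c : F}, pr (uu a b c) * pr (uu a b c) = 1 ↔ a * b = 0 := fun {a b c} => by
    rw [← map_mul, uu_sq h2]
    exact ⟨fun h => (pr_uu h2 (h.trans (by rw [uu_zero, map_one]))).2.2, fun h => by rw [h, uu_zero, map_one]⟩
  have hc : ∀ {a b c : F}, pr (uu 1 0 0) * pr (uu a b c) = pr (uu a b c) * pr (uu 1 0 0) → b = 0 :=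
    fun h => by
      rw [← map_mul, ← map_mul, uu_mul, uu_mul] at h
      simpa using (pr_uu h2 h).2.2
  refine uf2_of (syl_UU h2) (fun h => one_ne_zero (hc (congrArg Subtype.val
      (h.1.1 ⟨_, 1, 0, 0, rfl⟩ ⟨_, 0, 1, 0, rfl⟩)))) (fun x _ y _ _ _ => one_l3e h2 x y)
    ⟨fun a ha h => inner_of h2 ha (.inl fun a b c => ⟨a, c, h ⟨a, b, c, rfl⟩⟩), ?_⟩ fun P hP h1 h3 => ?_
  · rintro _ ⟨a, b, c, rfl⟩ h
    rw [hs, hc (mem_cen.1 h _ ⟨1, 0, 0, rfl⟩), mul_zero]
  obtain ⟨β, h4, h5⟩ := SetLike.not_le_iff_exists.1 h3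
  by_contra! h
  have h6 : ∀ a b c : F, β (pr (uu a b c)) ∈ UU F := fun a b c => by
    rw [← (syl_UU h2).eq_of_le (hP.comap_of_injective _ hj) (map_le_iff_le_comap.1 h1) le_top, mem_comap,
      ← aut_conj]
    exact mul_mem (mul_mem h4 (h1 (mem_map_of_mem _ ⟨a, b, c, rfl⟩))) (inv_mem h4)
  choose A B C h7 using h6
  have h8 : ∀ a b c, ∃ d, MulAut.conj (pr (uu (A a b c - a) (B a b c - b) d)) ∈ ⁅P, P⁆ := fun a b c => by
    have := commutator_mem_commutator h4 (h1 (mem_map_of_mem _ ⟨a, b, c, rfl⟩))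
    rw [commutatorElement_def, aut_conj, ← map_inv, ← map_mul, ← h7, ← map_inv, ← map_mul, uu_inv,
      uu_mul, ← sub_eq_add_neg, ← sub_eq_add_neg] at this
    exact ⟨_, this⟩
  have h9 : ∀ {a b c : F}, MulAut.conj (pr (uu a b c)) ∈ ⁅P, P⁆ → a * b = 0 := fun k =>
    hs.1 (hj (by rw [map_mul, h _ k, map_one]))
  refine h5 (inner_of h2 (CO.tw_of_mem hP h4) (by_contra fun k => ?_))
  simp only [not_or, not_forall, not_exists] at k
  obtain ⟨⟨a, b, c, k1⟩, a', b', c', k2⟩ := k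
  have k3 : B a b c - b ≠ 0 := fun e => k1 _ _ (by rw [← h7, sub_eq_zero.1 e])
  have k4 : A a' b' c' - a' ≠ 0 := fun e => k2 _ _ (by rw [← h7, sub_eq_zero.1 e])
  obtain ⟨d, k5⟩ := h8 a b c
  obtain ⟨d', k6⟩ := h8 a' b' c'
  have k7 := mul_mem k5 k6
  rw [← map_mul, ← map_mul, uu_mul] at k7
  have k8 := h9 k7
  rw [(mul_eq_zero.1 (h9 k5)).resolve_right k3, (mul_eq_zero.1 (h9 k6)).resolve_left k4, zero_add,
    add_zero] at k8
  exact mul_ne_zero k4 k3 k8

theorem ks_l3e (hz : center S3 = ⊥) (h2 : (2 : F) = 0) (h4 : Nat.card F ≠ 2 ^ 1) : KS S3 := by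
  have h1 := one_l3e h2
  have hc := center_cube (F := F) (n := 3) (.inl rfl)
  refine ⟨?_, fun a ha => ?_, ni_of_zi fun _ => zi_of_one h1, .inl (uf_l3e hz h2)⟩
  · obtain ⟨π, h, -⟩ := exists_aut_psl_proj (F := F) (n := 3) le_rfl
    refine outD_of_sub (N := π.ker) (commutator_le.2 fun a _ b _ => ?_) (m := 3) (by decide) ?_
    · rw [MonoidHom.mem_ker, map_commutatorElement, commutatorElement_eq_one_iff_mul_comm]
      exact Prod.ext ((IsCyclic.isMulCommutative (α := RingAut F)).1.1 _ _) (mul_comm _ _)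
    · rw [h]
      rintro _ ⟨g, rfl⟩
      exact diag_cube g
  have h0 : a ≠ 1 := fun e => ha.2 (e ▸ one_mem _)
  obtain ⟨g, rfl⟩ | ⟨σ, h5, h6, h7⟩ | ⟨-, J, rfl⟩ | ⟨-, σ, h5, h6, h7⟩ := reps (by norm_num) ha.1
  · exact absurd (diag_inner (.inl rfl) ha.1) ha.2
  · obtain ⟨f, hf, e0, e1⟩ := card_fixed h2 h5 h6
    obtain ⟨e⟩ := fix_field (n := 3) σ
    exact (Mod.noa hc h1 ((mod_sl3 (two_sub h2 _) e0 hf).congr e)
      ((pow_dvd_pow 2 (by omega)).trans (two_l3e (by omega) e1))).of_isConj h7.symm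
  · obtain ⟨f, hf, e1⟩ := exists_card_pow h2
    obtain ⟨e⟩ := fix_graph h2
    have h5 : 2 ≤ f := hf.lt_of_ne (by rintro rfl; exact h4 e1)
    exact (quot_grA (F := F) ▸ Mod.noa hc h1 ((mod_sl2 h2 e1 h5).congr e)
      ((pow_dvd_pow 2 (by omega)).trans (two_l3e hf e1))).of_isConj (conj_gram ha.1 h0).symm
  · obtain ⟨f, hf, -, e1⟩ := card_fixed h2 h5 h6
    obtain ⟨-, e2, e3⟩ := involution_eq_pow (Nat.card_eq_fintype_card.symm.trans e1) h5 h6
    rw [Nat.mul_div_cancel _ two_pos] at e2 e3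
    rw [show pslField (Fin 3) F σ * pslGraph _ F = quotCenterAut _ (slField _ F σ * slGraph _ F) from
      (map_mul (quotCenterAut _) (slField _ F σ) (slGraph _ F)).symm] at h7
    refine NOa.of_isConj ?_ h7.symm
    have hk := (pow_dvd_pow 2 (show f * 3 + 1 ≤ f * 2 * 3 by omega)).trans (two_l3e (by omega) e1)
    rcases hf.eq_or_lt with rfl | hf
    · have h8 := H85.card_SU_three e2
      refine noa_gen hc h1 ?_ hk ?_ <;> rw [fix_gf (n := 3) e3]
      · rw [h8]; decide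
      · exact fun c => inv_mem_comm (fun s t hs ht => Cfsg.Agent.S2644.result e2 le_rfl s t
          (tv_of_inv h2 le_rfl ⟨fun e => hs.1 (Subtype.ext e), congrArg Subtype.val hs.2⟩)
          (tv_of_inv h2 le_rfl ⟨fun e => ht.1 (Subtype.ext e), congrArg Subtype.val ht.2⟩))
          (fun x ⟨k, hx⟩ => Subtype.ext (sl_four h2 x ⟨k, congrArg Subtype.val hx⟩)) (by rw [h8]; decide)
    · exact Mod.noa hc h1 (fix_gf (n := 3) e3 ▸ mod_su3 h2 e2 hf) hk

omit [Fintype F] in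
theorem ch3 (M : Matrix (Fin 3) (Fin 3) F) :
    M ^ 3 = M.trace • M ^ 2 - M.adjugate.trace • M + M.det • (1 : Matrix (Fin 3) (Fin 3) F) := by
  rw [pow_succ, sq]
  ext i j
  fin_cases i <;> fin_cases j <;>
    simp [Matrix.mul_apply, Fin.sum_univ_three, trace_fin_three, adjugate_fin_three, det_fin_three] <;> ring

/-- diagonal matrices of determinant one -/
def dd (x y z : F) (h : x * y * z = 1) : SL(3, F) := ⟨!![x, 0, 0; 0, y, 0; 0, 0, z], by
  simpa [det_fin_three] using h⟩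

/-- the cyclic permutation matrix -/
def cyc (F : Type) [Field F] : SL(3, F) := ⟨!![0, 1, 0; 0, 0, 1; 1, 0, 0], by simp [det_fin_three]⟩

omit [Fintype F] in
theorem mem_fix_gr {s : SL(3, F)} : s ∈ Fix (slGraph (Fin 3) F) ↔ s.1ᵀ * s.1 = 1 := by
  have h := graph_fix_iff 1 1 s
  rwa [inv_one, map_one, map_one, one_mul, one_mul, Units.val_one, mul_one] at h

omit [Fintype F] in
theorem dd_fix {x y z : F} (h : x * y * z = 1) (hx : x * x = 1) (hy : y * y = 1) (hz : z * z = 1) :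
    dd x y z h ∈ Fix (slGraph (Fin 3) F) ∧ dd x y z h * dd x y z h = 1 := by
  have k : (dd x y z h).1 * (dd x y z h).1 = 1 := by simp [dd, hx, hy, hz, one_fin_three]
  refine ⟨mem_fix_gr.2 (Eq.trans (congrArg (· * _) ?_) k), Subtype.ext k⟩
  ext i j
  fin_cases i <;> fin_cases j <;> rfl

variable (h3 : Fintype.card F = 3)
include h3

theorem cen33 : ∀ z ∈ center SL(3, F), z ^ 1 = 1 := fun z hz => by
  obtain ⟨r, h1, h2⟩ := Matrix.SpecialLinearGroup.mem_center_iff.1 hz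
  rw [Fintype.card_fin, ← h3, FiniteField.pow_card] at h1
  refine Subtype.ext ?_
  rw [pow_one, ← h2, h1, map_one]
  rfl

theorem pr_inj : Function.Injective pr := (injective_iff_map_eq_one _).2 fun z hz =>
  (pow_one z).symm.trans (cen33 h3 z ((QuotientGroup.eq_one_iff _).1 hz))

theorem qd33 {U : Subgroup S3} (hU : IsSyl 2 U ⊤) : ∃ k x y, H86.QD U k x y := by
  have h4 : Nat.card F = 3 := Nat.card_eq_fintype_card.trans h3
  have h5 := gcd_mul_card_psl (ι := Fin 3) (F := F)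
  rw [card_sl3 h4, h4, Fintype.card_fin] at h5
  obtain ⟨x, y, D, -⟩ := H9.exists_psl3_sd (K := F) (m := 0) ⟨1, odd_one, by rw [h3]; rfl⟩
  exact H86.exists_QD (H9.isQuasiDihedral_sylow D.ord D.conj (by simpa using D.sq)
    ⟨351, by decide, by simpa using h5⟩ hU.toSylowTop)

theorem ord_orth {s : SL(3, F)} (hs : s ∈ Fix (slGraph (Fin 3) F)) : orderOf s ≤ 6 := by
  have h1 := ch3 s.1
  have h2 : s.1.adjugateᵀ = s.1 := congrArg Subtype.val hs
  rw [← trace_transpose s.1.adjugate, h2, s.2, one_smul] at h1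
  have h4 : s.1.trace * ((s.1.trace - 1) * (s.1.trace + 1)) = 0 := by
    have := FiniteField.pow_card s.1.trace
    rw [h3] at this
    linear_combination this
  have h5 : (3 : Matrix (Fin 3) (Fin 3) F) = 0 := by
    have := FiniteField.cast_card_eq_zero F
    rw [h3] at this
    rw [← map_ofNat (algebraMap F (Matrix (Fin 3) (Fin 3) F)), show (OfNat.ofNat 3 : F) = 0 from this, map_zero]
  have key : ∀ n, 0 < n → n ≤ 6 → s.1 ^ n = 1 → orderOf s ≤ 6 := fun n a b c =>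
    (orderOf_le_of_pow_eq_one (x := s) a (Subtype.ext c)).trans b
  rcases mul_eq_zero.1 h4 with h | h
  · exact key 3 (by omega) (by omega) (by simpa [h] using h1)
  rcases mul_eq_zero.1 h with h | h
  · rw [sub_eq_zero.1 h, one_smul, one_smul] at h1
    exact key 4 (by omega) (by omega) (by linear_combination (norm := noncomm_ring) (s.1 + 1) * h1)
  · rw [add_eq_zero_iff_eq_neg.1 h, neg_smul, neg_smul, one_smul, one_smul] at h1
    exact key 6 (by omega) (by omega) (by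
      linear_combination (norm := noncomm_ring) (s.1 ^ 2 + s.1 + 1) * (s.1 - 2) * h1 +
        (s.1 ^ 2 - 1) * (s.1 ^ 2 + s.1 + 1) * h5)

theorem one33 : H36.QE.One S3 :=
  one_quot (center_cube (.inl rfl)) fun _ _ hx hy => H9.sl3_isConj (h3 ▸ by decide) hx.orderOf hy.orderOf

theorem noa33 : NOa (pslGraph (Fin 3) F) := by
  have hf : ∀ x ∈ Fix (pslGraph (Fin 3) F), x ∈ FixQ (slGraph (Fin 3) F) := fun x hx =>
    pow_one x ▸ pow_mem_fixQ _ (cen33 h3) hx
  have h2 : (2 : F) ≠ 0 := H12.LC.two_ne_zero' (h3 ▸ by decide)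
  obtain ⟨a1, a2⟩ := dd_fix (x := (1 : F)) (y := -1) (z := -1) (by ring) (by ring) (by ring) (by ring)
  obtain ⟨b1, b2⟩ := dd_fix (x := (-1 : F)) (y := 1) (z := -1) (by ring) (by ring) (by ring) (by ring)
  have tw : ∀ {s : SL(3, F)}, s * s = 1 → IsPGroup 2 (zpowers (pr s)) := fun h =>
    (CO.tw_of_sq (by rw [← map_mul, h, map_one])).zp
  obtain ⟨Q, hQ, hle⟩ := exists_isSyl_le (CO.isPGroup_sup (tw a2) (tw b2) (zpowers_le.2 (CO.cen_le_nor _
    (mem_cen.2 fun z hz => by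
      obtain ⟨k, rfl⟩ := hz
      refine (Commute.zpow_left (Commute.map (show dd .. * dd .. = _ from Subtype.ext ?_) pr) k).eq
      change (dd ..).1 * (dd ..).1 = (dd ..).1 * (dd ..).1
      simp [dd]))))
    (sup_le (zpowers_le.2 (fixQ_le _ (mem_map_of_mem _ a1))) (zpowers_le.2 (fixQ_le _ (mem_map_of_mem _ b1))))
  refine noa_of_one hQ (fun _ _ _ hw => not_syl_of_zi (zi_of_one (one33 h3) hw) fun h => ?_)
    (.inl fun c hc cc ic => commutator_mono (fixQ_le _) (fixQ_le _) ?_)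
  · obtain ⟨k, x, y, D⟩ := qd33 h3 h
    obtain ⟨s, hs, rfl⟩ := hf x (hQ.le D.x_mem')
    have := D.ord.ge.trans ((orderOf_injective _ (pr_inj h3) s).trans_le (ord_orth h3 hs))
    have := D.kpos
    omega
  obtain ⟨s, hs, rfl⟩ := hf c (hQ.le hc)
  have k : ∀ {t : SL(3, F)}, pr t ∈ Q → t.1 * s.1 = s.1 * t.1 := fun h =>
    congrArg Subtype.val (pr_inj h3 ((map_mul ..).trans ((mem_cen.1 cc _ h).trans (map_mul ..).symm)))
  have k1 := congrFun₂ (k (hle (mem_sup_left (mem_zpowers _))))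
  have k2 := congrFun₂ (k (hle (mem_sup_right (mem_zpowers _))))
  have e1 := k1 0 1
  have e2 := k1 0 2
  have e3 := k1 1 0
  have e4 := k1 2 0
  have e5 := k2 1 2
  have e6 := k2 2 1
  simp [dd, Matrix.mul_apply, Fin.sum_univ_succ, eq_neg_iff_add_eq_zero, neg_eq_iff_add_eq_zero,
    ← two_mul, h2] at e1 e2 e3 e4 e5 e6
  have e7 := congrFun₂ (mem_fix_gr.1 hs)
  have e8 := e7 0 0
  have e9 := e7 1 1
  have e10 := e7 2 2
  have e0 := (det_fin_three s.1).symm.trans s.2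
  simp [Matrix.mul_apply, Fin.sum_univ_succ, e1, e2, e3, e4, e5, e6] at e8 e9 e10 e0
  obtain ⟨d1, -⟩ := dd_fix (by linear_combination e0) e9 e10 e8
  have d2 : cyc F ∈ Fix (slGraph (Fin 3) F) := mem_fix_gr.2 (by
    ext i j
    fin_cases i <;> fin_cases j <;> simp [cyc, Matrix.mul_apply, Fin.sum_univ_succ])
  rw [← map_commutator]
  refine mem_map_of_mem _ (Eq.subst (motive := (· ∈ _)) ?_ (commutator_mem_commutator d1 d2))
  rw [commutatorElement_def, mul_inv_eq_iff_eq_mul, mul_inv_eq_iff_eq_mul]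
  refine Subtype.ext ?_
  change (dd ..).1 * (cyc F).1 = s.1 * (cyc F).1 * (dd ..).1
  ext i j
  fin_cases i <;> fin_cases j <;>
    simp [dd, cyc, Matrix.mul_apply, Fin.sum_univ_succ, e1, e2, e3, e4, e5, e6]
  · linear_combination s.1 0 0 * s.1 2 2 * e9 - s.1 1 1 * e0
  · linear_combination s.1 1 1 * s.1 0 0 * e10 - s.1 2 2 * e0
  · linear_combination s.1 2 2 * s.1 1 1 * e8 - s.1 0 0 * e0

theorem ks33 (hz : center S3 = ⊥) : KS S3 := by
  have hp : (Fintype.card F).Prime := h3 ▸ Nat.prime_three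
  have hd : ∀ g, pslDiag (Fin 3) F g ∈ H36.QF.Inn S3 := fun g => pslDiag_mem_inn_iff.2
    ⟨GeneralLinearGroup.det g, Units.ext (by
      rw [(Fintype.card_fin 3).trans h3.symm, Units.val_pow_eq_pow_val, FiniteField.pow_card])⟩
  have hi : Ix S3 := fun a b => by
    obtain ⟨π, h, -⟩ := exists_aut_psl_proj (F := F) (n := 3) le_rfl
    have k : ∀ a, (π a).2 = 1 → a ∈ H36.QF.Inn S3 := fun a ha => by
      obtain ⟨g, rfl⟩ : a ∈ (pslDiag (Fin 3) F).range := h ▸ Prod.ext (ringAut_eq_one hp _) ha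
      exact hd g
    refine (?_ : _ ∨ _ ∨ _).imp (k a) (Or.imp (k b) (k _))
    rw [map_mul, Prod.snd_mul]
    generalize (π a).2 = x, (π b).2 = y
    revert x y
    decide
  obtain ⟨U, hU⟩ := exists_isSyl 2 (⊤ : Subgroup S3)
  obtain ⟨k, x, y, D⟩ := qd33 h3 hU
  refine ⟨outD_of_ix hi, fun a ha => ?_, ni_of_zi fun _ => zi_of_one (one33 h3), .inl (uf1_of hU
    (fun h => ?_) (fun a ha b hb ca cb ia ib => ?_) (ab_of_ix hz hi hU))⟩
  · have h0 : a ≠ 1 := fun e => ha.2 (e ▸ one_mem _)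
    obtain ⟨g, rfl⟩ | ⟨σ, h5, -⟩ | ⟨-, J, rfl⟩ | ⟨-, σ, h5, -⟩ := reps (by norm_num) ha.1
    · exact absurd (hd g) ha.2
    · exact absurd (ringAut_eq_one hp σ) h5
    · have e : pslGr (1 : GL (Fin 3) F) = pslGraph (Fin 3) F := by rw [pslGr, inv_one, map_one, one_mul]
      refine (noa33 h3).of_isConj (e ▸ (conj_gram (e ▸ pslGraph_mul_self) fun h => ?_).trans
        (conj_gram ha.1 h0).symm)
      exact pslDiag_mul_pslField_ne_pslGraph (ι := Fin 3) (F := F) (by simp) 1 1 (by simp [← e, h])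
    · exact absurd (ringAut_eq_one hp σ) h5
  · exact ((D.central_iff D.y_mem).1 fun s hs => congrArg Subtype.val (h.1.1 ⟨s, hs⟩ ⟨y, D.y_mem⟩)).elim
      (by simpa using D.yx_ne_one 0) (by simpa using D.yx_ne_x 0 _)
  · exact (((D.central_iff ha).1 (mem_cen.1 ca)).resolve_left ia.1).trans
      (((D.central_iff hb).1 (mem_cen.1 cb)).resolve_left ib.1).symm

omit h3 [Field F] [Fintype F] in
theorem jobFL3 : JobFL3.{u} := by
  intro S _ _ _ hc h
  obtain ⟨F, _, _, h2, ⟨e⟩⟩ | ⟨F, _, _, h3, ⟨e⟩⟩ := h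
  · have h3 : (2 : F) = 0 := (CharP.charP_iff_prime_eq_zero Nat.prime_two).1 h2
    by_cases h4 : Nat.card F = 2 ^ 1
    · have h5 := gcd_mul_card_psl (ι := Fin 3) (F := F)
      rw [card_sl3 h4, h4, Fintype.card_fin, ← Nat.card_congr e.toEquiv] at h5
      have : Fact (Nat.Prime 7) := ⟨by norm_num⟩
      obtain ⟨f⟩ := H88.nonempty_equiv_psl_of_simple_card (G := S) (p := 7) (by norm_num)
        (by norm_num at h5; omega) (ZMod 7) (ZMod.card 7)
      refine .inr ((kx_l2p (center_of_equiv f hc) ((ZMod.card 7).symm ▸ this.out)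
        ((ZMod.card 7).symm ▸ by decide) ?_).congr f.symm)
      rw [← Nat.card_congr f.toEquiv]
      norm_num at h5
      omega
    · exact .inl ((ks_l3e (center_of_equiv e hc) h3 h4).congr e.symm)
  · exact .inl ((ks33 h3 (center_of_equiv e hc)).congr e.symm)

end H58.QF
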