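import Cfsg.Agent.H58.QE2
import Cfsg.Agent.H67.LieAll
import Cfsg.Agent.H24.SzAut
import Cfsg.Agent.H66.SzInst
import Cfsg.Agent.H61.PSLOdd
import Cfsg.Agent.S2086

/-! Tower QE, job `JobL2`. -/

set_option autoImplicit false

namespace H58.QE

open Cfsg Subgroup H14 H98 H97 H36.QE H57 Matrix
open H14.CO (cen cen1 nor cm Tw mem_cen mem_cen1)

universe u v

theorem loc2 {S : Type*} [Group S] [Finite S] (h : IsLieTypeChar 2 S) (s : S) (hs : CO.Inv s) :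
    H98.CharP 2 (cen1 s) :=
  H67.charP_centralizer_of_locCharP (H67.locCharP_of_lieType h) hs.orderOf

theorem sq_of_conj {X : Type*} [Group X] {a b : X} (h : IsConj a b) (ha : a * a = 1) : b * b = 1 := by
  obtain ⟨g, rfl⟩ := isConj_iff.1 h
  rw [conj_mul, ha, mul_one, mul_inv_cancel]

variable {F : Type} [Field F] [Fintype F] {n : ℕ}

theorem loc_psl (h2 : (2 : F) = 0) (hn : 2 ≤ n) (h4 : n = 2 → 4 ≤ Fintype.card F) :
    ∀ s : ProjectiveSpecialLinearGroup (Fin n) F, CO.Inv s → H98.CharP 2 (cen1 s) :=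
  loc2 (.inl ⟨F, inferInstance, inferInstance, (CharP.charP_iff_prime_eq_zero Nat.prime_two).2 h2, n, hn,
    h4, ⟨MulEquiv.refl _⟩⟩)

theorem odd_gcd {f : ℕ} (hf : 1 ≤ f) (m : ℕ) : Odd (Nat.gcd m (2 ^ f - 1)) :=
  Odd.of_dvd_nat (by simpa using odd_pred hf le_rfl) (Nat.gcd_dvd_right _ _)

theorem dvd_psl [NeZero n] {f k : ℕ} (hf : 1 ≤ f) (h : Nat.card F = 2 ^ f)
    (hk : 2 ^ k ∣ Nat.card (SpecialLinearGroup (Fin n) F)) :
    2 ^ k ∣ Nat.card (ProjectiveSpecialLinearGroup (Fin n) F) := by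
  rw [← gcd_mul_card_psl, h] at hk
  exact (Nat.Coprime.pow_left _ (Nat.coprime_two_left.2 (odd_gcd hf _))).dvd_of_dvd_mul_left hk

theorem noCov_psl {f : ℕ} (h : Nat.card F = 2 ^ f) (hf : 3 ≤ f) (hn : n = 2 ∨ n = 3) :
    NoCov.{v} (ProjectiveSpecialLinearGroup (Fin n) F) := by
  have h8 : 8 ≤ 2 ^ f := Nat.pow_le_pow_right (n := 2) two_pos hf
  have h9 : 2 ^ f ≠ 9 := fun e => by
    have : 2 ∣ 9 := e ▸ dvd_pow_self 2 (by omega)
    omega
  refine noCov_of_cyc (Cfsg.Agent.S2086.result (Nat.card_eq_fintype_card.symm.trans h) n (by omega)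
    (fun _ => by omega) ?_) (odd_gcd (by omega) _)
  simp only [Set.mem_insert_iff, Set.mem_singleton_iff, Prod.mk.injEq]
  omega

omit [Fintype F] in
theorem two_sub (h2 : (2 : F) = 0) (K : Subfield F) : (2 : K) = 0 := Subtype.ext h2

theorem card_fixed (h2 : (2 : F) = 0) {σ : RingAut F} (h1 : σ ≠ 1) (hσ : σ * σ = 1) :
    ∃ f, 1 ≤ f ∧ Nat.card (fixedSub σ) = 2 ^ f ∧ Nat.card F = 2 ^ (f * 2) := by
  obtain ⟨f, hf, e⟩ := exists_card_pow (two_sub h2 (fixedSub σ))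
  refine ⟨f, hf, e, ?_⟩
  rw [card_eq_card_fixedSub_pow σ, orderOf_eq_prime (p := 2) (by rw [sq, hσ]) h1, e, pow_mul]

theorem not_cp_diag (hc : center (ProjectiveSpecialLinearGroup (Fin n) F) = ⊥) (h2 : (2 : F) = 0)
    (hn : n = 2 ∨ n = 3) (h4 : n = 2 → 4 ≤ Fintype.card F) {g : GL (Fin n) F}
    (h : pslDiag (Fin n) F g * pslDiag (Fin n) F g = 1) (h1 : pslDiag (Fin n) F g ≠ 1)
    {L : Subgroup _} : ¬ CP L (Fix (pslDiag (Fin n) F g)) := by
  obtain ⟨u, e⟩ := diag_inner (hn.symm.imp_right fun e => ⟨e, h2⟩) h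
  rw [← e] at h h1 ⊢
  exact kv_inner (loc_psl h2 (by omega) h4 u (inv_of_conj hc h h1))

theorem kv_l2e (hc : center (ProjectiveSpecialLinearGroup (Fin 2) F) = ⊥) (h2 : (2 : F) = 0)
    (h4 : 4 ≤ Fintype.card F) : KV.{v} (ProjectiveSpecialLinearGroup (Fin 2) F) := by
  refine KV.of_reps fun a ha h1 => ?_
  obtain ⟨g, rfl⟩ | ⟨σ, h5, h6, h7⟩ | ⟨h, -⟩ | ⟨h, -⟩ := reps le_rfl ha
  · exact ⟨_, IsConj.refl _, fun L hL => absurd hL (not_cp_diag hc h2 (.inl rfl) (fun _ => h4) ha h1)⟩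
  · refine ⟨_, h7, fun L hL => ?_⟩
    obtain ⟨f, hf, e0, e1⟩ := card_fixed h2 h5 h6
    obtain ⟨e⟩ := fix_field (n := 2) σ
    rcases hf.eq_or_lt with rfl | hf
    · have := sol_sl2 e0
      exact absurd hL (not_cp_quot _ (Group.isSolvable_of_surjective (f := e.toMonoidHom) e.surjective))
    obtain ⟨-, h8, h9⟩ := ((mod_sl2 (two_sub h2 _) e0 hf).congr e).main (center_cube (.inr ⟨rfl, h2⟩)) hc
      (by rw [← map_mul, h6, map_one]) (dvd_psl (by omega) e1 (card_sl2 e1 ▸ Dvd.intro _ rfl))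
      (by omega) hL
    exact ⟨pv_zl (loc_psl h2 le_rfl fun _ => h4) (sq_of_conj h7 ha) hL, h8,
      .inl ⟨h9, .inl (noCov_psl e1 (by omega) (.inl rfl))⟩⟩
  all_goals omega

theorem comm_of_nonscalar {K : Type*} [Field K] {A X Y : Matrix (Fin 2) (Fin 2) K} (hX : X * A = A * X)
    (hY : Y * A = A * Y) (hA : ¬ (A 0 1 = 0 ∧ A 1 0 = 0 ∧ A 0 0 = A 1 1)) : X * Y = Y * X := by
  have x1 := congrFun (congrFun hX 0) 0
  have x2 := congrFun (congrFun hX 0) 1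
  have x3 := congrFun (congrFun hX 1) 0
  have y1 := congrFun (congrFun hY 0) 0
  have y2 := congrFun (congrFun hY 0) 1
  have y3 := congrFun (congrFun hY 1) 0
  simp only [Matrix.mul_apply, Fin.sum_univ_two] at x1 x2 x3 y1 y2 y3
  have key : X 0 1 * Y 1 0 = Y 0 1 * X 1 0 ∧
      X 0 1 * (Y 0 0 - Y 1 1) = Y 0 1 * (X 0 0 - X 1 1) ∧
      X 1 0 * (Y 0 0 - Y 1 1) = Y 1 0 * (X 0 0 - X 1 1) := by
    by_cases h1 : A 0 1 = 0
    · by_cases h2 : A 1 0 = 0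
      · have h3 : A 0 0 - A 1 1 ≠ 0 := fun h => hA ⟨h1, h2, sub_eq_zero.1 h⟩
        refine ⟨?_, ?_, ?_⟩ <;> apply mul_left_cancel₀ h3 <;> grind
      · refine ⟨?_, ?_, ?_⟩ <;> apply mul_left_cancel₀ h2 <;> grind
    · refine ⟨?_, ?_, ?_⟩ <;> apply mul_left_cancel₀ h1 <;> grind
  obtain ⟨k1, k2, k3⟩ := key
  ext i j
  fin_cases i <;> fin_cases j <;> simp [Matrix.mul_apply, Fin.sum_univ_two]
  · linear_combination k1
  · linear_combination -k2
  · linear_combination k3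
  · linear_combination -k1

omit [Fintype F] in
theorem diag_fix {g : GL (Fin n) F} {s : SpecialLinearGroup (Fin n) F}
    (h : s ∈ Fix (slDiag (Fin n) F g)) : s.1 * g.1 = g.1 * s.1 :=
  (Units.mul_inv_eq_iff_eq_mul _).1 (congrArg Subtype.val h) |>.symm

theorem ringAut_eq_one (hp : (Fintype.card F).Prime) (σ : RingAut F) : σ = 1 := by
  have := Fact.mk hp
  exact (Nat.card_eq_one_iff_unique.1 (card_ringAut_finite_field (pow_one _).symm)).1.elim _ _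

theorem kv_l2p (hp : (Fintype.card F).Prime) : KV.{v} (ProjectiveSpecialLinearGroup (Fin 2) F) := by
  intro a ha h1 L hL
  obtain ⟨g, rfl⟩ | ⟨σ, h5, -⟩ | ⟨h, -⟩ | ⟨h, -⟩ := reps le_rfl ha
  · refine absurd hL (not_cp_quot (slDiag _ F g) (Group.isSolvable_of_comm fun s t => Subtype.ext
      (Subtype.ext (comm_of_nonscalar (diag_fix s.2) (diag_fix t.2) fun ⟨e1, e2, e3⟩ => h1 ?_))))
    rw [← MonoidHom.mem_ker, ker_pslDiag, mem_center_iff]
    intro x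
    ext i j
    fin_cases i <;> fin_cases j <;> simp [Matrix.mul_apply, Fin.sum_univ_two, e1, e2, e3, mul_comm]
  · exact absurd (ringAut_eq_one hp σ) h5
  all_goals omega

theorem jobL2 : JobL2.{u} := by
  intro S _ _ _ hc h
  have hz := center_bot hc
  obtain ⟨F, _, _, h2, ⟨e⟩⟩ | h | ⟨F, _, _, hp, h2, ⟨e⟩⟩ := h
  · have := e.symm.isSimpleGroup
    have h3 : (2 : F) = 0 := (CharP.charP_iff_prime_eq_zero Nat.prime_two).1 h2
    refine ⟨KV.congr e (kv_l2e (center_bot fun h => hc ⟨⟨fun a b => e.injective ?_⟩⟩) h3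
      (Nat.card_eq_fintype_card (α := F) ▸ H61.four_le_card_of_simple)),
      (one_quot (center_cube (.inr ⟨rfl, h3⟩)) (one_sl h3 (.inl rfl))).congr e.symm⟩
    rw [map_mul, map_mul, h.1.1]
  · have hl := loc2 (S := S) (by simp only [IsLieTypeChar, h, and_self, true_or, or_true])
    obtain ⟨F, _, _, m, hm, hF, ⟨e⟩⟩ := h
    have hT := H66.titsOf_isFin F hm hF
    let M := (H66.modelB hT).ofEquiv e
    refine ⟨fun a h1 h2 L hL => ?_, fun x y hx hy => M.isConj_of_sq hT (by rw [sq, hx.2]) hx.1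
      (by rw [sq, hy.2]) hy.1⟩
    obtain ⟨u, rfl⟩ := H24.sz_inner M hT a (by rw [sq, h1])
    exact absurd hL (kv_inner (hl u (inv_of_conj hz h1 h2)))
  · exact ⟨KV.congr e (kv_l2p hp), One.congr e.symm fun x y hx hy => H61.psl_isConj_inv
      (Nat.card_eq_fintype_card (α := F) ▸ hp.odd_of_ne_two h2) hx.orderOf hy.orderOf⟩

end H58.QE
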