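import Cfsg.Agent.H58.QE3

/-! Tower QE, job `JobL3`. -/

set_option autoImplicit false

namespace H58.QE

open Cfsg Subgroup H14 H98 H97 H36.QE H57 Matrix
open H14.CO (cen cen1 nor cm Tw mem_cen mem_cen1)

universe u v

variable {F : Type} [Field F]

local notation "S3" => ProjectiveSpecialLinearGroup (Fin 3) F
local notation "tr" => Matrix.SpecialLinearGroup.transvection

theorem tw_order (h2 : (2 : F) = 0) (g : S3) (hg : Tw g) : orderOf g ≤ 4 := by
  obtain ⟨s, rfl⟩ := QuotientGroup.mk_surjective g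
  obtain ⟨k, hk⟩ := id hg
  have : CharP F 2 := (CharP.charP_iff_prime_eq_zero Nat.prime_two).2 h2
  have h1 : (s ^ 3) ^ 2 ^ k = 1 := by
    rw [← pow_mul, mul_comm, pow_mul]
    exact center_cube (.inl rfl) _ ((QuotientGroup.eq_one_iff _).1 hk)
  have h3 : IsNilpotent ((s ^ 3).1 - 1) := ⟨2 ^ k, by
    rw [sub_pow_char_pow_of_commute 2 k (Commute.one_right _), one_pow, sub_eq_zero]
    exact congrArg Subtype.val h1⟩
  have h4 := aeval_self_charpoly ((s ^ 3).1 - 1)
  rw [sub_eq_zero.1 (isNilpotent_charpoly_sub_pow_of_isNilpotent h3).eq_zero, Fintype.card_fin,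
    Polynomial.aeval_X_pow] at h4
  have h5 := sub_pow_char_pow_of_commute 2 2 (Commute.one_right (s ^ 3).1)
  rw [one_pow, pow_eq_zero_of_le (by norm_num) h4, eq_comm, sub_eq_zero] at h5
  have h6 : (s ^ 3) ^ 2 ^ 2 = 1 := Subtype.ext h5
  refine Nat.le_of_dvd (by norm_num) (orderOf_dvd_of_pow_eq_one ((hg.pow 4).eq_one_of_odd
    (Odd.of_dvd_nat (by decide : Odd 3) (orderOf_dvd_of_pow_eq_one ?_))))
  rw [← pow_mul, ← QuotientGroup.mk_pow, show 4 * 3 = 3 * 2 ^ 2 from rfl, pow_mul, h6, QuotientGroup.mk_one]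

theorem fix_key {g : GL (Fin 3) F} {σ : RingAut F} {i j : Fin 3} (hij : i ≠ j) {c : F}
    (h : (pslDiag (Fin 3) F g * pslField (Fin 3) F σ) (QuotientGroup.mk (tr hij c)) =
      QuotientGroup.mk (tr hij c)) :
    g.1 * single i j (σ c) = single i j c * g.1 := by
  apply slDiag_transvection_eq_of_mk_eq hij hij
  rw [← slField_transvection, ← pslDiag_mk, ← pslField_mk, ← MulAut.mul_apply, h]

theorem eq_field_of_fix [Finite F] {b : MulAut S3}
    (h : ∀ (i j : Fin 3) (hij : i ≠ j), b (QuotientGroup.mk (tr hij 1)) = QuotientGroup.mk (tr hij 1)) :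
    ∃ σ, b = pslField _ F σ := by
  obtain ⟨g, σ, rfl | ⟨-, rfl⟩⟩ := psl_aut b
  · refine ⟨σ, ?_⟩
    rw [mul_eq_right, ← MonoidHom.mem_ker, ker_pslDiag]
    exact GeneralLinearGroup.mem_center_iff_val_mem_range_scalar.2
      (mem_range_scalar_of_commute_single fun i j hij => by
        simpa [Commute, SemiconjBy] using (fix_key hij (h i j hij)).symm)
  · have key : ∀ (i j : Fin 3) (hij : i ≠ j), g.1 * single j i (-1) = single i j 1 * g.1 := fun i j hij => by
      apply slDiag_transvection_eq_of_mk_eq hij.symm hij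
      rw [← h i j hij, MulAut.mul_apply, MulAut.mul_apply, pslGraph_mk, slGraph_transvection, pslField_mk,
        slField_transvection, map_neg, map_one, pslDiag_mk]
    have e0 := congrFun (congrFun (key 1 0 (by decide)) 0) 1
    have e1 := congrFun (congrFun (key 2 1 (by decide)) 0) 2
    have e2 := congrFun (congrFun (key 1 2 (by decide)) 0) 1
    simp [Matrix.mul_apply, single] at e0 e1 e2
    exact absurd (det_eq_zero_of_row_eq_zero 0 fun j => by fin_cases j <;> assumption) g.det_ne_zero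

theorem al_field [Fintype F] (h4 : Fintype.card F = 2 ^ 2) {σ : RingAut F} (hσ : σ ≠ 1) :
    Al (pslField (Fin 3) F σ) (FixQ (slField (Fin 3) F σ)) := fun b hb _ _ => by
  obtain ⟨τ, rfl⟩ := eq_field_of_fix fun i j hij => hb ⟨tr hij 1, by
    change slField _ F σ _ = _
    rw [slField_transvection, map_one], rfl⟩
  obtain ⟨ρ, -, h⟩ := (Nat.card_eq_two_iff' (1 : RingAut F)).1 (card_ringAut_finite_field h4)
  by_cases h1 : τ = 1
  · exact .inl (by rw [h1, map_one])
  · exact .inr (by rw [h τ h1, h σ hσ])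

theorem cube_of_fix [Fintype F] (h2 : (2 : F) = 0) (h4 : Fintype.card F = 2 ^ 2) {g : GL (Fin 3) F}
    {σ : RingAut F} (h : FixQ (grA F) ≤ Fix (pslDiag _ F g * pslField _ F σ)) :
    (pslDiag (Fin 3) F g * pslField _ F σ) ^ 3 = 1 := by
  have k1 : ∀ c, g.1 * single 1 2 (σ c) = single 1 2 c * g.1 := fun c =>
    fix_key (by decide) (h ⟨_, (fix_grA h2).ge ⟨tr zero_ne_one c, Subtype.ext (by
      refine (blk_val _).trans ?_
      ext i j
      fin_cases i <;> fin_cases j <;> simp [Matrix.SpecialLinearGroup.transvection_coe])⟩, rfl⟩)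
  have k2 : g.1 * single 2 1 (σ 1) = single 2 1 1 * g.1 :=
    fix_key (by decide) (h ⟨_, (fix_grA h2).ge ⟨tr one_ne_zero 1, Subtype.ext (by
      refine (blk_val _).trans ?_
      ext i j
      fin_cases i <;> fin_cases j <;> simp [Matrix.SpecialLinearGroup.transvection_coe])⟩, rfl⟩)
  have e := fun i j => congrFun (congrFun (k1 1) i) j
  have e' := fun i j => congrFun (congrFun k2 i) j
  have a1 := e 0 2
  have a2 := e 2 2
  have a3 := e 1 0
  have a4 := e 1 2
  have a5 := e' 0 1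
  have a6 := e' 1 1
  have a7 := e' 2 0
  simp [Matrix.mul_apply, single] at a1 a2 a3 a4 a5 a6 a7
  replace a3 := a3.symm
  replace a7 := a7.symm
  have hd := g.det_ne_zero
  simp [det_fin_three, a1, a2, a3, a5, a6, a7] at hd
  have hσ : σ = 1 := RingEquiv.ext fun c => by
    have := congrFun (congrFun (k1 c) 1) 2
    simp [Matrix.mul_apply, single, ← a4, mul_comm c, hd.1.2] at this
    exact this
  have h3 : ∀ x : F, x ≠ 0 → x * x * x = 1 := fun x hx => by
    have := FiniteField.pow_card_sub_one_eq_one x hx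
    rwa [h4, show 2 ^ 2 - 1 = 2 + 1 from rfl, pow_succ, sq] at this
  have hg : g.1 = !![g.1 0 0, 0, 0; 0, g.1 1 1, 0; 0, 0, g.1 2 2] := by
    ext i j
    fin_cases i <;> fin_cases j <;> simp [a1, a2, a3, a5, a6, a7]
  rw [hσ, map_one, mul_one, ← map_pow, show g ^ 3 = 1 from Units.ext ?_, map_one]
  rw [pow_succ, sq, Units.val_mul, Units.val_mul, hg]
  simp [h3 _ hd.1.1, h3 _ hd.1.2, h3 _ hd.2, one_fin_three]

theorem eq_one_of_three_four {X : Type*} [Group X] {b : X} (h3 : b ^ 3 = 1) (h4 : b ^ 4 = 1) : b = 1 := by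
  rwa [pow_succ, h3, one_mul] at h4

theorem al_graph [Fintype F] (h2 : (2 : F) = 0) (h4 : Fintype.card F = 2 ^ 2)
    (ha : pslGr (gram F) * pslGr (gram F) = 1) : Al (pslGr (gram F)) (FixQ (grA F)) := fun b hb hc hs => by
  have h5 : b ^ 4 = 1 := by
    rw [show 4 = 2 * 2 from rfl, pow_mul, sq, sq]
    rcases hs with e | e <;> rw [e]
    exacts [mul_one _, ha]
  obtain ⟨g, σ, rfl | ⟨-, e⟩⟩ := psl_aut b
  · exact .inl (eq_one_of_three_four (cube_of_fix h2 h4 hb) h5)
  · have h6 : b * pslGr (gram F) =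
        pslDiag _ F (g * glField _ F σ (glGraph _ F (gram F)⁻¹)) * pslField _ F σ := by
      rw [e, pslGr, mul_assoc, ← mul_assoc (pslGraph _ F), pslGraph_mul_pslDiag, mul_assoc, mul_assoc,
        pslGraph_mul_self, mul_one, pslField_mul_pslDiag, map_mul, mul_assoc]
    have h7 := cube_of_fix h2 h4 (h6 ▸ fun x hx => (by
      rw [mem_Fix, MulAut.mul_apply, show pslGr (gram F) x = x from (quot_grA (F := F) ▸ fixQ_le _) hx]
      exact hb hx : x ∈ Fix (b * pslGr (gram F))))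
    rw [← h6] at h7
    refine .inr ((eq_inv_of_mul_eq_one_left (eq_one_of_three_four h7 ?_)).trans
      (eq_inv_of_mul_eq_one_left ha).symm)
    rw [Commute.mul_pow hc.symm, h5, one_mul, show 4 = 2 * 2 from rfl, pow_mul, sq, sq, ha, mul_one]

theorem pv_l3 [Fintype F] (hc : center S3 = ⊥) (h2 : (2 : F) = 0) {f j : ℕ} (hF : Nat.card F = 2 ^ f)
    (hf : 2 ≤ f) {α : MulAut (SpecialLinearGroup (Fin 3) F)} (ha : α * α = 1) (h : Mod (Fix α) j)
    (hj : j + 2 < f * 3) (hal : f = 2 → Al (quotCenterAut _ α) (FixQ α)) {L : Subgroup S3}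
    (hL : CP L (Fix (quotCenterAut _ α))) : PV.{v} (quotCenterAut _ α) L := by
  have h1 : 2 ^ (f * 3) ∣ Nat.card S3 :=
    dvd_psl (by omega) hF (card_sl3 hF ▸ pow_mul 2 f 3 ▸ Dvd.intro _ rfl)
  obtain ⟨rfl, h8, h9⟩ := h.main (center_cube (.inl rfl)) hc ha h1 hj.le hL
  refine ⟨pv_zl (loc_psl h2 (by omega) (by omega)) (by rw [← map_mul, ha, map_one]) hL, h8, .inl ⟨h9, ?_⟩⟩
  rcases hf.eq_or_lt with rfl | hf
  · refine .inr (.inl ⟨hal rfl, ep_of_exp (tw_order h2) h1 (by norm_num),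
      .inl (de_of_exp (tw_order h2) h1 (two_fix (center_cube (.inl rfl)) h.two) ?_)⟩)
    exact (pow_add 2 j 2).symm.trans_lt (Nat.pow_lt_pow_right one_lt_two hj)
  · exact .inl (noCov_psl hF hf (.inr rfl))

theorem grA_sq : grA F * grA F = 1 := by
  rw [mul_assoc, ← mul_assoc (slGraph _ F), slGraph_mul_slDiag, mul_assoc, slGraph_mul_self, mul_one,
    ← map_mul, show (gram F)⁻¹ * glGraph _ F (gram F)⁻¹ = 1 from Units.ext ?_, map_one]
  change !![(1 : F), 0, 0; 0, 0, 1; 0, 1, 0] * !![(1 : F), 0, 0; 0, 0, 1; 0, 1, 0]ᵀ = 1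
  ext i j
  fin_cases i <;> fin_cases j <;> simp [Matrix.mul_apply, Fin.sum_univ_succ]

theorem kv_l3e [Fintype F] (hc : center S3 = ⊥) (h2 : (2 : F) = 0) : KV.{v} S3 := by
  refine KV.of_reps fun a ha h1 => ?_
  obtain ⟨g, rfl⟩ | ⟨σ, h5, h6, h7⟩ | ⟨-, J, rfl⟩ | ⟨-, σ, h5, h6, h7⟩ := reps (by norm_num) ha
  · exact ⟨_, IsConj.refl _, fun L hL =>
      absurd hL (not_cp_diag hc h2 (.inr rfl) (by omega) ha h1)⟩
  · refine ⟨_, h7, fun L hL => ?_⟩
    obtain ⟨f, hf, e0, e1⟩ := card_fixed h2 h5 h6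
    obtain ⟨e⟩ := fix_field (n := 3) σ
    exact pv_l3 hc h2 e1 (by omega) (by rw [← map_mul, h6, map_one])
      ((mod_sl3 (two_sub h2 _) e0 hf).congr e) (by omega)
      (fun h => al_field (Nat.card_eq_fintype_card.symm.trans (e1.trans (by rw [h]))) h5) hL
  · refine ⟨_, conj_gram ha h1, fun L hL => ?_⟩
    obtain ⟨f, hf, e1⟩ := exists_card_pow h2
    obtain ⟨e⟩ := fix_graph h2
    rw [← quot_grA] at hL ⊢
    rcases hf.eq_or_lt with rfl | hf
    · have := sol_sl2 e1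
      exact absurd hL (not_cp_quot _ (Group.isSolvable_of_surjective (f := e.toMonoidHom) e.surjective))
    · exact pv_l3 hc h2 e1 hf grA_sq ((mod_sl2 h2 e1 hf).congr e) (by omega) (fun h => quot_grA (F := F) ▸
        al_graph h2 (Nat.card_eq_fintype_card.symm.trans (e1.trans (by rw [h])))
          (sq_of_conj (conj_gram ha h1) ha)) hL
  · refine ⟨_, h7, fun L hL => ?_⟩
    obtain ⟨f, hf, -, e1⟩ := card_fixed h2 h5 h6
    obtain ⟨-, e2, e3⟩ := involution_eq_pow (Nat.card_eq_fintype_card.symm.trans e1) h5 h6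
    rw [Nat.mul_div_cancel _ two_pos] at e2 e3
    rw [show pslField (Fin 3) F σ * pslGraph _ F = quotCenterAut _ (slField _ F σ * slGraph _ F) from
      (map_mul (quotCenterAut _) (slField _ F σ) (slGraph _ F)).symm] at hL ⊢
    rcases hf.eq_or_lt with rfl | hf
    · exact absurd hL (not_cp_quot _ (fix_gf (n := 3) e3 ▸ sol_su3 e2))
    · refine pv_l3 hc h2 e1 (by omega) ?_ (fix_gf (n := 3) e3 ▸ mod_su3 h2 e2 hf) (by omega) (by omega) hL
      rw [mul_assoc, ← mul_assoc (slGraph _ F), slGraph_mul_slField, mul_assoc, slGraph_mul_self, mul_one,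
        ← map_mul, h6, map_one]

/-! ### `L_3(3)` -/

theorem card_modEq {s : Matrix (Fin 3) (Fin 3) F} [Finite F] (hs : s ^ 13 = 1)
    (W : AddSubgroup (Fin 3 → F)) (hW : ∀ w ∈ W, s *ᵥ w ∈ W) :
    Nat.card W ≡ Nat.card {w : W // s *ᵥ w.1 = w.1} [MOD 13] := by
  classical
  have := Fintype.ofFinite W
  have : Fact (Nat.Prime 13) := ⟨by norm_num⟩
  let f : Function.End W := fun w => ⟨_, hW w.1 w.2⟩
  have h1 : ∀ (k : ℕ) (w : W), ((f ^ k) w).1 = s ^ k *ᵥ w.1 := fun k => by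
    induction k with
    | zero => intro w; rw [pow_zero, pow_zero, one_mulVec]; rfl
    | succ k ih => intro w; rw [pow_succ, pow_succ, ← mulVec_mulVec]; exact ih (f w)
  have h2 := Equiv.Perm.card_fixedPoints_modEq (f := f) (p := 13) (n := 1)
    (funext fun w => Subtype.ext (by rw [h1, pow_one, hs, one_mulVec]; rfl))
  rw [← Nat.card_eq_fintype_card, ← Nat.card_eq_fintype_card] at h2
  rwa [Nat.card_congr (β := {w : W // s *ᵥ w.1 = w.1})
    (Equiv.subtypeEquivRight fun w => Subtype.ext_iff)] at h2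

theorem bot_or_top [Finite F] (h3 : Nat.card F = 3) {W : AddSubgroup (Fin 3 → F)}
    (h : Nat.card W ≡ 1 [MOD 13]) : W = ⊥ ∨ W = ⊤ := by
  have h1 : Nat.card (Fin 3 → F) = 3 ^ 3 := by simp [Nat.card_fun, h3]
  obtain ⟨k, hk, e⟩ := (Nat.dvd_prime_pow Nat.prime_three).1 (h1 ▸ W.card_addSubgroup_dvd_card)
  rw [e] at h
  interval_cases k
  · exact .inl (AddSubgroup.eq_bot_of_card_eq _ e)
  · exact absurd h (by decide)
  · exact absurd h (by decide)
  · exact .inr (AddSubgroup.eq_top_of_card_eq _ (e.trans h1.symm))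

/-- the fixed vectors of a matrix -/
def fixV (s : Matrix (Fin 3) (Fin 3) F) : AddSubgroup (Fin 3 → F) :=
  (LinearMap.ker (s - 1).mulVecLin).toAddSubgroup

theorem mem_fixV {s : Matrix (Fin 3) (Fin 3) F} {w : Fin 3 → F} : w ∈ fixV s ↔ s *ᵥ w = w := by
  change (s - 1) *ᵥ w = 0 ↔ _
  rw [sub_mulVec, one_mulVec, sub_eq_zero]

theorem eq_one_of_fixV {s : Matrix (Fin 3) (Fin 3) F} (h : fixV s = ⊤) : s = 1 :=
  toLin'.injective (LinearMap.ext fun w => by
    simpa using mem_fixV.1 (h ▸ AddSubgroup.mem_top w : w ∈ fixV s))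

theorem fixV_bot [Finite F] (h3 : Nat.card F = 3) {s : Matrix (Fin 3) (Fin 3) F} (hs : s ^ 13 = 1)
    (h1 : s ≠ 1) : fixV s = ⊥ := by
  refine (bot_or_top h3 ?_).resolve_right fun h => h1 (eq_one_of_fixV h)
  have h := card_modEq hs ⊤ fun _ _ => trivial
  rw [AddSubgroup.card_top, show Nat.card (Fin 3 → F) = 27 by simp [Nat.card_fun, h3]] at h
  have e : Nat.card (fixV s) = Nat.card {w : (⊤ : AddSubgroup (Fin 3 → F)) // s *ᵥ w.1 = w.1} :=
    Nat.card_congr ⟨fun w => ⟨⟨w.1, trivial⟩, mem_fixV.1 w.2⟩, fun w => ⟨w.1.1, mem_fixV.2 w.2⟩,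
      fun _ => rfl, fun _ => rfl⟩
  exact e ▸ h.symm.trans (by decide)

theorem sol_of_no13 [Finite F] (h3 : Nat.card F = 3) {H : Subgroup (SpecialLinearGroup (Fin 3) F)}
    (h : ∀ s ∈ H, s.1 ^ 13 = 1 → fixV s.1 ≠ ⊥) : Group.IsSolvable H := by
  have : Fact (Nat.Prime 13) := ⟨by norm_num⟩
  have h1 : ¬ 13 ∣ Nat.card H := fun h1 => by
    obtain ⟨s, hs⟩ := exists_prime_orderOf_dvd_card' 13 h1
    have h2 : s.1.1 ^ 13 = 1 := congrArg (fun x : H => x.1.1) (hs ▸ pow_orderOf_eq_one s : s ^ 13 = 1)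
    refine h s s.2 h2 (fixV_bot h3 h2 fun e => ?_)
    rw [show s = 1 from Subtype.ext (Subtype.ext e), orderOf_one] at hs
    omega
  refine H29.isSolvable_of_card_dvd_pow_mul_pow (a := 4) (b := 3) Nat.prime_two Nat.prime_three
    (((Nat.Prime.coprime_iff_not_dvd (by norm_num)).2 h1).symm.dvd_of_dvd_mul_left ?_)
  exact H.card_subgroup_dvd_card.trans (by rw [card_sl3 h3]; norm_num)

theorem kv_l33 [Fintype F] (h3 : Fintype.card F = 3) : KV.{v} S3 := by
  intro a ha h1 L hL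
  have hp : (Fintype.card F).Prime := h3 ▸ Nat.prime_three
  have h4 : Nat.card F = 3 := Nat.card_eq_fintype_card.trans h3
  have hx : ∀ x : F, x ^ 3 = x := fun x => h3 ▸ FiniteField.pow_card x
  obtain ⟨g, rfl⟩ | ⟨σ, h5, -⟩ | ⟨-, J, rfl⟩ | ⟨-, σ, h5, -⟩ := reps (by norm_num) ha
  · refine absurd hL (not_cp_quot (slDiag _ F g) (sol_of_no13 h4 fun s hs h6 h7 => h1 ?_))
    rw [← map_mul, pslDiag_eq_one_iff] at ha
    obtain ⟨c, hc⟩ := ha
    have h8 : g.1 * g.1 = 1 := by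
      have e1 : g.1 * g.1 = scalar (Fin 3) (c : F) := congrArg Units.val hc.symm
      have e2 := congrArg det e1
      rw [det_mul, scalar_apply, det_diagonal, Finset.prod_const, Finset.card_univ, Fintype.card_fin, hx] at e2
      rw [e1, ← e2, mul_left_cancel₀ g.det_ne_zero
        (show g.1.det * (g.1.det * g.1.det) = g.1.det * 1 by linear_combination hx g.1.det), map_one]
    have h9 := card_modEq h6 (fixV g.1) fun w hw => mem_fixV.2 (by
      rw [mulVec_mulVec, ← diag_fix hs, ← mulVec_mulVec, mem_fixV.1 hw])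
    rw [show Nat.card {w : fixV g.1 // s.1 *ᵥ w.1 = w.1} = 1 from Nat.card_eq_one_iff_exists.2
      ⟨⟨0, mulVec_zero _⟩, fun w => Subtype.ext (Subtype.ext
        (AddSubgroup.mem_bot.1 (h7 ▸ mem_fixV.2 w.2)))⟩] at h9
    rcases bot_or_top h4 h9 with e | e
    · refine pslDiag_eq_one_iff.2 ⟨-1, Units.ext (toLin'.injective (LinearMap.ext fun w => ?_))⟩
      have : g.1 *ᵥ w + w ∈ fixV g.1 := mem_fixV.2 (by rw [mulVec_add, mulVec_mulVec, h8, one_mulVec, add_comm])
      rw [e, AddSubgroup.mem_bot, add_eq_zero_iff_eq_neg] at this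
      simp [this, ← diagonal_neg]
    · rw [show g = 1 from Units.ext (eq_one_of_fixV e), map_one]
  · exact absurd (ringAut_eq_one hp σ) h5
  · refine absurd hL ?_
    rw [show pslGr J = quotCenterAut _ (slDiag _ F J⁻¹ * slField _ F 1 * slGraph _ F) by
      rw [map_one, mul_one]; exact (map_mul (quotCenterAut _) (slDiag _ F J⁻¹) (slGraph _ F)).symm]
    refine not_cp_quot _ (sol_of_no13 h4 fun s hs _ h7 => ?_)
    have h8 : s.1ᵀ * J.1 * s.1 = J.1 := (graph_fix_iff J 1 s).1 hs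
    have h9 : (s.1 - 1)ᵀ * J.1 * s.1 = -(J.1 * (s.1 - 1)) := by
      rw [transpose_sub, transpose_one, sub_mul, sub_mul, h8, one_mul, mul_sub, mul_one, neg_sub]
    have h10 := congrArg det h9
    rw [det_mul, det_mul, det_neg, det_mul, det_transpose, s.2, Fintype.card_fin] at h10
    have h11 : (2 : F) ≠ 0 := fun h2 => by
      obtain ⟨f, hf, e⟩ := exists_card_pow h2
      have : 2 ∣ 3 := h4 ▸ e ▸ dvd_pow_self 2 (by omega)
      omega
    obtain ⟨w, h12, h13⟩ := exists_mulVec_eq_zero_iff.2 (show (s.1 - 1).det = 0 from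
      (mul_eq_zero.1 (show 2 * J.1.det * (s.1 - 1).det = 0 by linear_combination h10)).resolve_left
        (mul_ne_zero h11 J.det_ne_zero))
    exact h12 (AddSubgroup.mem_bot.1 (h7 ▸ h13 : w ∈ (⊥ : AddSubgroup _)))
  · exact absurd (ringAut_eq_one hp σ) h5

theorem jobL3 : JobL3.{u} := by
  intro S _ _ _ hc h
  obtain ⟨F, _, _, h2, ⟨e⟩⟩ | ⟨F, _, _, h3, ⟨e⟩⟩ := h
  · have := e.symm.isSimpleGroup
    refine KV.congr e (kv_l3e (center_bot fun h => hc ⟨⟨fun a b => e.injective ?_⟩⟩)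
      ((CharP.charP_iff_prime_eq_zero Nat.prime_two).1 h2))
    rw [map_mul, map_mul, h.1.1]
  · exact KV.congr e (kv_l33 h3)

end H58.QE
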