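import Cfsg.Agent.H58.QE4
import Cfsg.Agent.H36.QFK0
import Cfsg.Agent.H36.QEPk
import Cfsg.Agent.H12.LCPgl
import Cfsg.Agent.H95.Rank2
import Cfsg.Agent.H24.GWAut
import Cfsg.Agent.S0494

/-! Tower QF, job `JobFL2`. -/

set_option autoImplicit false

namespace H58.QF

open Cfsg Subgroup H14 H98 H97 H36.QE H36.QF H57 Matrix H58.QE
open H14.CO (cen cen1 nor cm Tw mem_cen mem_cen1)
open scoped MatrixGroups H61

universe u

section Gen

variable {S : Type*} [Group S]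

theorem conj_inj (hz : center S = ⊥) : Function.Injective (MulAut.conj : S →* MulAut S) := by
  rw [injective_iff_map_eq_one]
  intro g hg
  rw [← mem_bot, ← hz]
  exact mem_center_iff.2 fun s =>
    (mul_inv_eq_iff_eq_mul.1 (congrArg (fun φ : MulAut S => φ s) hg)).symm

theorem conj_mem_cen1 (hz : center S = ⊥) {a : MulAut S} {x : S} :
    MulAut.conj x ∈ cen1 a ↔ x ∈ Fix a := by
  rw [mem_cen1, eq_comm, ← mul_inv_eq_iff_eq_mul, aut_conj, (conj_inj hz).eq_iff, mem_Fix]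

theorem comm_of_le {A B : Subgroup S} (h : IsMulCommutative B) (hle : A ≤ B) : IsMulCommutative A :=
  le_centralizer_iff_isMulCommutative.1
    (hle.trans ((le_centralizer_iff_isMulCommutative.2 h).trans (centralizer_le hle)))

theorem dih_cen {T : Subgroup S} [Finite T] (h : IsCyclic T ∨ ∃ r s, H85.Dih T r s)
    (hT : ¬ IsMulCommutative T) {x y : S} (hx : x ∈ T) (hy : y ∈ T) (cx : x ∈ cen T) (cy : y ∈ cen T)
    (ix : CO.Inv x) (iy : CO.Inv y) : x = y := by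
  obtain h | ⟨r, s, h⟩ := h
  · exact absurd h.isMulCommutative hT
  have : Finite (zpowers r) := Finite.of_injective _ (inclusion_injective h.zpowers_le)
  have key : ∀ x ∈ T, x ∈ cen T → x ∈ zpowers r := fun x hx cx => by_contra fun hn => hT (by
    rw [← le_centralizer_iff_isMulCommutative]
    intro a ha b hb
    have e : ∀ a ∈ T, ∃ k ∈ zpowers r, a = k ∨ a = x * k := fun a ha => by
      by_cases h1 : a ∈ zpowers r
      · exact ⟨a, h1, .inl rfl⟩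
      · obtain ⟨k, h2, h3⟩ := (h.of_refl hx hn).exists_eq_of_refl ha h1
        exact ⟨k, h2, .inr h3⟩
    obtain ⟨k, hk, h1⟩ := e a ha
    obtain ⟨l, hl, h2⟩ := e b hb
    have c1 : Commute l k := h.rot_comm hl hk
    have c2 : Commute k x := mem_cen.1 cx k (h.zpowers_le hk)
    have c3 : Commute l x := mem_cen.1 cx l (h.zpowers_le hl)
    rcases h1 with rfl | rfl <;> rcases h2 with rfl | rfl
    exacts [c1, c2.symm.mul_left c1, c3.mul_right c1,
      ((Commute.refl x).mul_right c2.symm).mul_left (c3.mul_right c1)])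
  exact H61.eq_of_isCyclic_of_mul_self inferInstance (key x hx cx) (key y hy cy) ix.1 iy.1 ix.2 iy.2

theorem not_comm_of_dih {T : Subgroup S} {r s : S} (h : H85.Dih T r s) (h8 : 4 < Nat.card T) :
    ¬ IsMulCommutative T := fun hc => by
  have h1 := h.rel
  rw [show s * r = r * s from congrArg Subtype.val (hc.1.1 ⟨s, h.s_mem⟩ ⟨r, h.r_mem⟩),
    mul_inv_cancel_right, eq_inv_iff_mul_eq_one, ← pow_two] at h1
  have := orderOf_le_of_pow_eq_one two_pos h1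
  have := h.card
  omega

theorem cyc_rk {X : Type*} [Group X] [Finite X] [IsCyclic X] {x y : X} (hx : x * x = 1) (hy : y * y = 1) :
    x = 1 ∨ y = 1 ∨ x * y = 1 := by
  by_cases h1 : x = 1
  · exact .inl h1
  by_cases h2 : y = 1
  · exact .inr (.inl h2)
  rw [H61.eq_of_isCyclic_of_mul_self (C := ⊤) inferInstance trivial trivial h1 h2 hx hy]
  exact .inr (.inr hy)

theorem mp_el {S' : Type*} [Group S'] (e : S ≃* S') {U : Subgroup S} {n : ℕ}
    (h : Nat.card U = n ∧ (∀ x ∈ U, x * x = 1) ∧ ∀ a : MulAut S, U ≤ Fix a → a ∈ H36.QF.Inn S) :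
    Nat.card (U.map e.toMonoidHom) = n ∧ (∀ x ∈ U.map e.toMonoidHom, x * x = 1) ∧
      ∀ a : MulAut S', U.map e.toMonoidHom ≤ Fix a → a ∈ H36.QF.Inn S' := by
  tr_simp e; exact h

variable [Finite S]

theorem pow_dvd_of_syl {U : Subgroup S} (hU : IsSyl 2 U ⊤) {k : ℕ} (h : 2 ^ k ∣ Nat.card S) :
    2 ^ k ∣ Nat.card U := by
  rw [hU.card_eq, card_top]
  exact pow_dvd_pow 2 ((Nat.prime_two.pow_dvd_iff_le_factorization Nat.card_pos.ne').1 h)

theorem card_le_of_two {Q H : Subgroup S} (hQ : IsPGroup 2 Q) (h : Q ≤ H) {j : ℕ}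
    (hj : ¬ 2 ^ (j + 1) ∣ Nat.card H) : Nat.card Q ≤ 2 ^ j := by
  obtain ⟨k, hk⟩ := hQ.exists_card_eq
  rw [hk]
  exact Nat.pow_le_pow_right two_pos (by_contra fun h1 =>
    hj ((pow_dvd_pow 2 (by omega)).trans (hk ▸ card_dvd_of_le h)))

theorem not_syl_le {U H : Subgroup S} (hU : IsSyl 2 U ⊤) {j : ℕ} (hj : ¬ 2 ^ (j + 1) ∣ Nat.card H)
    (hk : 2 ^ (j + 1) ∣ Nat.card S) : ¬ U ≤ H := fun h =>
  hj ((pow_dvd_of_syl hU hk).trans (card_dvd_of_le h))

/-- `NOa` when all involutions are conjugate -/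
theorem noa_of (h1 : H36.QE.One S) {a : MulAut S} {j : ℕ} (hj : ¬ 2 ^ (j + 1) ∣ Nat.card (Fix a))
    (hk : 2 ^ (j + 1) ∣ Nat.card S) {Q : Subgroup S} (hQ : IsSyl 2 Q (Fix a))
    (h : ∀ c ∈ Q, c ∈ cen Q → CO.Inv c → c ∈ ⁅Fix a, Fix a⁆) : NOa a :=
  noa_of_one hQ (fun _ _ _ hw => not_syl_of_zi (zi_of_one h1 hw) fun h => not_syl_le h hj hk hQ.le) (.inl h)

theorem xo_of (hz : center S = ⊥) (hi : Ix S) (h1 : H36.QE.One S)
    (hc : ∀ a b : MulAut S, Ou a → Ou b → IsConj a b) : XO S where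
  sq a := (hi a a).elim (fun h => mul_mem h h) fun h => h.elim (fun h => mul_mem h h) id
  co a b ha hb := ((hi a b).resolve_left ha.1.2).resolve_left hb.1.2
  ix a b _ ha := (hi b a).imp_right fun h => .inl (h.resolve_left ha.1.2)
  bd a ha P hP hle w hw := by
    obtain ⟨-, U, hU, h2⟩ := zi_iff.1 (zi_of_one h1 hw)
    refine ⟨U, h2, hU.isPGroup, ?_⟩
    have hQ : IsPGroup 2 (P.comap (MulAut.conj : S →* MulAut S)) := hP.comap_of_injective _ (conj_inj hz)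
    obtain ⟨V, hV, h3⟩ := exists_isSyl_le hQ le_top
    have h4 := two_card_le h3 fun e => ha.2 V hV fun x hx => (conj_mem_cen1 hz).1 (hle (e hx))
    rw [← card_map_of_injective (conj_inj hz), map_comap_eq] at h4
    have h6 : (H36.QF.Inn S).index = 2 := by
      refine index_eq_two_iff.2 ⟨a, fun b => ?_⟩
      by_cases hb : b ∈ H36.QF.Inn S
      · exact .inr ⟨hb, fun h => ha.1.2 ((Subgroup.mul_mem_cancel_left _ hb).1 h)⟩
      · exact .inl ⟨((hi b a).resolve_left hb).resolve_left ha.1.2, hb⟩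
    exact ((card_le_two_inf le_top le_top (by rw [card_top, ← h6, index_mul_card])).trans h4).trans
      (hU.card_le hV.isPGroup le_top)
  tr a ha := by
    refine .inr ⟨?_, fun b hb => .inr ?_⟩
    · obtain ⟨x, c, h2, h3, h4, -⟩ := exists_swap hz ha.1.1 (by_contra fun h => by
        obtain ⟨T, hT⟩ := exists_isSyl 2 (Fix a)
        refine ha.2 T (isSyl_of_not_dvd_relIndex le_top hT.isPGroup fun h2 => ?_) hT.le
        rw [relIndex_top_right, ← relIndex_mul_index hT.le] at h2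
        exact (Nat.prime_two.dvd_mul.1 h2).elim hT.not_dvd_relIndex h)
      exact ⟨c, h2, h3, x, h4⟩
    · obtain ⟨g, rfl⟩ := isConj_iff.1 (hc a b ha.1 hb.1)
      rcases hi g a with ⟨x, rfl⟩ | h | ⟨x, hx⟩
      exacts [⟨x, rfl⟩, absurd h ha.1.2, ⟨x, by rw [hx]; group⟩]

theorem kx_of_dih (hz : center S = ⊥) (hi : Ix S) (h1 : H36.QE.One S)
    (hc : ∀ a b : MulAut S, Ou a → Ou b → IsConj a b)
    (hd : ∀ T : Subgroup (MulAut S), IsPGroup 2 T → IsCyclic T ∨ ∃ r s, H85.Dih T r s)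
    (h8 : 2 ^ 3 ∣ Nat.card S) {x y : S} (hx : CO.Inv x) (hy : CO.Inv y) (hxy : x ≠ y)
    (c : x * y = y * x) : KX S := by
  have hj := conj_inj hz
  have e : ∀ U : Subgroup S, U ≃* U.map (MulAut.conj : S →* MulAut S) := fun U =>
    U.equivMapOfInjective _ hj
  have hi' : ∀ {x : S}, CO.Inv x → CO.Inv (MulAut.conj x) := fun h =>
    ⟨fun e => h.1 (hj (e.trans (map_one _).symm)), by rw [← map_mul, h.2, map_one]⟩
  have key : ∀ U : Subgroup S, IsSyl 2 U ⊤ → ¬ IsMulCommutative (U.map (MulAut.conj : S →* MulAut S)) := by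
    intro U hU
    obtain h | ⟨r, s, h⟩ := hd _ (hU.isPGroup.map MulAut.conj)
    · obtain ⟨g, -, h3⟩ := hU.exists_le_cj (CO.isPGroup_sup (CO.tw_of_sq hx.2).zp (CO.tw_of_sq hy.2).zp
        (zpowers_le.2 (CO.cen_le_nor _ (mem_cen.2 fun z hz => by
          obtain ⟨k, rfl⟩ := hz
          exact ((show Commute x y from c).zpow_right k).symm.eq)))) le_top
      have := isCyclic_of_surjective _ (((e U).symm.trans ((MulAut.conj g).subgroupMap U)).surjective)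
      exact absurd (H61.eq_of_isCyclic_of_mul_self this (h3 (mem_sup_left (mem_zpowers x)))
        (h3 (mem_sup_right (mem_zpowers y))) hx.1 hy.1 hx.2 hy.2) hxy
    · refine not_comm_of_dih h ?_
      rw [card_map_of_injective hj]
      exact lt_of_lt_of_le (by norm_num) (Nat.le_of_dvd Nat.card_pos (pow_dvd_of_syl hU h8))
  have cm : ∀ {U : Subgroup S} {x : S}, x ∈ cen U →
      MulAut.conj x ∈ cen (U.map (MulAut.conj : S →* MulAut S)) := fun h => mem_cen.2 (by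
    rintro _ ⟨y, hy, rfl⟩
    rw [← map_mul, mem_cen.1 h y hy, map_mul])
  refine ⟨xo_of hz hi h1 hc, h1, fun U hU a ha h => ?_, .inl fun U hU =>
    ⟨fun h => key U hU inferInstance, .inl ⟨fun x hx y hy cx cy ix iy => hj (dih_cen (hd _
      (hU.isPGroup.map _)) (key U hU) (mem_map_of_mem _ hx) (mem_map_of_mem _ hy) (cm cx) (cm cy) (hi' ix)
      (hi' iy)), ab_of_ix hz hi hU⟩⟩⟩
  have h2 : a ∈ cen (U.map (MulAut.conj : S →* MulAut S)) := mem_cen.2 (by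
    rintro _ ⟨y, hy, rfl⟩
    exact mem_cen1.1 ((conj_mem_cen1 hz).2 (h hy)))
  have h3 := CO.isPGroup_sup (CO.tw_of_sq ha.1).zp (hU.isPGroup.map MulAut.conj)
    (zpowers_le.2 (CO.cen_le_nor _ h2))
  obtain ⟨z, z1, z2, z3⟩ := CO.exists_inv_cen hU.isPGroup hU.isPGroup le_normalizer (by
    rintro rfl
    exact key _ hU inferInstance)
  have c2 : ∀ {b : MulAut S}, a * b = b * a → b ∈ cen (U.map (MulAut.conj : S →* MulAut S)) →
      b ∈ cen (zpowers a ⊔ U.map (MulAut.conj : S →* MulAut S)) := fun h h' =>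
    le_centralizer_iff.1 (sup_le (zpowers_le.2 (mem_cen.2 (by
      rintro _ ⟨k, rfl⟩
      exact ((show Commute a _ from h).zpow_right k).symm.eq))) (le_centralizer_iff.1 (zpowers_le.2 h')))
      (mem_zpowers _)
  exact ha.2 ⟨z, dih_cen (hd _ h3) (fun h => key U hU (comm_of_le h le_sup_right))
    (mem_sup_right (mem_map_of_mem _ z1)) (mem_sup_left (mem_zpowers a))
    (c2 (mem_cen.1 h2 _ (mem_map_of_mem _ z1)).symm (cm z3)) (c2 rfl h2) (hi' z2)
    ⟨fun e => ha.2 (e ▸ one_mem _), ha.1⟩⟩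

end Gen

theorem Mod.noa {Γ : Type*} [Group Γ] [Finite Γ] {α : MulAut Γ} (hz : ∀ z ∈ center Γ, z ^ 3 = 1)
    (h1 : H36.QE.One (Γ ⧸ center Γ)) {j : ℕ} (h : Mod (Fix α) j)
    (hk : 2 ^ (j + 1) ∣ Nat.card (Γ ⧸ center Γ)) : NOa (quotCenterAut Γ α) := by
  obtain ⟨Q, hQ⟩ := exists_isSyl 2 (Fix (quotCenterAut Γ α))
  refine noa_of h1 (two_fix hz h.two) hk hQ fun c hc _ ic =>
    commutator_mono (fixQ_le α) (fixQ_le α) ?_
  rw [← map_commutator, quasi_sub_perfect h.qs]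
  exact cube_of_sq ic.2 ▸ pow_mem_fixQ α hz (hQ.le hc)

variable {F : Type} [Field F] [Fintype F]

local notation "tr" => Matrix.SpecialLinearGroup.transvection

/-- the upper root group -/
def upH (F : Type) [Field F] : Multiplicative F →* PSL(2, F) :=
  MonoidHom.mk' (fun c => QuotientGroup.mk (tr zero_ne_one c.toAdd)) fun a b => by
    rw [toAdd_mul, Matrix.SpecialLinearGroup.transvection_add, QuotientGroup.mk_mul]

theorem inn_l2e (h2 : (2 : F) = 0) (g : GL (Fin 2) F) : pslDiag (Fin 2) F g ∈ H36.QF.Inn PSL(2, F) := by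
  obtain ⟨f, hf, e⟩ := exists_card_pow h2
  refine pslDiag_mem_inn_iff.2 ((powCoprime (n := 2) ?_).surjective _)
  rw [Nat.card_units, e]
  exact (Nat.coprime_two_left.2 (by simpa using odd_pred hf le_rfl)).symm

theorem proj_l2e (h2 : (2 : F) = 0) : ∃ π : MulAut PSL(2, F) →* RingAut F,
    ∀ a, a ∈ H36.QF.Inn PSL(2, F) ↔ π a = 1 := by
  obtain ⟨π, h, -⟩ := exists_aut_psl_two_proj (F := F)
  refine ⟨π, fun a => ?_⟩
  rw [← MonoidHom.mem_ker, h]
  exact ⟨fun h => H24.GW.inn_le h, fun ⟨g, h⟩ => h ▸ inn_l2e h2 g⟩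

theorem two_l2e {f : ℕ} (hf : 1 ≤ f) (e : Nat.card F = 2 ^ f) :
    2 ^ f ∣ Nat.card PSL(2, F) ∧ ¬ 2 ^ (f + 1) ∣ Nat.card PSL(2, F) :=
  ⟨dvd_psl hf e (card_sl2 e ▸ Dvd.intro _ rfl), fun h => not_dvd_of_odd (card_sl2 e)
    (odd_pred hf one_le_two) (h.trans (card_quotient_dvd_card _))⟩

theorem syl_l2e (h2 : (2 : F) = 0) {f : ℕ} (hf : 1 ≤ f) (e : Nat.card F = 2 ^ f)
    {U : Subgroup PSL(2, F)} (hU : IsSyl 2 U ⊤) :
    Nat.card U = 2 ^ f ∧ (∀ x ∈ U, x * x = 1) ∧ ∀ a : MulAut PSL(2, F), U ≤ Fix a → a ∈ H36.QF.Inn _ := by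
  have h1 : Nat.card (upH F).range = 2 ^ f := by
    rw [← e]
    exact (Nat.card_congr (MonoidHom.ofInjective fun a b h =>
      Multiplicative.toAdd.injective (transvection_eq_of_mk_eq zero_ne_one h)).toEquiv).symm
  have h3 := hU.of_card_ge (IsPGroup.of_card h1) le_top
    (h1 ▸ card_le_of_two hU.isPGroup le_top (card_top (G := PSL(2, F)) ▸ (two_l2e hf e).2))
  refine syl_ind (P := fun U => Nat.card U = 2 ^ f ∧ (∀ x ∈ U, x * x = 1) ∧
    ∀ a : MulAut PSL(2, F), U ≤ Fix a → a ∈ H36.QF.Inn _) (fun e _ => mp_el e) h3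
    ⟨h1, ?_, fun a ha => ?_⟩ U hU
  · rintro _ ⟨c, rfl⟩
    rw [← map_mul, show c * c = 1 from (two_mul c.toAdd).symm.trans (by rw [h2, zero_mul]; rfl), map_one]
  · obtain ⟨g, σ, rfl⟩ := psl_aut_two a
    have k : ∀ c, g.1 * single 0 1 (σ c) = single 0 1 c * g.1 := fun c => by
      apply slDiag_transvection_eq_of_mk_eq zero_ne_one zero_ne_one
      rw [← slField_transvection, ← pslDiag_mk, ← pslField_mk, ← MulAut.mul_apply]
      exact ha ⟨.ofAdd c, rfl⟩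
    have a1 := congrFun₂ (k 1) 0 0
    have a2 := congrFun₂ (k 1) 0 1
    have hd := g.det_ne_zero
    simp [Matrix.mul_apply, single] at a1 a2
    simp [det_fin_two, ← a1] at hd
    have hσ : σ = 1 := RingEquiv.ext fun c => by
      have := congrFun₂ (k c) 0 1
      simpa [Matrix.mul_apply, single, a2, mul_comm c, hd.2] using this
    rw [hσ, map_one, mul_one]
    exact inn_l2e h2 g

theorem reps_l2e (h2 : (2 : F) = 0) {a : MulAut PSL(2, F)} (ha : Ou a) :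
    ∃ σ : RingAut F, σ ≠ 1 ∧ σ * σ = 1 ∧ IsConj a (pslField (Fin 2) F σ) := by
  obtain ⟨g, rfl⟩ | h | ⟨h, -⟩ | ⟨h, -⟩ := reps le_rfl ha.1
  exacts [absurd (inn_l2e h2 g) ha.2, h, by omega, by omega]

theorem one_l2e (h2 : (2 : F) = 0) : H36.QE.One PSL(2, F) :=
  one_quot (center_cube (.inr ⟨rfl, h2⟩)) (one_sl h2 (.inl rfl))

theorem ou_l2e (h2 : (2 : F) = 0) {a : MulAut PSL(2, F)} (ha : Ou a) : ∃ f, 1 ≤ f ∧
    Nat.card F = 2 ^ (f * 2) ∧ (2 ≤ f → ¬ 2 ^ (f + 1) ∣ Nat.card (Fix a) ∧ NOa a) := by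
  obtain ⟨σ, h5, h6, h7⟩ := reps_l2e h2 ha
  obtain ⟨f, hf, e0, e1⟩ := card_fixed h2 h5 h6
  obtain ⟨e⟩ := fix_field (n := 2) σ
  refine ⟨f, hf, e1, fun h => ?_⟩
  have hm := (mod_sl2 (two_sub h2 _) e0 h).congr e
  obtain ⟨b, rfl⟩ := isConj_iff.1 h7.symm
  exact ⟨by rw [← congr_eq, mp_Fix, mp_card]; exact two_fix (center_cube (.inr ⟨rfl, h2⟩)) hm.two,
    (Mod.noa (center_cube (.inr ⟨rfl, h2⟩)) (one_l2e h2) hm
      ((pow_dvd_pow 2 (by omega)).trans (two_l2e (by omega) e1).1)).conj b⟩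

theorem ix_l24 (h2 : (2 : F) = 0) (e : Nat.card F = 2 ^ 2) : Ix PSL(2, F) := fun a b => by
  obtain ⟨π, h⟩ := proj_l2e h2
  have k : ∀ σ : RingAut F, σ * σ = 1 := fun σ => by
    rw [← sq, ← card_ringAut_finite_field (Nat.card_eq_fintype_card.symm.trans e), pow_card_eq_one']
  simpa only [h, map_mul] using cyc_rk (k (π a)) (k (π b))

theorem ab_l2e [IsSimpleGroup PSL(2, F)] (h2 : (2 : F) = 0) : AB PSL(2, F) := by
  obtain ⟨f, hf, e⟩ := exists_card_pow h2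
  obtain ⟨π, h⟩ := proj_l2e h2
  refine ⟨one_l2e h2, fun U hU => ?_, fun a b ha hb _ => ?_, fun U hU a ha _ h4 => ?_, fun U hU h4 => ?_⟩
  · obtain ⟨h3, h4, h5⟩ := syl_l2e h2 hf e hU
    exact ⟨h4, h3 ▸ e ▸ H61.four_le_card_of_simple, fun a _ => h5 a, fun x hx _ => h4 x hx⟩
  · simpa only [h, map_mul] using cyc_rk (x := π a) (y := π b) (by rw [← map_mul, ha, map_one])
      (by rw [← map_mul, hb, map_one])
  · obtain ⟨k, hk, e1, h5⟩ := ou_l2e h2 ha
    rw [(syl_l2e h2 hf e hU).1, ← e, e1] at h4 ⊢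
    rcases hk.eq_or_lt with rfl | hk
    · rfl
    have := h4.trans (Nat.mul_le_mul_left 2 (card_le_of_two hU.isPGroup.to_inf_left inf_le_right (h5 hk).1))
    rw [← pow_succ', Nat.pow_le_pow_iff_right one_lt_two] at this
    omega
  · rw [(syl_l2e h2 hf e hU).1, ← e] at h4
    refine ⟨Cfsg.Agent.S0494.result ?_, ix_l24 h2 h4⟩
    have := H61.gcd_mul_card_psl_two (k := F)
    rw [h4] at this
    simpa using this

theorem kx_l24 [IsSimpleGroup PSL(2, F)] (hz : center PSL(2, F) = ⊥) (h2 : (2 : F) = 0)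
    (e : Nat.card F = 2 ^ 2) : KX PSL(2, F) := by
  refine ⟨xo_of hz (ix_l24 h2 e) (one_l2e h2) fun a b ha hb => ?_, one_l2e h2,
    fun U hU a ha h => ha.2 ((syl_l2e h2 one_le_two e hU).2.2 a h), .inr (ab_l2e h2)⟩
  obtain ⟨σ, h3, h4, h5⟩ := reps_l2e h2 ha
  obtain ⟨τ, h6, h7, h8⟩ := reps_l2e h2 hb
  rw [H61.eq_of_isCyclic_of_mul_self (C := ⊤) inferInstance trivial trivial h3 h6 h4 h7] at h5
  exact h5.trans h8.symm

theorem ks_l2e [IsSimpleGroup PSL(2, F)] (h2 : (2 : F) = 0) (e : Nat.card F ≠ 2 ^ 2) : KS PSL(2, F) := by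
  obtain ⟨π, h⟩ := proj_l2e h2
  refine ⟨outD_of_comm fun a b => ?_, fun a ha => ?_, ni_of_zi fun _ => zi_of_one (one_l2e h2),
    .inr (.inl (ab_l2e h2))⟩
  · simp [h, (IsCyclic.isMulCommutative (α := RingAut F)).1.1 (π a)]
  · obtain ⟨k, hk, e1, h5⟩ := ou_l2e h2 ha
    exact (h5 (hk.lt_of_ne (by rintro rfl; exact e e1))).2

theorem kx_l2p (hz : center PSL(2, F) = ⊥) (hp : (Fintype.card F).Prime) (ho : Odd (Fintype.card F))
    (h8 : 2 ^ 3 ∣ Nat.card PSL(2, F)) : KX PSL(2, F) := by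
  have hs : Function.Surjective (pglDiag (Fin 2) F) := fun a => by
    obtain ⟨g, σ, rfl⟩ := psl_aut_two a
    exact ⟨.mk g, by rw [ringAut_eq_one hp σ, map_one, mul_one, pglDiag_mk]⟩
  have hi : ∀ g, pglDiag (Fin 2) F g ∈ H36.QF.Inn _ ↔ g ∈ H12.LC.PS F := fun g =>
    ⟨fun ⟨y, h⟩ => ⟨y, pglDiag_injective ((H24.GW.pglDiag_toP y).trans h)⟩,
      fun ⟨y, h⟩ => ⟨y, h ▸ (H24.GW.pglDiag_toP y).symm⟩⟩
  obtain ⟨x, y, h1, h2, h3, h4, h5, h6, -⟩ := H24.GW.exists_four_fixed (H12.LC.two_ne_zero' ho)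
  let e := MulEquiv.ofBijective _ ⟨pglDiag_injective, hs⟩
  refine kx_of_dih hz (fun a b => ?_) (fun x y hx hy => H61.psl_isConj_inv
    (Nat.card_eq_fintype_card (α := F) ▸ ho) hx.orderOf hy.orderOf) (fun a b ha hb => ?_)
    (fun T hT => ?_) h8 ⟨h4, h1⟩ ⟨h5, h2⟩ h6.symm h3
  · obtain ⟨a, rfl⟩ := hs a
    obtain ⟨b, rfl⟩ := hs b
    rw [← map_mul, hi, hi, hi, H12.LC.mul_mem_PS_iff ho]
    tauto
  · obtain ⟨a, rfl⟩ := hs a
    obtain ⟨b, rfl⟩ := hs b
    obtain ⟨x, hx⟩ := H12.LC.outer_conj ho (pglDiag_injective (by rw [map_mul, ha.1, map_one]))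
      (pglDiag_injective (by rw [map_mul, hb.1, map_one])) (mt (hi a).2 ha.2) (mt (hi b).2 hb.2)
    exact (pglDiag (Fin 2) F).map_isConj (isConj_iff.2 ⟨_, hx⟩)
  · obtain ⟨T, rfl⟩ := mp_sur e T
    obtain h | ⟨r, s, h⟩ := H95.cyclic_or_dih (H12.LC.hp F) (H12.LC.char_ne_two ho) ((mp_pg e).1 hT)
    exacts [.inl ((e.subgroupMap T).isCyclic.1 h), .inr ⟨_, _, h.map _ e.injective⟩]

theorem center_of_equiv {S S' : Type*} [Group S] [Group S'] [IsSimpleGroup S] (e : S ≃* S')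
    (hc : ¬ IsMulCommutative S) : center S' = ⊥ :=
  have := e.symm.isSimpleGroup
  center_bot fun h => hc ⟨⟨fun a b => e.injective (by rw [map_mul, map_mul, h.1.1])⟩⟩

theorem jobFL2 : JobFL2.{u} := by
  intro S _ _ _ hc h
  obtain ⟨F, _, _, h2, ⟨e⟩⟩ | ⟨F, _, _, ⟨hp, h⟩, ⟨e⟩⟩ := h
  · have := e.symm.isSimpleGroup
    have h3 : (2 : F) = 0 := (CharP.charP_iff_prime_eq_zero Nat.prime_two).1 h2
    by_cases h4 : Nat.card F = 2 ^ 2
    · exact .inr ((kx_l24 (center_of_equiv e hc) h3 h4).congr e.symm)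
    · exact .inl ((ks_l2e h3 h4).congr e.symm)
  have := e.symm.isSimpleGroup
  have h4 : 4 ≤ Fintype.card F := Nat.card_eq_fintype_card (α := F) ▸ H61.four_le_card_of_simple
  have ho := hp.odd_of_ne_two (by omega)
  have h5 := H88.two_mul_card_psl_two ho
  by_cases h6 : Fintype.card F = 5
  · obtain ⟨f⟩ := Cfsg.Agent.S0494.result (G := PSL(2, F)) (by rw [h6] at h5; omega)
    have : Fintype (GaloisField 2 2) := Fintype.ofFinite _
    have h7 : Nat.card (GaloisField 2 2) = 2 ^ 2 := GaloisField.card 2 2 two_ne_zero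
    have := H61.isSimpleGroup_psl (F := GaloisField 2 2) h7.ge
    obtain ⟨-, ⟨g⟩, -⟩ : ∃ U, QT.Alt 5 PSL(2, GaloisField 2 2) ∧ IsSyl 2 U ⊤ :=
      let ⟨U, hU⟩ := exists_isSyl 2 (⊤ : Subgroup PSL(2, GaloisField 2 2))
      ⟨U, ((ab_l2e (CharP.cast_eq_zero _ 2)).four U hU
        (syl_l2e (CharP.cast_eq_zero _ 2) one_le_two h7 hU).1).1, hU⟩
    let e' := (e.trans f).trans g.symm
    exact .inr ((kx_l24 (center_of_equiv e' hc) (CharP.cast_eq_zero _ 2) h7).congr e'.symm)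
  refine .inr ((kx_l2p (center_of_equiv e hc) hp ho (Nat.dvd_of_mul_dvd_mul_left two_pos ?_)).congr e.symm)
  rw [h5, show Fintype.card F ^ 2 - 1 = _ from Nat.sq_sub_sq _ 1]
  refine Dvd.dvd.mul_left ?_ _
  obtain ⟨m, hm⟩ := ho
  have key : ∀ k, 5 ≤ 2 ^ k → 2 ^ 3 ∣ 2 ^ k := fun k hk => pow_dvd_pow 2 (by_contra fun h => by
    have := Nat.pow_le_pow_right (n := 2) two_pos (show k ≤ 2 by omega)
    omega)
  obtain ⟨k, -, h⟩ | ⟨k, h⟩ := h
  · exact mul_dvd_mul ⟨m + 1, by omega⟩ (by rw [h, Nat.add_sub_cancel]; exact key k (by omega))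
  · rw [mul_comm 2]
    exact mul_dvd_mul (h ▸ key k (by omega)) ⟨m, by omega⟩

end H58.QF
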