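import Cfsg.Agent.H58.DPM2A

/-! Slot M2 of chapter C4 (tower DP0), part B: the natural module. -/

set_option autoImplicit false

namespace H58.DPM2

open Subgroup Cfsg H98 H48.DP H57.DPC H48.DP2
open scoped commutatorElement

universe u

variable {G : Type u} [Group G] [Finite G]
variable {M Q J L : Subgroup G} {y z u n : G} {f : L →* P7} {z' : L}

namespace Dt

omit [Finite G] in
theorem zL (d : Dt M Q J L y z u n f z') : z ∈ L := d.ba.lt.zL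

omit [Finite G] in
theorem zN (d : Dt M Q J L y z u n f z') : z ∈ No (Q ⊓ L) :=
  (d.ba.p2.le ⟨d.zL, d.yz.2⟩).2

omit [Finite G] in
theorem nF (d : Dt M Q J L y z u n f z') : n ∈ Om J ⊓ Ce (Q ⊓ L) ⊓ C1 z := by
  have h1 : n ∈ Om Q := by rw [d.vn.om]; exact mem_zpowers n
  refine ⟨⟨d.vn.nJ, centralizer_le (fun g hg => hg.1) h1.2.1⟩, mem_C1.2 (mem_C1'.1 ?_)⟩
  rw [d.vn.cn]
  exact d.yz.2

/-- Two different transvections of the four-group have different axes. -/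
theorem axes (d : Dt M Q J L y z u n f z') {t s : L} (ht : (t : G) ∈ Q ⊓ L) (hs : (s : G) ∈ Q ⊓ L)
    (tJ : (t : G) ∉ J) (sJ : (s : G) ∉ J) (ts : f t ≠ f s) :
    ∃ v ∈ Om J, (s : G) * v * (s : G)⁻¹ = v ∧ (t : G) * v * (t : G)⁻¹ ≠ v := by
  by_contra c
  push Not at c
  have hH : C1 (s : G) ⊓ Om J ≤ Om J ⊓ Ce (Q ⊓ L) := by
    rintro v ⟨v1, hv⟩
    refine ⟨hv, mem_Ce.2 fun q hq => ?_⟩
    have a1 : (s : G) ∈ C1 v := mem_C1'.2 (mem_C1.1 v1)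
    have a2 : (t : G) ∈ C1 v := mem_C1'.2 (c v hv (mem_C1.1 v1))
    have key : ∀ x : L, (x : G) ∈ C1 v → f ⟨q, hq.2⟩ = f x → q ∈ C1 v := by
      intro x hx e
      have h1 : f (x⁻¹ * ⟨q, hq.2⟩) = 1 := by rw [map_mul, map_inv, e, inv_mul_cancel]
      have h2 : (x : G)⁻¹ * q ∈ C1 v := mem_C1'.2 (om_fix (d.one_iff.1 h1) hv)
      simpa using mul_mem hx h2
    refine mem_C1'.1 ?_
    rcases four d.c4 d.F.el (d.memB.2 ht) (d.memB.2 hs) ((d.memB (x := ⟨q, hq.2⟩)).2 hq)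
      (fun e => tJ (d.one_iff.1 e)) (fun e => sJ (d.one_iff.1 e)) ts with e | e | e | e
    · exact key 1 (one_mem _) (by rw [e, map_one])
    · exact key t a2 e
    · exact key s a1 e
    · exact key (t * s) (mul_mem a2 a1) (by rw [e, map_mul])
  have i1 : (Om J ⊓ Ce (Q ⊓ L)).relIndex (Om J) ≤ 2 := by
    have := relIndex_le_of_le_left (L := Om J) hH index_ne_zero_of_finite
    rwa [inf_relIndex_right, d.tv s s.2 sJ (d.sq hs)] at this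
  have i1' : (Om J ⊓ Ce (Q ⊓ L)).relIndex (Om J) ≠ 1 := fun e => by
    have h2 := d.tv s s.2 sJ (d.sq hs)
    rw [relIndex_eq_one.2 fun v hv =>
      mem_C1.2 (mem_Ce.1 (relIndex_eq_one.1 e hv).2 s hs)] at h2
    omega
  have l1 : Ce L ⊓ Om J ≤ Om J ⊓ Ce (Q ⊓ L) ⊓ C1 z := fun v hv =>
    ⟨⟨hv.2, centralizer_le (fun g hg => hg.2) hv.1⟩, mem_C1.2 (mem_Ce.1 hv.1 z d.zL)⟩
  have m1 := relIndex_mul_relIndex _ _ (Om J ⊓ Ce (Q ⊓ L)) l1 inf_le_left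
  have m2 := relIndex_mul_relIndex _ _ (Om J) (l1.trans inf_le_left) inf_le_left
  have m3 := d.idx8
  rw [← inf_relIndex_right, ← m2, ← m1] at m3
  have n1 : (Ce L ⊓ Om J).relIndex (Om J ⊓ Ce (Q ⊓ L) ⊓ C1 z) ≠ 1 := fun e =>
    d.nL (relIndex_eq_one.1 e d.nF).1
  have n2 : (Ce L ⊓ Om J).relIndex (Om J ⊓ Ce (Q ⊓ L) ⊓ C1 z) ≠ 0 := index_ne_zero_of_finite
  have n3 : (Om J ⊓ Ce (Q ⊓ L)).relIndex (Om J) ≠ 0 := index_ne_zero_of_finite
  have i2 : (Om J ⊓ Ce (Q ⊓ L) ⊓ C1 z).relIndex (Om J ⊓ Ce (Q ⊓ L)) ≤ 2 := by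
    by_contra c2
    have : 2 * 3 * 2 ≤ (Ce L ⊓ Om J).relIndex (Om J ⊓ Ce (Q ⊓ L) ⊓ C1 z) *
        (Om J ⊓ Ce (Q ⊓ L) ⊓ C1 z).relIndex (Om J ⊓ Ce (Q ⊓ L)) *
        (Om J ⊓ Ce (Q ⊓ L)).relIndex (Om J) :=
      Nat.mul_le_mul (Nat.mul_le_mul (by omega) (by omega)) (by omega)
    omega
  have zZ : z ∈ No (Om J) := d.LZ d.zL
  have zH : z ∈ No (Om J ⊓ Ce (Q ⊓ L)) :=
    le_normalizer_inf (H := zpowers z) (zpowers_le.2 zZ)
      (le_normalizer_centralizer (zpowers_le.2 d.zN)) (mem_zpowers z)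
  have zF : z ∈ No (Om J ⊓ Ce (Q ⊓ L) ⊓ C1 z) :=
    le_normalizer_of_le_centralizer (H := zpowers z) (A := Om J ⊓ Ce (Q ⊓ L) ⊓ C1 z)
      (zpowers_le.2 (mem_Ce.2 fun b hb => mem_C1'.1 (mem_inf.1 hb).2)) (mem_zpowers z)
  have hz : z ∈ J := d.faith d.zL fun v hv => by
    have a1 := step i1 zH zZ hv
    have a2 := step i2 zF zH a1
    exact fix_of_three (a := v⁻¹ * (z * v * z⁻¹)) (by rw [← d.ba.bd.z3, pow_orderOf_eq_one])
      (by group) (mul_inv_cancel_left _ _).symm (mem_C1.1 a2.2) a1.1.2.2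
  have h3 := d.o3
  rw [d.one_iff.2 (d.zz ▸ hz), orderOf_one] at h3
  omega

theorem common (d : Dt M Q J L y z u n f z') :
    ∃ c, ∀ t ∈ Q ⊓ L, t ∉ J → Cen (Om J) t c := by
  obtain ⟨t, ht, tJ⟩ := d.exists_t
  obtain ⟨c, hc⟩ := exists_cen (d.LZ ht.2) (d.tv t ht.2 tJ (d.sq ht))
  refine ⟨c, fun s hs sJ => ?_⟩
  obtain ⟨c', hc'⟩ := exists_cen (d.LZ hs.2) (d.tv s hs.2 sJ (d.sq hs))
  have hr : t⁻¹ * s ∈ Q ⊓ L := mul_mem (inv_mem ht) hs
  obtain ⟨v, hv, v1, v2⟩ : ∃ v ∈ Om J, (t⁻¹ * s) * v * (t⁻¹ * s)⁻¹ = v ∧ t * v * t⁻¹ ≠ v := by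
    by_cases e : t⁻¹ * s ∈ J
    · obtain ⟨v, hv, h⟩ := hc.ex
      exact ⟨v, hv, om_fix e hv, by rw [h]; simpa using hc.ne⟩
    · refine d.axes (t := ⟨t, ht.2⟩) (s := ⟨t⁻¹ * s, hr.2⟩) ht hr tJ e fun c2 => sJ ?_
      have h1 : (⟨s, hs.2⟩ : L) = ⟨t, ht.2⟩ * ⟨t⁻¹ * s, hr.2⟩ := Subtype.ext (by simp)
      refine (d.one_iff (x := ⟨s, hs.2⟩)).1 ?_
      rw [h1, map_mul, ← c2]
      exact d.F.el _ (d.memB.2 ht)
  have e : s * v * s⁻¹ = t * v * t⁻¹ := by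
    calc s * v * s⁻¹ = t * ((t⁻¹ * s) * v * (t⁻¹ * s)⁻¹) * t⁻¹ := by group
      _ = _ := by rw [v1]
  have e1 := (hc.all v hv).resolve_left v2
  have e2 := (hc'.all v hv).resolve_left (by rw [e]; exact v2)
  rw [e, e1] at e2
  rw [mul_left_cancel e2]
  exact hc'

omit [Finite G] in
theorem fix (d : Dt M Q J L y z u n f z') {c g : G} (hc : ∀ t ∈ Q ⊓ L, t ∉ J → Cen (Om J) t c)
    (gJ : g ∈ No J) (gQ : g ∈ No (Q ⊓ L)) : g * c * g⁻¹ = c := by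
  obtain ⟨t, ht, tJ⟩ := d.exists_t
  obtain ⟨v, hv, e⟩ := (hc t ht tJ).ex
  have h1 := (hc _ (conj_mem_of_mem_normalizer gQ ht)
    fun x => tJ ((mem_normalizer_iff.1 gJ t).2 x)).all _ (om_conj gJ hv)
  have h2 : g * t * g⁻¹ * (g * v * g⁻¹) * (g * t * g⁻¹)⁻¹ = g * v * g⁻¹ * (g * c * g⁻¹) := by
    calc _ = g * (t * v * t⁻¹) * g⁻¹ := by group
      _ = _ := by rw [e]; group
  rw [h2] at h1
  rcases h1 with h1 | h1
  · have h3 : g * c * g⁻¹ = 1 := by simpa using h1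
    exact ((hc t ht tJ).ne (by simpa [mul_inv_eq_iff_eq_mul] using h3)).elim
  · exact mul_left_cancel h1

omit [Finite G] in
theorem cL (d : Dt M Q J L y z u n f z') {c : G} (hc : ∀ t ∈ Q ⊓ L, t ∉ J → Cen (Om J) t c) :
    c ∉ Ce L := by
  intro h
  obtain ⟨t, ht, tJ⟩ := d.exists_t
  have ct := hc t ht tJ
  obtain ⟨a, ha⟩ := d.F.g2 _ (d.ord (t := ⟨t, ht.2⟩) ht tJ)
  obtain ⟨a, rfl⟩ := d.sj a
  let S : Subgroup G :=
    { carrier := {g | g ∈ L ∧ ∀ v ∈ Om J, g * v * g⁻¹ = v ∨ g * v * g⁻¹ = v * c}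
      one_mem' := ⟨one_mem _, fun v _ => Or.inl (by group)⟩
      mul_mem' := fun {g k} hg hk => ⟨mul_mem hg.1 hk.1, fun v hv => by
        have e : g * k * v * (g * k)⁻¹ = g * (k * v * k⁻¹) * g⁻¹ := by group
        have e2 : g * (v * c) * g⁻¹ = g * v * g⁻¹ * c := by
          conv_rhs => rw [← mem_Ce.1 h g hg.1]
          group
        rw [e]
        rcases hk.2 v hv with h1 | h1 <;> rw [h1]
        · exact hg.2 v hv
        · rw [e2]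
          rcases hg.2 v hv with h2 | h2 <;> rw [h2]
          · exact Or.inr rfl
          · exact Or.inl (by rw [mul_assoc, ct.mem.2.2, mul_one])⟩
      inv_mem' := fun {g} hg => ⟨inv_mem hg.1, fun v hv => by
        have h1 := hg.2 _ (om_conj (inv_mem (d.ba.lt.LN hg.1)) hv)
        have e : g * (g⁻¹ * v * g⁻¹⁻¹) * g⁻¹ = v := by group
        rw [e] at h1
        rcases h1 with h1 | h1
        · exact Or.inl h1.symm
        · right
          conv_rhs => rw [h1]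
          rw [mul_assoc _ c, ct.mem.2.2, mul_one]⟩ }
  have t1 : t ∈ S := ⟨ht.2, ct.all⟩
  have t2 : (a : G) * t * (a : G)⁻¹ ∈ S := by
    refine ⟨mul_mem (mul_mem a.2 ht.2) (inv_mem a.2), fun v hv => ?_⟩
    have e : (a : G) * t * (a : G)⁻¹ * v * ((a : G) * t * (a : G)⁻¹)⁻¹ =
        a * (t * ((a : G)⁻¹ * v * (a : G)⁻¹⁻¹) * t⁻¹) * (a : G)⁻¹ := by group
    rw [e]
    rcases ct.all _ (om_conj (inv_mem (d.ba.lt.LN a.2)) hv) with h1 | h1 <;> rw [h1]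
    · exact Or.inl (by group)
    · right
      conv_rhs => rw [← mem_Ce.1 h a a.2]
      group
  obtain ⟨wL, hw⟩ := mul_mem t1 t2
  set w : G := t * ((a : G) * t * (a : G)⁻¹) with hwd
  have h2 : w * w ∈ J := d.faith (mul_mem wL wL) fun v hv => by
    have e : w * w * v * (w * w)⁻¹ = w * (w * v * w⁻¹) * w⁻¹ := by group
    have e2 : w * (v * c) * w⁻¹ = w * v * w⁻¹ * c := by
      conv_rhs => rw [← mem_Ce.1 h w wL]
      group
    rw [e]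
    rcases hw v hv with h1 | h1
    · rw [h1, h1]
    · rw [h1, e2, h1, mul_assoc, ct.mem.2.2, mul_one]
  have h3 : f (⟨w, wL⟩ * ⟨w, wL⟩) = 1 := d.one_iff.2 h2
  have h4 : f ⟨w, wL⟩ = f ⟨t, ht.2⟩ * (f a * f ⟨t, ht.2⟩ * (f a)⁻¹) := by
    rw [← map_inv, ← map_mul, ← map_mul, ← map_mul]; rfl
  rw [map_mul, ← pow_two, h4, ← orderOf_dvd_iff_pow_eq_one, ha] at h3
  omega

omit [Finite G] in
theorem stab (d : Dt M Q J L y z u n f z') {c : G} (hc : ∀ t ∈ Q ⊓ L, t ∉ J → Cen (Om J) t c)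
    {l : G} (hl : l ∈ L) : l ∈ C1 c ↔ l ∈ No (Q ⊓ L) := by
  refine ⟨fun h => ?_, fun h => mem_C1'.2 (d.fix hc (d.ba.lt.LN hl) h)⟩
  obtain ⟨t, ht, tJ⟩ := d.exists_t
  have hN : ∀ g ∈ L, g ∈ No (Q ⊓ L) → g ∈ C1 c := fun g hg h =>
    mem_C1'.2 (d.fix hc (d.ba.lt.LN hg) h)
  rcases d.F.max (((C1 c).subgroupOf L).map f) (sup_le
    (map_mono fun g hg => hN g g.2 (le_normalizer hg))
    (zpowers_le.2 ⟨z', hN (z' : G) z'.2 (by rw [d.zz]; exact d.zN), rfl⟩)) with e | e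
  · exact (d.noB (l := ⟨l, hl⟩)).1 (e ⟨⟨l, hl⟩, h, rfl⟩)
  · have := d.le_of_top (fun j hj => mem_C1'.2 (om_fix hj (hc t ht tJ).mem)) e
    exact (d.cL hc (mem_Ce.2 fun g hg => mem_C1'.1 (this hg))).elim

omit [Finite G] in
theorem prod (d : Dt M Q J L y z u n f z') {c : G} (hc : ∀ t ∈ Q ⊓ L, t ∉ J → Cen (Om J) t c)
    (cZ : c ∈ Om J) {l : G} (hl : l ∈ L) :
    l * c * l⁻¹ * c = 1 ∨ ∃ k ∈ L, k * c * k⁻¹ = l * c * l⁻¹ * c := by
  by_cases e : l ∈ C1 c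
  · left
    rw [mem_C1'.1 e, cZ.2.2]
  right
  obtain ⟨-, -, ⟨b, hb, hb'⟩, -⟩ := d.F.g4 (f ⟨l, hl⟩) fun x => e ((d.stab hc hl).2 (d.noB.1 x))
  obtain ⟨t, rfl⟩ := d.sj b
  have ht := d.memB.1 hb
  have h1 : l⁻¹ * t * l ∉ C1 c := fun x => by
    have h2 := (d.noB (l := (⟨l, hl⟩ : L)⁻¹ * t * ⟨l, hl⟩)).2
      ((d.stab hc (mul_mem (mul_mem (inv_mem hl) t.2) hl)).1 x)
    rw [map_mul, map_mul, map_inv, ← mem_cj, cj_normalizer] at h2
    exact hb' h2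
  have h3 : (t : G) * (l * c * l⁻¹) * (t : G)⁻¹ ≠ l * c * l⁻¹ := fun x => h1 (mem_C1'.2 (by
    calc l⁻¹ * t * l * c * (l⁻¹ * t * l)⁻¹ = l⁻¹ * ((t : G) * (l * c * l⁻¹) * (t : G)⁻¹) * l := by
          group
      _ = c := by rw [x]; group))
  have hv := om_conj (d.ba.lt.LN hl) cZ
  have tJ : (t : G) ∉ J := fun x => h3 (om_fix x hv)
  refine ⟨t * l, mul_mem t.2 hl, ?_⟩
  rw [← ((hc t ht tJ).all _ hv).resolve_left h3]
  group

/-- The natural module. -/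
def W (d : Dt M Q J L y z u n f z') {c : G} (hc : ∀ t ∈ Q ⊓ L, t ∉ J → Cen (Om J) t c)
    (cZ : c ∈ Om J) : Subgroup G where
  carrier := {w | w = 1 ∨ ∃ l ∈ L, l * c * l⁻¹ = w}
  one_mem' := Or.inl rfl
  inv_mem' := by
    rintro w (rfl | ⟨l, hl, rfl⟩)
    · exact Or.inl inv_one
    · exact Or.inr ⟨l, hl, eq_inv_of_mul_eq_one_left (om_conj (d.ba.lt.LN hl) cZ).2.2⟩
  mul_mem' := by
    rintro v w (rfl | ⟨a, ha, rfl⟩) hw
    · rwa [one_mul]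
    rcases hw with rfl | ⟨b, hb, rfl⟩
    · exact Or.inr ⟨a, ha, (mul_one _).symm⟩
    have e : a * c * a⁻¹ * (b * c * b⁻¹) = b * ((b⁻¹ * a) * c * (b⁻¹ * a)⁻¹ * c) * b⁻¹ := by group
    rcases d.prod hc cZ (mul_mem (inv_mem hb) ha) with h | ⟨k, hk, h⟩
    · exact Or.inl (by rw [e, h]; group)
    · exact Or.inr ⟨b * k, mul_mem hb hk, by rw [e, ← h]; group⟩

theorem cardW (d : Dt M Q J L y z u n f z') {c : G} (hc : ∀ t ∈ Q ⊓ L, t ∉ J → Cen (Om J) t c)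
    (cZ : c ∈ Om J) (c1 : c ≠ 1) : Nat.card (d.W hc cZ) = 8 := by
  let act : MulAction L G := MulAction.compHom G ((MulAut.conj : G →* MulAut G).comp L.subtype)
  have h1 : @MulAction.stabilizer L G _ act c =
      (No (((Q ⊓ L).subgroupOf L).map f)).comap f := by
    ext l
    rw [mem_comap, d.noB, ← d.stab hc l.2, mem_C1']
    rfl
  have h2 := @MulAction.index_stabilizer L G _ act c
  rw [h1, index_comap_of_surjective _ d.sj, d.F.idx] at h2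
  have h3 : (d.W hc cZ : Set G) = insert 1 (@MulAction.orbit L G act.toSMul c) := by
    ext w
    constructor
    · rintro (rfl | ⟨l, hl, rfl⟩)
      · exact Or.inl rfl
      · exact Or.inr ⟨⟨l, hl⟩, rfl⟩
    · rintro (rfl | ⟨l, rfl⟩)
      · exact Or.inl rfl
      · exact Or.inr ⟨l, l.2, rfl⟩
  have h4 : (1 : G) ∉ @MulAction.orbit L G act.toSMul c := by
    rintro ⟨l, hl⟩
    have h5 : (l : G) * c * (l : G)⁻¹ = 1 := hl
    exact c1 (by simpa [mul_inv_eq_iff_eq_mul] using h5)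
  change Nat.card (d.W hc cZ : Set G) = 8
  rw [Nat.card_coe_set_eq, h3, Set.ncard_insert_of_notMem h4, ← h2]

theorem main (d : Dt M Q J L y z u n f z') : ∃ W n', Wm M Q J L W y n n' := by
  obtain ⟨c, hc⟩ := d.common
  obtain ⟨t, ht, tJ⟩ := d.exists_t
  have ct := hc t ht tJ
  have cZ := ct.mem
  have hle : d.W hc cZ ≤ Om J := by
    rintro w (rfl | ⟨l, hl, rfl⟩)
    · exact one_mem _
    · exact om_conj (d.ba.lt.LN hl) cZ
  have hst : L ⊓ C1 c = L ⊓ M := by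
    rw [d.ba.p2]
    ext l
    exact and_congr_right fun hl => d.stab hc hl
  have hsup : Om J ≤ d.W hc cZ ⊔ (Om J ⊓ Ce L) := by
    have m1 := relIndex_mul_relIndex (Om J ⊓ Ce L) (d.W hc cZ ⊔ (Om J ⊓ Ce L)) (Om J)
      le_sup_right (sup_le hle inf_le_left)
    have m2 := d.idx8
    rw [← inf_relIndex_right, inf_comm, ← m1] at m2
    have m3 := relIndex_le_of_le_right (H := Om J ⊓ Ce L) (K := d.W hc cZ)
      (L := d.W hc cZ ⊔ (Om J ⊓ Ce L)) le_sup_left index_ne_zero_of_finite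
    have m4 : (Om J ⊓ Ce L) ⊓ d.W hc cZ = ⊥ := by
      rw [eq_bot_iff]
      rintro w ⟨⟨-, h1⟩, rfl | ⟨l, hl, rfl⟩⟩
      · exact one_mem _
      · refine (d.cL hc ?_).elim
        have := conj_mem_of_mem_normalizer' (normalizer_le_normalizer_centralizer L
          (le_normalizer hl)) h1
        simpa [mul_assoc] using this
    rw [← inf_relIndex_right, m4, relIndex_bot_left, d.cardW hc cZ ct.ne] at m3
    have m5 : (d.W hc cZ ⊔ (Om J ⊓ Ce L)).relIndex (Om J) ≠ 0 := index_ne_zero_of_finite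
    refine relIndex_eq_one.1 ?_
    by_contra m6
    have : 8 * 2 ≤ (Om J ⊓ Ce L).relIndex (d.W hc cZ ⊔ (Om J ⊓ Ce L)) *
        (d.W hc cZ ⊔ (Om J ⊓ Ce L)).relIndex (Om J) := Nat.mul_le_mul m3 (by omega)
    omega
  refine ⟨d.W hc cZ, c, hle, d.cardW hc cZ ct.ne, fun g hg => mem_normalizer_of_cj_le ?_,
    Or.inr ⟨1, one_mem _, by group⟩, ct.ne, fun w hw w1 => hw.resolve_left w1, ?_, hst, hsup,
    ?_, ?_, ?_⟩
  · rintro _ ⟨w, rfl | ⟨l, hl, rfl⟩, rfl⟩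
    · exact Or.inl (map_one _)
    · exact Or.inr ⟨g * l, mul_mem hg hl, by simp [mul_assoc]⟩
  · have key : ∀ v ∈ Om J, ∀ s : G, s * v * s⁻¹ = v * c → ⁅v, s⁆ = c := by
      intro v hv s e
      have h1 : ⁅v, s⁆ = v * (s * v * s⁻¹)⁻¹ := by rw [commutatorElement_def]; group
      rw [h1, e, mul_inv_rev, inv_eq_of_mul_eq_one_left cZ.2.2, ← mul_assoc, om_fix hv.1 cZ]
    refine le_antisymm (commutator_le.2 fun v hv s hs => ?_) (zpowers_le.2 ?_)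
    · have h0 : s * v * s⁻¹ = v → ⁅v, s⁆ ∈ zpowers c := fun e => by
        have h1 : ⁅v, s⁆ = v * (s * v * s⁻¹)⁻¹ := by rw [commutatorElement_def]; group
        rw [h1, e, mul_inv_cancel]
        exact one_mem _
      by_cases sJ : s ∈ J
      · exact h0 (om_fix sJ hv)
      · rcases (hc s hs sJ).all v hv with e | e
        · exact h0 e
        · rw [key v hv s e]
          exact mem_zpowers c
    · obtain ⟨v, hv, e⟩ := ct.ex
      rw [← key v hv t e]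
      exact commutator_mem_commutator hv ht
  · refine mul_mem_of_le_two d.vn.f2 d.nF ⟨⟨cZ, mem_Ce.2 fun q hq => ?_⟩, mem_C1.2 ?_⟩ d.nL
      (d.cL hc)
    · exact mem_C1'.1 ((d.stab hc hq.2).2 (le_normalizer hq))
    · exact mem_C1'.1 ((d.stab hc d.zL).2 d.zN)
  · have hy : y * c * y⁻¹ = c := d.fix hc d.ba.lt.yN (le_normalizer_inf (H := zpowers y)
      (zpowers_le.2 (by change y ∈ No Q; rw [d.ba.bd.no]; exact d.yz.1))
      (zpowers_le.2 d.ba.yL') (mem_zpowers y))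
    rintro w (rfl | ⟨l, hl, rfl⟩)
    · exact one_mem _
    · refine mem_C1.2 ?_
      have h1 := om_fix (d.ba.lt.yL l hl) (om_conj (d.ba.lt.LN hl) cZ)
      calc y * (l * c * l⁻¹) * y⁻¹ = ⁅y, l⁆ * (l * (y * c * y⁻¹) * l⁻¹) * ⁅y, l⁆⁻¹ := by
            rw [commutatorElement_def]; group
        _ = _ := by rw [hy, h1]
  · refine le_antisymm (fun l hl => d.faith hl.1 fun v hv => ?_)
      (le_inf d.ba.lt.JL fun j hj => mem_Ce.2 fun w hw => mem_C1.1 (mem_C1'.2 (om_fix hj (hle hw))))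
    have : d.W hc cZ ⊔ (Om J ⊓ Ce L) ≤ C1 l := sup_le
      (fun w hw => mem_C1'.2 (mem_Ce.1 hl.2 w hw)) fun w hw => mem_C1.2 (mem_Ce.1 hw.2 l hl.1)
    exact mem_C1.1 (this (hsup hv))

end Dt

theorem jobM2 : JM2.{u} := by
  intro G _ _ M Q J L y z u n h hn tv
  obtain ⟨f, z', h1, h2, h3, h4, h5, h6⟩ := h.md
  exact Dt.main ⟨h, hn, tv, h1, h2, h3, h4, h5, h6⟩

end H58.DPM2
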