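import Cfsg.Agent.H51.TESpec

/-! Slot SC of tower TE, part 2: the abelian strongly closed subgroup. -/

set_option autoImplicit false

namespace H58.TESC

open Cfsg Subgroup MulAction H14 H98 H1.Gold H31.S2 H14.GC H14.FE H14.NF H51.TE
open scoped commutatorElement

universe u

variable {G : Type u} [Group G]

/-- The subgroup generated by the conjugates of involutions of `T` that lie in `S`. -/
def WW (X T S : Subgroup G) : Subgroup G := closure {d | DT X T d ∧ d ∈ S}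

theorem dt_conj {X T : Subgroup G} {a d : G} (ha : a ∈ X) (h : DT X T d) : DT X T (a * d * a⁻¹) := by
  obtain ⟨k, hk, t, ht, t1, rfl⟩ := h
  exact ⟨a * k, mul_mem ha hk, t, ht, t1, by group⟩

theorem ww_le (X T S : Subgroup G) : WW X T S ≤ S := (closure_le _).2 fun _ h => h.2

theorem ww_le_ww {X T S S' : Subgroup G} (h : WW X T S' ≤ S) : WW X T S' ≤ WW X T S :=
  closure_mono fun _ hd => ⟨hd.1, h (subset_closure hd)⟩

theorem cj_ww {X T : Subgroup G} (S : Subgroup G) {a : G} (ha : a ∈ X) :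
    cj a (WW X T S) = WW X T (cj a S) := by
  rw [WW, WW, cj, MonoidHom.map_closure]
  congr 1
  ext d
  constructor
  · rintro ⟨e, he, rfl⟩
    exact ⟨dt_conj ha he.1, conj_mem_cj he.2⟩
  · intro h
    refine ⟨a⁻¹ * d * a, ⟨?_, mem_cj.1 h.2⟩, by simp [mul_assoc]⟩
    simpa using dt_conj (inv_mem ha) h.1

variable {K E Q₁ T : Subgroup G}

theorem ww_ab (h : Sd K E Q₁ T) {X S : Subgroup G} (hS : IsPGroup 2 S) : Ab (WW X T S) := by
  have dv : ∀ d, DT X T d → Dv E d := by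
    rintro _ ⟨k, -, t, ht, t1, rfl⟩
    exact (dv_of h.col.p2 ht t1).conj k
  have h1 : WW X T S ≤ centralizer (WW X T S : Set G) := by
    rw [WW, centralizer_closure, closure_le]
    exact fun d hd e he => h.p1 e d (dv e he.1) (dv d hd.1) S hS he.2 hd.2
  exact fun a ha b hb => h1 hb a ha

theorem ww_el (h : Sd K E Q₁ T) {X S : Subgroup G} (hS : IsPGroup 2 S) : El (WW X T S) := by
  intro a ha
  induction ha using closure_induction with
  | mem d hd =>
    obtain ⟨k, -, t, ht, -, rfl⟩ := hd.1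
    calc k * t * k⁻¹ * (k * t * k⁻¹) = k * (t * t) * k⁻¹ := by group
      _ = 1 := by rw [pt_el h.gx.tg h.col.p2 t ht]; group
  | one => exact mul_one 1
  | mul a b ha hb ia ib =>
    calc a * b * (a * b) = a * (b * a) * b := by group
      _ = a * a * (b * b) := by rw [ww_ab h hS b hb a ha]; group
      _ = 1 := by rw [ia, ib, mul_one]
  | inv a _ ia => rw [← mul_inv_rev, ia, inv_one]

theorem job : H51.TE.JobSC.{u} := by
  intro kx1 kx2 G _ _ K E Q₁ T h
  obtain ⟨S, hS, hT⟩ := exists_isSyl_le (H := K ⊔ T) (El.two (pt_el h.gx.tg h.col.p2)) le_sup_right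
  refine ⟨S, WW (K ⊔ T) T S, hS, fun t ht => ?_, ww_le _ _ _, ww_ab h hS.isPGroup,
    fun a ha w hw hx => ?_⟩
  · by_cases e : t = 1
    · exact e ▸ one_mem _
    · exact subset_closure ⟨⟨1, one_mem _, t, ht, e, by group⟩, hT ht⟩
  have hS' := hS.cj_of_mem ha
  have hx' : a * w * a⁻¹ ∈ WW (K ⊔ T) T (cj a S) := cj_ww S ha ▸ conj_mem_cj hw
  set x := a * w * a⁻¹
  have x2 : x * x = 1 := ww_el h hS'.isPGroup x hx'
  have p' : IsPGroup 2 (WW (K ⊔ T) T (cj a S)) := hS'.isPGroup.to_le (ww_le _ _ _)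
  have c1 : WW (K ⊔ T) T S ≤ (K ⊔ T) ⊓ cen1 x := by
    refine le_inf ((ww_le _ _ _).trans hS.le) ((closure_le _).2 fun t₁ ht₁ => ?_)
    refine mem_centralizer_singleton_iff.2 (by_contra fun c => ?_)
    obtain ⟨t, ht, n1, n2, r, hr, hd⟩ := kx1 G K E Q₁ T h x t₁ x2 ht₁.1 S hS.le hS.isPGroup hx ht₁.2
      (Ne.symm c)
    exact n1 (kx2 G K E Q₁ T h _ (fun _ hw => hw.1) p' x hx' t ht n2 r hr hd)
  have c2 : WW (K ⊔ T) T (cj a S) ≤ (K ⊔ T) ⊓ cen1 x :=
    le_inf ((ww_le _ _ _).trans hS'.le) fun y hy =>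
      mem_centralizer_singleton_iff.2 (ww_ab h hS'.isPGroup y hy x hx')
  obtain ⟨U, hU, hU'⟩ := exists_isSyl_le p' c2
  obtain ⟨c, hc, e1⟩ := hU.exists_cj_le (hS.isPGroup.to_le (ww_le _ _ _)) c1
  obtain ⟨k, hk, e2⟩ := hS.exists_le_cj hU.isPGroup (hU.le.trans inf_le_left)
  have e3 : cj c (WW (K ⊔ T) T S) ≤ WW (K ⊔ T) T (cj k S) := by
    rw [cj_ww S hc.1] at e1 ⊢
    exact ww_le_ww (e1.trans e2)
  have e4 : cj c (WW (K ⊔ T) T S) = WW (K ⊔ T) T (cj k S) :=
    eq_of_le_of_card_ge e3 (by rw [← cj_ww S hk, card_cj, card_cj])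
  have e5 : x ∈ cj c (WW (K ⊔ T) T S) := e4 ▸ ww_le_ww (hU'.trans e2) hx'
  rw [mem_cj, mul_assoc, ← mem_centralizer_singleton_iff.1 hc.2, inv_mul_cancel_left] at e5
  exact e5

end H58.TESC
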