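import Cfsg.Agent.H20.DGSpec

/-! Slot F0 of tower DG: Witt's lemma and the trivial pointwise stabiliser. -/

set_option autoImplicit false

namespace H58.DGF0

open Subgroup MulAction Cfsg H98 H20.DG

universe u v

theorem jobF0 : JobF0.{u, v} := by
  intro G Ω _ _ _ _ p q P A L O hy h t2
  have : Fact p.Prime := ⟨hy.pp⟩
  have n2 : ∀ a b c d : Ω, a ∉ O → b ∉ O → c ∉ O → d ∉ O → a ≠ b → c ≠ d →
      ∃ g ∈ normalizer (A : Set G), g • a = c ∧ g • b = d := by
    intro a b c d ha hb hc hd hab hcd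
    obtain ⟨g, g1, g2⟩ := t2 a b c d hab hcd
    have s1 : IsSyl p A (stabilizer G a ⊓ stabilizer G b) :=
      (h.sylA a ha).of_le (le_inf ((h.fix a).2 ha) ((h.fix b).2 hb)) inf_le_left
    have s2 : IsSyl p A (stabilizer G c ⊓ stabilizer G d) :=
      (h.sylA c hc).of_le (le_inf ((h.fix c).2 hc) ((h.fix d).2 hd)) inf_le_left
    have s3 := s1.cj g
    rw [cj_inf, cj_stab, cj_stab, g1, g2] at s3
    obtain ⟨k, hk, e⟩ := s3.exists_cj_eq s2
    rw [cj_cj] at e
    exact ⟨k * g, cj_eq_self_iff.1 e, by rw [mul_smul, g1]; exact hk.1,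
      by rw [mul_smul, g2]; exact hk.2⟩
  refine ⟨?_, n2⟩
  have pres : ∀ g ∈ normalizer (A : Set G), ∀ x ∈ O, g⁻¹ • x ∈ O := by
    intro g hg x hx
    by_contra c
    have h1 := cj_mono g ((h.fix _).2 c)
    rw [cj_eq_self hg, cj_stab, smul_inv_smul] at h1
    exact (h.fix x).1 h1 hx
  have out : ∀ l ∈ L, ∀ a, a ∉ O → l • a ∉ O := by
    intro l hl a ha c
    have h1 := (h.memL l).1 hl _ c
    exact ha (by rw [← smul_left_cancel l h1]; exact c)
  rw [eq_bot_iff]
  intro l hl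
  refine mem_bot.2 (hy.faith l fun a => ?_)
  by_cases ha : a ∈ O
  · exact (h.memL l).1 hl a ha
  by_contra hne
  have hO : Ob L a = Oᶜ := by
    ext d
    constructor
    · rintro ⟨k, hk, rfl⟩
      exact out k hk a ha
    · intro hd
      by_cases e : a = d
      · exact ⟨1, one_mem _, by rw [one_smul, e]⟩
      obtain ⟨g, hg, g1, g2⟩ := n2 a (l • a) a d ha (out l hl a ha) ha hd (Ne.symm hne) e
      refine ⟨g * l * g⁻¹, (h.memL _).2 fun x hx => ?_, ?_⟩
      · rw [mul_smul, mul_smul, (h.memL l).1 hl _ (pres g hg x hx), smul_inv_smul]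
      · rw [mul_smul, mul_smul, inv_smul_eq_iff.2 g1.symm, g2]
  have h1 := ncard_Ob L a
  have h2 := Set.ncard_add_ncard_compl O
  rw [h.cardO, hy.card, ← hO, h1] at h2
  have h3 : p ∣ (stabilizer G a).relIndex L := by
    have h4 : p ∣ p ^ 2 + (stabilizer G a).relIndex L := by
      rw [h2]
      exact Dvd.dvd.mul_right (dvd_mul_left p 2) q
    exact (Nat.dvd_add_right (dvd_pow_self p two_ne_zero)).1 h4
  exact h.cop (h3.trans (relIndex_dvd_card _ _))

end H58.DGF0
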