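import Cfsg.Agent.H48.DC4Spec

/-! Slot M2 of chapter C4 (tower DP0), part A: transvections on `Ω₁(Z(J))`. -/

set_option autoImplicit false

namespace H58.DPM2

open Subgroup Cfsg H98 H48.DP H57.DPC H48.DP2
open scoped commutatorElement

universe u

variable {G : Type u} [Group G]

theorem mul_mem_of_le_two [Finite G] {H K : Subgroup G} (h : H.relIndex K ≤ 2) {a b : G}
    (ha : a ∈ K) (hb : b ∈ K) (ha' : a ∉ H) (hb' : b ∉ H) : a * b ∈ H := by
  have h0 : H.relIndex K ≠ 0 := index_ne_zero_of_finite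
  have h1 : H.relIndex K ≠ 1 := fun e => ha' (relIndex_eq_one.1 e ha)
  have h2 : (H.subgroupOf K).index = 2 := by
    change H.relIndex K = 2
    omega
  have := (mul_mem_iff_of_index_two h2 (a := ⟨a, ha⟩) (b := ⟨b, hb⟩)).2
    (by simp only [mem_subgroupOf]; exact iff_of_false ha' hb')
  exact this

theorem step [Finite G] {H K : Subgroup G} (h : H.relIndex K ≤ 2) {z v : G} (hH : z ∈ No H)
    (hK : z ∈ No K) (hv : v ∈ K) : v⁻¹ * (z * v * z⁻¹) ∈ H := by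
  by_cases e : v ∈ H
  · exact mul_mem (inv_mem e) (conj_mem_of_mem_normalizer hH e)
  · refine mul_mem_of_le_two h (inv_mem hv) (conj_mem_of_mem_normalizer hK hv)
      (fun c => e (inv_mem_iff.1 c)) (fun c => e ?_)
    exact (mem_normalizer_iff.1 hH v).2 c

theorem om_conj {J : Subgroup G} {g v : G} (hg : g ∈ No J) (hv : v ∈ Om J) :
    g * v * g⁻¹ ∈ Om J := by
  refine ⟨conj_mem_of_mem_normalizer hg hv.1,
    conj_mem_of_mem_normalizer (normalizer_le_normalizer_centralizer J hg) hv.2.1, ?_⟩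
  calc g * v * g⁻¹ * (g * v * g⁻¹) = g * (v * v) * g⁻¹ := by group
    _ = 1 := by rw [hv.2.2]; group

theorem no_om {J : Subgroup G} : No J ≤ No (Om J) := fun g hg => by
  rw [mem_normalizer_iff]
  refine fun v => ⟨om_conj hg, fun c => ?_⟩
  have := om_conj (inv_mem hg) c
  simpa [mul_assoc] using this

theorem om_fix {J : Subgroup G} {j v : G} (hj : j ∈ J) (hv : v ∈ Om J) : j * v * j⁻¹ = v := by
  rw [mem_centralizer_iff.1 hv.2.1 j hj]; group

theorem mem_C1 {a b : G} : a ∈ C1 b ↔ b * a * b⁻¹ = a := by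
  rw [mem_centralizer_singleton_iff, mul_inv_eq_iff_eq_mul, eq_comm]

theorem mem_C1' {a b : G} : a ∈ C1 b ↔ a * b * a⁻¹ = b := by
  rw [mem_centralizer_singleton_iff, mul_inv_eq_iff_eq_mul]

theorem mem_Ce {a : G} {H : Subgroup G} : a ∈ Ce H ↔ ∀ b ∈ H, b * a * b⁻¹ = a := by
  rw [mem_centralizer_iff]
  exact forall₂_congr fun b _ => by rw [mul_inv_eq_iff_eq_mul]

/-- `c` is the centre of the transvection `t` of `Z`. -/
structure Cen (Z : Subgroup G) (t c : G) : Prop where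
  mem : c ∈ Z
  ne : c ≠ 1
  all : ∀ v ∈ Z, t * v * t⁻¹ = v ∨ t * v * t⁻¹ = v * c
  ex : ∃ v ∈ Z, t * v * t⁻¹ = v * c

theorem exists_cen [Finite G] {Z : Subgroup G} {t : G} (ht : t ∈ No Z)
    (h : (C1 t).relIndex Z = 2) : ∃ c, Cen Z t c := by
  have h1 : ¬ Z ≤ C1 t := fun e => by rw [relIndex_eq_one.2 e] at h; omega
  obtain ⟨v, hv, hv'⟩ := SetLike.not_le_iff_exists.1 h1
  refine ⟨v⁻¹ * (t * v * t⁻¹), mul_mem (inv_mem hv) (conj_mem_of_mem_normalizer ht hv),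
    fun e => hv' (mem_C1.2 (inv_mul_eq_one.1 e).symm), fun w hw => ?_, v, hv, by group⟩
  by_cases e : w ∈ C1 t
  · exact Or.inl (mem_C1.1 e)
  · right
    have h2 := mem_C1.1 (mul_mem_of_le_two h.le hw (inv_mem hv) e fun c => hv' (inv_mem_iff.1 c))
    calc t * w * t⁻¹ = (t * (w * v⁻¹) * t⁻¹) * (t * v * t⁻¹) := by group
      _ = _ := by rw [h2]; group

theorem fix_of_three {z v a b : G} (hz : z ^ 3 = 1) (h1 : z * v * z⁻¹ = v * a)
    (h2 : z * a * z⁻¹ = a * b) (h3 : z * b * z⁻¹ = b) (ha : a * a = 1) : z * v * z⁻¹ = v := by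
  have e2 : z * (z * v * z⁻¹) * z⁻¹ = v * b := by
    calc z * (z * v * z⁻¹) * z⁻¹ = (z * v * z⁻¹) * (z * a * z⁻¹) := by
          conv_lhs => rw [h1]
          group
      _ = v * (a * a) * b := by rw [h1, h2]; group
      _ = v * b := by rw [ha, mul_one]
  have e3 : v = v * (a * b) := by
    have hz' : z * z * z = 1 := by rw [← hz, pow_succ, pow_two]
    calc v = z * z * z * v * (z * z * z)⁻¹ := by rw [hz']; group
      _ = z * (z * (z * v * z⁻¹) * z⁻¹) * z⁻¹ := by group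
      _ = (z * v * z⁻¹) * (z * b * z⁻¹) := by rw [e2]; group
      _ = v * (a * b) := by rw [h1, h3]; group
  have e4 : a * b = 1 := by simpa using e3.symm
  rw [e4] at h2
  have e5 : a = 1 := by simpa [mul_inv_eq_iff_eq_mul] using h2
  rw [h1, e5, mul_one]

theorem four {Λ : Type*} [Group Λ] {B : Subgroup Λ} (h4 : Nat.card B = 4) (el : ∀ t ∈ B, t * t = 1)
    {a b x : Λ} (ha : a ∈ B) (hb : b ∈ B) (hx : x ∈ B) (a1 : a ≠ 1) (b1 : b ≠ 1) (ab : a ≠ b) :
    x = 1 ∨ x = a ∨ x = b ∨ x = a * b := by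
  have : Nontrivial B := ⟨⟨⟨a, ha⟩, 1, fun e => a1 (congrArg Subtype.val e)⟩⟩
  have : IsKleinFour B := ⟨h4, (Monoid.exponent_eq_prime_iff Nat.prime_two).2 fun g hg =>
    orderOf_eq_prime (Subtype.ext (by rw [pow_two]; exact el g g.2)) hg⟩
  by_contra c
  simp only [not_or] at c
  exact c.2.2.2 (congrArg Subtype.val (IsKleinFour.eq_mul_of_ne_all (x := (⟨a, ha⟩ : B))
    (y := ⟨b, hb⟩) (z := ⟨x, hx⟩) (fun e => a1 (congrArg Subtype.val e))
    (fun e => b1 (congrArg Subtype.val e)) (fun e => ab (congrArg Subtype.val e))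
    (fun e => c.1 (congrArg Subtype.val e)) (fun e => c.2.1 (congrArg Subtype.val e))
    (fun e => c.2.2.1 (congrArg Subtype.val e))))

/-- The working data. -/
structure Dt (M Q J L : Subgroup G) (y z u n : G) (f : L →* P7) (z' : L) : Prop where
  ba : Ba M Q J L y z u
  vn : Vn M Q J L z n
  tv : Tv J L
  sj : Function.Surjective f
  ker : f.ker = J.subgroupOf L
  zz : (z' : G) = z
  F : F7 (((Q ⊓ L).subgroupOf L).map f) (f z')
  c4 : Nat.card ↥(((Q ⊓ L).subgroupOf L).map f) = 4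
  o3 : orderOf (f z') = 3

variable {M Q J L : Subgroup G} {y z u n : G} {f : L →* P7} {z' : L}

namespace Dt

theorem one_iff (d : Dt M Q J L y z u n f z') {x : L} : f x = 1 ↔ (x : G) ∈ J := by
  rw [← MonoidHom.mem_ker, d.ker, mem_subgroupOf]

theorem JQ1 (d : Dt M Q J L y z u n f z') : J ≤ Q ⊓ L := le_inf d.ba.lt.JQ d.ba.lt.JL

theorem memB (d : Dt M Q J L y z u n f z') {x : L} :
    f x ∈ ((Q ⊓ L).subgroupOf L).map f ↔ (x : G) ∈ Q ⊓ L := by
  rw [← mem_comap, comap_map_eq_self, mem_subgroupOf]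
  rw [d.ker]
  exact fun g hg => d.JQ1 hg

theorem noB (d : Dt M Q J L y z u n f z') {l : L} :
    f l ∈ No (((Q ⊓ L).subgroupOf L).map f) ↔ (l : G) ∈ No (Q ⊓ L) := by
  rw [mem_normalizer_iff, mem_normalizer_iff]
  constructor
  · intro h g
    by_cases e : g ∈ L
    · have := h (f ⟨g, e⟩)
      rw [← map_inv, ← map_mul, ← map_mul, d.memB, d.memB] at this
      exact this
    · refine iff_of_false (fun c => e c.2) fun c => e ?_
      have := mul_mem (mul_mem (inv_mem l.2) c.2) l.2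
      simpa [mul_assoc] using this
  · intro h b
    obtain ⟨x, rfl⟩ := d.sj b
    rw [← map_inv, ← map_mul, ← map_mul, d.memB, d.memB]
    exact h x

theorem le_of_top (d : Dt M Q J L y z u n f z') {S : Subgroup G} (hJ : J ≤ S)
    (h : (S.subgroupOf L).map f = ⊤) : L ≤ S := by
  intro l hl
  have h1 : (⟨l, hl⟩ : L) ∈ ((S.subgroupOf L).map f).comap f := by rw [h]; trivial
  rw [comap_map_eq_self (by rw [d.ker]; exact fun g hg => hJ hg)] at h1
  exact h1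

theorem LZ (d : Dt M Q J L y z u n f z') : L ≤ No (Om J) := d.ba.lt.LN.trans no_om

theorem yz (d : Dt M Q J L y z u n f z') : y ∈ M ∧ z ∈ M := by
  obtain ⟨P, h1, h2, h3, -⟩ := d.ba.bd.syl
  exact ⟨h1 h2, h1 h3⟩

theorem nL (d : Dt M Q J L y z u n f z') : n ∉ Ce L := fun c => d.ba.lt.out fun l hl => by
  rw [← d.vn.cn]
  exact mem_C1'.2 (mem_Ce.1 c l hl)

theorem faith (d : Dt M Q J L y z u n f z') {l : G} (hl : l ∈ L)
    (h : ∀ v ∈ Om J, l * v * l⁻¹ = v) : l ∈ J := by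
  rcases d.ba.sim (L ⊓ Ce (Om J)) inf_le_left
    (le_normalizer_inf le_normalizer (le_normalizer_centralizer d.LZ)) with e | e
  · refine e ⟨hl, mem_Ce.2 fun b hb => ?_⟩
    exact mem_C1.1 (mem_C1'.2 (h b hb))
  · refine (d.ba.lt.out (e.trans ?_)).elim
    rw [← d.vn.cn]
    refine sup_le (fun j hj => mem_C1'.2 (om_fix hj d.vn.nJ)) fun g hg => ?_
    exact mem_C1.2 (mem_Ce.1 hg.2 n d.vn.nJ)

theorem sq (d : Dt M Q J L y z u n f z') {t : G} (ht : t ∈ Q ⊓ L) : t * t ∈ J := by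
  have := d.F.el (f ⟨t, ht.2⟩) (d.memB.2 ht)
  rw [← map_mul] at this
  exact d.one_iff.1 this

theorem ord (d : Dt M Q J L y z u n f z') {t : L} (ht : (t : G) ∈ Q ⊓ L) (hJ : (t : G) ∉ J) :
    orderOf (f t) = 2 :=
  orderOf_eq_prime (by rw [pow_two]; exact d.F.el _ (d.memB.2 ht)) fun e => hJ (d.one_iff.1 e)

theorem exists_t (d : Dt M Q J L y z u n f z') : ∃ t ∈ Q ⊓ L, t ∉ J := by
  have h1 : ¬ Q ⊓ L ≤ J := fun e => by
    have := d.ba.lt.idx
    rw [relIndex_eq_one.2 e] at this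
    omega
  exact SetLike.not_le_iff_exists.1 h1

theorem tv_conj (d : Dt M Q J L y z u n f z') {t : G} (ht : t ∈ Q ⊓ L) (hJ : t ∉ J) (l : L) :
    (C1 ((l : G) * t * (l : G)⁻¹)).relIndex (Om J) = 2 := by
  refine d.tv _ (mul_mem (mul_mem l.2 ht.2) (inv_mem l.2))
    (fun c => hJ ((mem_normalizer_iff.1 (d.ba.lt.LN l.2) t).2 c)) ?_
  have := conj_mem_of_mem_normalizer (d.ba.lt.LN l.2) (d.sq ht)
  convert this using 1
  group

theorem idx8 [Finite G] (d : Dt M Q J L y z u n f z') : (Ce L).relIndex (Om J) ≤ 8 := by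
  obtain ⟨t, ht, hJ⟩ := d.exists_t
  obtain ⟨a, b, hab⟩ := d.F.g3 _ (d.ord (t := ⟨t, ht.2⟩) ht hJ)
  obtain ⟨a, rfl⟩ := d.sj a
  obtain ⟨b, rfl⟩ := d.sj b
  have h1 : (C1 t ⊓ C1 ((a : G) * t * (a : G)⁻¹) ⊓ C1 ((b : G) * t * (b : G)⁻¹)) ⊓ Om J ≤ Ce L := by
    rintro v ⟨⟨⟨v1, v2⟩, v3⟩, hv⟩
    have : L ≤ C1 v := by
      refine d.le_of_top (fun j hj => mem_C1'.2 (om_fix hj hv)) ?_
      rw [eq_top_iff, ← hab, closure_le]
      rintro x (rfl | rfl | rfl)
      · exact ⟨⟨t, ht.2⟩, mem_C1'.2 (mem_C1.1 v1), rfl⟩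
      · exact ⟨a * ⟨t, ht.2⟩ * a⁻¹, mem_C1'.2 (mem_C1.1 v2), by simp⟩
      · exact ⟨b * ⟨t, ht.2⟩ * b⁻¹, mem_C1'.2 (mem_C1.1 v3), by simp⟩
    exact mem_Ce.2 fun l hl => mem_C1'.1 (this hl)
  have h2 := relIndex_le_of_le_left (L := Om J) h1 index_ne_zero_of_finite
  rw [inf_relIndex_right] at h2
  have h3 := d.tv t ht.2 hJ (d.sq ht)
  calc _ ≤ _ := h2
    _ ≤ _ := relIndex_inf_le
    _ ≤ (C1 t).relIndex (Om J) * _ * _ := Nat.mul_le_mul_right _ relIndex_inf_le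
    _ = 8 := by rw [h3, d.tv_conj ht hJ, d.tv_conj ht hJ]

end Dt

end H58.DPM2
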