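import Cfsg.Agent.H68.EGCD
import Cfsg.Agent.H81.CDFam
import Cfsg.Agent.H64.CRecD
import Cfsg.Agent.H54.BNModAll

/-! Explicit homomorphisms from special linear groups into orthogonal groups. -/

set_option autoImplicit false
set_option linter.unusedSectionVars false

namespace H58.EGO

open Matrix H54 H33 H61 H83 H68.EG H54.BNM
open H57 (xA)
open H64 (yM wt_plus wt_swap wt_dot swap_ne_iff)

variable {F : Type*} [Field F] {κ J : Type*} [Fintype κ] [DecidableEq κ] [Fintype J] [DecidableEq J]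

/-- the matrix of an injection of index sets -/
def pm (F : Type*) [Field F] (σ : κ → J) : Matrix J κ F := (1 : Matrix J J F).submatrix id σ

/-- extension by zero -/
def ex (σ : κ → J) : Matrix κ κ F →+ Matrix J J F :=
  AddMonoidHom.mk' (fun M => pm F σ * M * (pm F σ)ᵀ) fun M N => by rw [Matrix.mul_add, Matrix.add_mul]

theorem ex_single (σ : κ → J) (a b : κ) (t : F) : ex σ (single a b t) = single (σ a) (σ b) t := by
  ext i k
  simp only [ex, pm, AddMonoidHom.mk'_apply, mul_apply, single_apply, submatrix_apply, id,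
    transpose_apply, one_apply]
  rw [Finset.sum_eq_single b (fun x _ hx => by simp [hx.symm]) (by simp)]
  simp [ite_and, eq_comm]
  split_ifs <;> rfl

theorem ex_mul {σ : κ → J} (h : Function.Injective σ) (M N : Matrix κ κ F) :
    ex σ M * ex σ N = ex σ (M * N) := by
  have : (pm F σ)ᵀ * pm F σ = 1 := by
    ext a b
    simp [pm, mul_apply, one_apply, h.eq_iff, eq_comm]
  simp only [ex, AddMonoidHom.mk'_apply, Matrix.mul_assoc]
  rw [← Matrix.mul_assoc (pm F σ)ᵀ, this, Matrix.one_mul]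

/-- extension by the identity -/
def ext {σ : κ → J} (h : Function.Injective σ) : Matrix κ κ F →* Matrix J J F where
  toFun M := 1 + ex σ (M - 1)
  map_one' := by simp
  map_mul' M N := by
    rw [add_mul, mul_add, mul_add, ex_mul h, one_mul, one_mul, mul_one, add_assoc, ← map_add,
      ← map_add]
    congr 2
    noncomm_ring

theorem ext_apply {σ : κ → J} (h : Function.Injective σ) (M : Matrix κ κ F) :
    ext h M = 1 + ex σ (M - 1) := rfl

theorem ext_diagonal {σ : κ → J} (h : Function.Injective σ) {d : κ → F} {d' : J → F}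
    (h1 : ∀ a, d' (σ a) = d a) (h2 : ∀ i, (∀ a, σ a ≠ i) → d' i = 1) :
    ext h (diagonal d) = diagonal d' := by
  have e : diagonal d - 1 = ∑ a, single a a (d a - 1) := by
    rw [sum_single_eq_diagonal, ← diagonal_one, diagonal_sub]
  rw [ext_apply, e, map_sum]
  ext i k
  simp only [ex_single, Matrix.add_apply, Matrix.sum_apply, single_apply, diagonal_apply, one_apply]
  split_ifs with h3
  · subst h3
    by_cases h4 : ∃ a, σ a = i
    · obtain ⟨a, rfl⟩ := h4
      simp [h.eq_iff, h1]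
    · push Not at h4
      simp [h4, h2 i h4]
  · rw [zero_add]
    exact Finset.sum_eq_zero fun a _ => if_neg fun h4 => h3 (h4.1.symm.trans h4.2)

/-- the Levi subgroup of a hyperbolic space -/
def lev (κ F : Type*) [Fintype κ] [DecidableEq κ] [Field F] :
    SpecialLinearGroup κ F →* Matrix (κ ⊕ κ) (κ ⊕ κ) F where
  toFun A := fromBlocks A.1 0 0 (A⁻¹).1ᵀ
  map_one' := by simp
  map_mul' A B := by simp [fromBlocks_multiply]

theorem lev_xA {a b : κ} (h : a ≠ b) (t : F) : lev κ F (xA a b t) =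
    1 + single (.inl a) (.inl b) t - single (.inr b) (.inr a) t := by
  change fromBlocks _ 0 0 _ = _
  rw [← H57.stA_xA.neg h, H57.xA_coe h, H57.xA_coe h]
  ext (i | i) (k | k) <;> simp [single_apply, one_apply, and_comm, sub_eq_add_neg, neg_ite]

theorem lev_hxD (c : F) (hc : c ≠ 0) :
    lev (Fin 2) F (hxD c hc) = diagonal (Sum.elim ![c, c⁻¹] ![c⁻¹, c]) := by
  ext (i | i) (k | k) <;> fin_cases i <;> fin_cases k <;> simp [lev, hxD, adjugate_fin_two]

/-- the adjoint representation -/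
def ad (F : Type*) [Field F] : SL2 F →* Matrix (Fin 3) (Fin 3) F where
  toFun g := !![g 0 0 * g 1 1 + g 0 1 * g 1 0, -(g 0 0 * g 1 0), g 0 1 * g 1 1;
    -(2 * g 0 0 * g 0 1), g 0 0 ^ 2, -g 0 1 ^ 2; 2 * g 1 0 * g 1 1, -g 1 0 ^ 2, g 1 1 ^ 2]
  map_one' := by ext i k; fin_cases i <;> fin_cases k <;> simp
  map_mul' A B := by
    ext i k
    fin_cases i <;> fin_cases k <;> simp [sl_mul_apply, mul_apply, Fin.sum_univ_three] <;> ring

theorem ad_upper (t : F) : ad F (upper t) - 1 =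
    t • (single 0 2 1 - single 1 0 2) + t ^ 2 • -single 1 2 1 := by
  ext i k; fin_cases i <;> fin_cases k <;> simp [ad, mul_comm]

theorem ad_lower (t : F) : ad F (lower t) - 1 =
    t • (single 2 0 2 - single 0 1 1) + t ^ 2 • -single 2 1 1 := by
  ext i k; fin_cases i <;> fin_cases k <;> simp [ad, mul_comm]

theorem ad_hxD (c : F) (hc : c ≠ 0) : ad F (hxD c hc) = diagonal ![1, c ^ 2, c⁻¹ ^ 2] := by
  ext i k; fin_cases i <;> fin_cases k <;> simp [ad, hxD, hc]

/-- lifting a representation of a special linear group through a faithful representation -/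
theorem exists_lift {G M : Type*} [Group G] [Monoid M] {ρ : G →* M} (hρ : Function.Injective ρ)
    (ψ : SpecialLinearGroup κ F →* M) (h : ∀ a b, a ≠ b → ∀ t, ∃ g, ρ g = ψ (xA a b t)) :
    ∃ φ : SpecialLinearGroup κ F →* G, ∀ A, ρ (φ A) = ψ A := by
  have : ∀ A, ∃ g, ρ g = ψ A := fun A => by
    induction (H57.closure_xA.ge (Subgroup.mem_top A)) using Subgroup.closure_induction with
    | mem x hx => obtain ⟨a, b, t, h1, rfl⟩ := hx; exact h a b h1 t
    | one => exact ⟨1, by simp⟩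
    | mul x y _ _ hx hy =>
      obtain ⟨g, hg⟩ := hx
      obtain ⟨k, hk⟩ := hy
      exact ⟨g * k, by simp [hg, hk]⟩
    | inv x _ hx =>
      obtain ⟨g, hg⟩ := hx
      refine ⟨g⁻¹, left_inv_eq_right_inv (a := ρ g) (by simp [← map_mul]) ?_⟩
      rw [hg, ← map_mul, mul_inv_cancel, map_one]
  choose φ hφ using this
  exact ⟨MonoidHom.mk' φ fun a b => hρ (by simp [hφ]), hφ⟩

section CD

variable [Finite F] {G : Type*} [Group G] [Finite G] {m : ℕ} {D : CD F J (Fin m) G} {j : Fin m ⊕ Fin m → J}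
  {a b : Fin m ⊕ Fin m}

/-- the long root elements -/
def yJ (j : Fin m ⊕ Fin m → J) (a b : Fin m ⊕ Fin m) (t : F) : Matrix J J F :=
  1 + single (j a) (j b) t - single (j b.swap) (j a.swap) t

/-- an orthogonal group containing the long root elements -/
structure OC (D : CD F J (Fin m) G) (j : Fin m ⊕ Fin m → J) : Prop where
  inj : Function.Injective j
  wt : ∀ a, D.wt (j a) = (fdPlus F m).wt a
  w0 : ∀ i, (∀ a, j a ≠ i) → D.wt i = 0
  ex : ∀ a b, a ≠ b → a ≠ b.swap → ∀ t, ∃ g, D.ρ g = yJ j a b t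

/-- a rank one subgroup with root `β` and coroot `γ` -/
structure RH (D : CD F J (Fin m) G) (β γ : Fin m → ℤ) (φ : SL2 F →* G) : Prop where
  up : Par D (fun t => φ (upper t)) β
  lo : Par D (fun t => φ (lower t)) (-β)
  inj : ∀ t, φ (upper t) = 1 → t = 0
  dg : ∀ c : Fˣ, D.ρ (φ (hxD (c : F) c.ne_zero)) = dg D.wt γ c

theorem supp_yJ (hw : ∀ a, D.wt (j a) = (fdPlus F m).wt a) (a b : Fin m ⊕ Fin m) :
    Supp D.wt (single (j a) (j b) (1 : F) - single (j b.swap) (j a.swap) 1)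
      {(fdPlus F m).wt a - (fdPlus F m).wt b} := by
  intro i k h
  rw [Matrix.sub_apply, single_apply, single_apply] at h
  by_cases h1 : j a = i ∧ j b = k
  · obtain ⟨rfl, rfl⟩ := h1; rw [hw, hw]; rfl
  by_cases h2 : j b.swap = i ∧ j a.swap = k
  · obtain ⟨rfl, rfl⟩ := h2
    rw [hw, hw, wt_swap, wt_swap, neg_sub_neg]; rfl
  simp [h1, h2] at h

theorem yJ_eq (t : F) :
    yJ j a b t = 1 + t • (single (j a) (j b) 1 - single (j b.swap) (j a.swap) 1) := by
  simp [yJ, smul_sub, add_sub_assoc]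

namespace OC

variable (h : OC D j)
include h

theorem inj_elim {ε : κ → Fin m ⊕ Fin m} (h1 : Function.Injective ε) (h2 : ∀ a b, ε a ≠ (ε b).swap) :
    Function.Injective (j ∘ Sum.elim ε (Sum.swap ∘ ε)) := h.inj.comp (by
  rintro (a | a) (b | b) e
  exacts [congrArg _ (h1 e), (h2 _ _ e).elim, (h2 _ _ e.symm).elim,
    congrArg _ (h1 (Sum.swap_leftInverse.injective e))])

theorem exists_lev {ε : κ → Fin m ⊕ Fin m} (h1 : Function.Injective ε) (h2 : ∀ a b, ε a ≠ (ε b).swap) :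
    ∃ Λ : SpecialLinearGroup κ F →* G, (∀ A, D.ρ (Λ A) = ext (h.inj_elim h1 h2) (lev κ F A)) ∧
      ∀ a b, a ≠ b → ∀ t, D.ρ (Λ (xA a b t)) = yJ j (ε a) (ε b) t := by
  have e : ∀ a b, a ≠ b → ∀ t : F, ext (h.inj_elim h1 h2) (lev κ F (xA a b t)) = yJ j (ε a) (ε b) t :=
    fun a b h3 t => by
      rw [lev_xA h3, ext_apply, add_sub_assoc, add_sub_cancel_left, map_sub, ex_single, ex_single, yJ,
        add_sub_assoc]
      rfl
  obtain ⟨Λ, hΛ⟩ := exists_lift D.inj ((ext (h.inj_elim h1 h2)).comp (lev κ F)) fun a b h3 t =>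
    (e a b h3 t).symm ▸ h.ex _ _ (h1.ne h3) (h2 a b) t
  exact ⟨Λ, hΛ, fun a b h3 t => (hΛ _).trans (e a b h3 t)⟩

theorem exists_long (h1 : a ≠ b) (h2 : a ≠ b.swap) : ∃ φ : SL2 F →* G,
    RH D ((fdPlus F m).wt a - (fdPlus F m).wt b) ((fdPlus F m).wt a - (fdPlus F m).wt b) φ ∧
      (∀ t, D.ρ (φ (upper t)) = yJ j a b t) ∧ ∀ t, D.ρ (φ (lower t)) = yJ j b a t := by
  have h3 : b ≠ a.swap := fun e => h2 (by simp [e])
  obtain ⟨φ, p1, p2⟩ := h.exists_lev (ε := ![a, b]) (pr a b h1).injective (by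
    intro x y
    fin_cases x <;> fin_cases y
    exacts [(H64.swap_ne a).symm, h2, h3, (H64.swap_ne b).symm])
  have q1 : ∀ t, D.ρ (φ (upper t)) = yJ j a b t := fun t => upper_eq t ▸ p2 0 1 (by decide) t
  have q2 : ∀ t, D.ρ (φ (lower t)) = yJ j b a t := fun t => lower_eq' t ▸ p2 1 0 (by decide) t
  refine ⟨φ, ⟨.of_lin (supp_yJ h.wt a b) fun t => by rw [q1, yJ_eq],
    .of_lin (neg_sub _ ((fdPlus F m).wt b) ▸ supp_yJ h.wt b a) fun t => by rw [q2, yJ_eq],
    fun t e => ?_, fun c => ?_⟩, q1, q2⟩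
  · have := congrFun₂ (q1 t) (j a) (j b)
    simpa [e, yJ, h.inj.eq_iff, h2.symm, single_apply] using this
  · have u := fun a => ((fdPlus F m).wt_std a).unit (cdPlus_wt_ne F m a)
    have d1 := wt_dot (F := F) h1 h2
    have d2 := wt_dot (F := F) h1.symm h3
    rw [p1, lev_hxD]
    refine ext_diagonal _ (fun x => ?_) fun i hi => ?_
    · rcases x with x | x <;> fin_cases x <;> simp [h.wt, wt_swap, sub_dotProduct, u, d1, d2]
    · by_cases h4 : ∃ x, j x = i
      · obtain ⟨x, rfl⟩ := h4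
        rw [h.wt, sub_dotProduct, wt_dot (a := a) (b := x) (fun e => hi (.inl 0) (congrArg j e)) fun e =>
          hi (.inr 0) (congrArg j (show a.swap = x by simp [e])), wt_dot (a := b) (b := x)
          (fun e => hi (.inl 1) (congrArg j e)) fun e =>
          hi (.inr 1) (congrArg j (show b.swap = x by simp [e]))]
        simp
      · rw [h.w0 i fun x e => h4 ⟨x, e⟩]; simp

theorem tor (hm : 2 ≤ m) {μ : Fin m → ℤ} (hμ : Even (∑ i, μ i)) : μ ∈ Tor D := by
  have e : ∀ a b : Fin m ⊕ Fin m, a ≠ b → a ≠ b.swap →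
      (fdPlus F m).wt a - (fdPlus F m).wt b ∈ Tor D := fun a b h1 h2 c =>
    let ⟨_, p, _⟩ := h.exists_long h1 h2
    ⟨_, p.dg c⟩
  refine tor_even (fun i k => ?_) (e (.inl ⟨0, by omega⟩) (.inr ⟨1, hm⟩) (by simp) (by simp))
    (by simp [wt_plus, Finset.sum_add_distrib]) hμ
  by_cases h1 : i = k
  · rw [h1, sub_self]; exact zero_mem _
  · exact e (.inl i) (.inl k) (by simpa) (by simp)

theorem abs_le {l : Fin m → ℤ} (hl : ∀ k, (l k).natAbs ≤ 3) (a b : J) :
    (l ⬝ᵥ (D.wt a - D.wt b)).natAbs ≤ 6 := by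
  have : ∀ a, (l ⬝ᵥ D.wt a).natAbs ≤ 3 := fun a => by
    by_cases h4 : ∃ x, j x = a
    · obtain ⟨x | x, rfl⟩ := h4 <;> simp [h.wt, wt_plus, hl]
    · simp [h.w0 a fun x e => h4 ⟨x, e⟩]
  have h1 := this a
  have h2 := this b
  rw [dotProduct_sub]
  omega

end OC

theorem conn_of {N : ℕ} {R : Fin N → Fin N → Prop}
    (h : ∀ i : Fin N, 0 < i.1 → ∃ k : Fin N, k.1 < i.1 ∧ R i k ∧ R k i) (i k : Fin N) :
    Relation.ReflTransGen R i k := by
  have key : ∀ (d : ℕ) (i : Fin N), i.1 = d → Relation.ReflTransGen R i ⟨0, i.pos⟩ ∧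
      Relation.ReflTransGen R ⟨0, i.pos⟩ i := fun d => by
    induction d using Nat.strong_induction_on with
    | _ d ih =>
      intro i hi
      rcases i.1.eq_zero_or_pos with h0 | h0
      · have e : (⟨0, i.pos⟩ : Fin N) = i := Fin.ext h0.symm
        rw [e]
        exact ⟨.refl, .refl⟩
      · obtain ⟨k, h1, h2, h3⟩ := h i h0
        exact ⟨.head h2 (ih _ (hi ▸ h1) k rfl).1, .tail (ih _ (hi ▸ h1) k rfl).2 h3⟩
  exact (key _ i rfl).1.trans (key _ k rfl).2

theorem dot_ev (f : ℕ → ℤ) (k : ℕ) :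
    (fun i : Fin m => f i) ⬝ᵥ ev m k = if k < m then f k else 0 := by
  split_ifs with h
  · rw [ev_lt h, dotProduct_single, mul_one]
  · rw [ev_ge (by omega), dotProduct_zero]

theorem aB_eq {i : ℕ} (h : i + 1 < m) :
    aB m i = (fdPlus F m).wt (.inl ⟨i, by omega⟩) - (fdPlus F m).wt (.inl ⟨i + 1, h⟩) := by
  rw [aB, ev_lt h, ev_lt (by omega : i < m)]; rfl

end CD

theorem exists_of_isom {J : Type} [Fintype J] [DecidableEq J] [Finite F] {m : ℕ} {E : FD F J m}
    {Q : QuadraticForm F (J → F)} (h : E.IsOrth Q) {q : (J → F) → F} (hq : ⇑Q = q)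
    (hQ : Q.polarBilin.Nondegenerate) (hE : ¬ H56.IsExc Q) {A : Matrix J J F}
    (hA : ∀ v, q (A *ᵥ v) = q v) {l : (Fin m → ℤ) →+ ℤ} (hs : Supp E.wt (A - 1) (posS l)) :
    ∃ g, (h.cdΩ hq hQ hE).ρ g = A := by
  have hu : IsUnit A := by simpa using (isNilpotent_of_supp hs).isUnit_add_one
  obtain ⟨y, hy⟩ := h.US_le hq hQ hE l (x := ⟨hu.unit, H56.mem_isometryGroup.2 hA⟩) hs
  exact ⟨y, congrArg (fun g : Cfsg.isometryGroup F q => g.1.1) hy⟩

end H58.EGO
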