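import Cfsg.Agent.H58.EGO1

/-! The split orthogonal groups have the data for squares of conjugacy classes. -/

set_option autoImplicit false
set_option linter.unusedSectionVars false

namespace H58.EGO

open Matrix H54 H33 H61 H83 H68.EG H54.BNM
open H57 (xA)
open H64 (yM wt_plus wt_swap wt_dot swap_ne_iff)

universe u

/-- the central cocharacter of the Levi subgroup -/
def lv (n : ℕ) (a b : ℤ) : Fin (n + 2) → ℤ := fun i => if (i : ℕ) ≤ n then a else b

theorem lv_dot (n : ℕ) (a b : ℤ) (k : ℕ) :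
    lv n a b ⬝ᵥ ev (n + 2) k = if k < n + 2 then (if k ≤ n then a else b) else 0 :=
  dot_ev (fun i => if i ≤ n then a else b) k

theorem lv_sum (n : ℕ) (a b : ℤ) : ∑ i, lv n a b i = (n + 1) * a + b := by
  have : ∀ i : Fin (n + 1), lv n a b i.castSucc = a := fun i => if_pos i.is_le
  rw [Fin.sum_univ_castSucc]
  simp only [this]
  simp [lv]

variable {F J : Type*} [Field F] [Fintype J] [DecidableEq J] [Finite F]

theorem OC.mod {G : Type*} [Group G] [Finite G] {n : ℕ} {D : CD F J (Fin (n + 2)) G}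
    {j : Fin (n + 2) ⊕ Fin (n + 2) → J} (h : OC D j) (h9 : 9 ≤ Nat.card F) (P : D.Ht)
    (e : Fin (n + 2) ≃ P.Sim) {β γ : Fin (n + 2) → ℤ} {φ₀ : SL2 F →* G}
    (he : ∀ i : Fin (n + 2), (e i).1.1 = if (i : ℕ) ≤ n then aB (n + 2) i else β) (h0 : RH D β γ φ₀)
    (hc : ∀ i, Nat.card (D.US (ray (e i).1.1)) = Nat.card F) {k : ℕ} (hk : k ≤ n)
    (c1 : γ ⬝ᵥ aB (n + 2) k = -1 ∨ γ ⬝ᵥ aB (n + 2) k = -2) (c2 : aB (n + 2) k ⬝ᵥ β = -1)
    (hg : H64.gen P.grd.X Set.univ = ⊤) {a b : ℤ} (hb : 0 ≤ b) (hab : b < a) (ha : a ≤ 3)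
    (hev : Even ((n + 1) * a + b)) (hl : 0 < lv n a b ⬝ᵥ β) {A : Finset (Fin (n + 2))}
    (hR : Real D (sgnH A)) (hA : ∀ i : Fin (n + 2), (i : ℕ) ≤ n → i ∈ A)
    (hA' : b = 0 ∨ ∀ i, i ∈ A) : Mod F G := by
  have : ∀ i : Fin (n + 2), ∃ φ : SL2 F →* G, RH D (if (i : ℕ) ≤ n then aB (n + 2) i else β)
      (if (i : ℕ) ≤ n then aB (n + 2) i else γ) φ ∧ ∀ hi : (i : ℕ) ≤ n,
        (∀ t, D.ρ (φ (upper t)) = yJ j (.inl i) (.inl ⟨i + 1, by omega⟩) t) ∧
          ∀ t, D.ρ (φ (lower t)) = yJ j (.inl ⟨i + 1, by omega⟩) (.inl i) t := fun i => by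
    by_cases hi : (i : ℕ) ≤ n
    · obtain ⟨φ, p⟩ := h.exists_long (a := .inl i) (b := .inl ⟨i + 1, by omega⟩)
        (by simp [Fin.ext_iff]) (by simp)
      rw [if_pos hi, if_pos hi, aB_eq (F := F) (by omega)]
      exact ⟨φ, p.1, fun _ => p.2⟩
    · rw [if_neg hi, if_neg hi]
      exact ⟨φ₀, h0, fun h => absurd h hi⟩
  choose φ hφ hφ' using this
  obtain ⟨Λ, -, hΛ⟩ := h.exists_lev (ε := fun i : Fin (n + 1) => .inl i.castSucc)
    (fun x y e => by simpa using e) (by simp)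
  have d1 : ∀ i : Fin (n + 2), lv n a b ⬝ᵥ (e i).1.1 =
      if (i : ℕ) < n then 0 else if (i : ℕ) = n then a - b else lv n a b ⬝ᵥ β := fun i => by
    rw [he]
    by_cases hi : (i : ℕ) ≤ n
    · simp only [if_pos hi, aB, dotProduct_sub, lv_dot]
      split_ifs <;> omega
    · rw [if_neg hi, if_neg (by omega), if_neg (by omega)]
  have d2 : ∀ v, lv n a b ⬝ᵥ sgnH A v = -(lv n a b ⬝ᵥ v) := fun v => by
    rw [dotProduct, dotProduct, ← Finset.sum_neg_distrib]
    refine Finset.sum_congr rfl fun i _ => ?_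
    by_cases hi : i ∈ A
    · simp [sgnH_apply, hi]
    · simp [lv, mt (hA i) hi, hA'.resolve_right fun h => hi (h i)]
  refine mod_of_cd (by omega) P e φ _ _ (fun i => he i ▸ self_mem_ray _) (fun i => (hφ i).up)
    (fun i => (hφ i).lo) (fun i => (hφ i).inj) hc (fun i => (hφ i).dg) (conn_of fun i hi => ?_) hg Λ
    (fun i => i.castSucc.castSucc)
    (fun i t => D.inj ((hΛ _ _ i.castSucc_lt_succ.ne t).trans ((hφ' _ i.2.le).1 t).symm))
    (fun i t => D.inj ((hΛ _ _ i.castSucc_lt_succ.ne' t).trans ((hφ' i.castSucc.castSucc i.2.le).2 t).symm))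
    (h.tor (by omega) (lv_sum n a b ▸ hev)) (fun i => ?_) (fun i => ?_)
    (fun x y => ?_) (μ := ev (n + 2) 0 - ev (n + 2) (n + 1)) (h.tor (by omega) ?_) (fun i => ?_) hR
    (sgnH_sgnH A) (fun x => d2 _) (.inr fun i => ?_)
  · by_cases h1 : (i : ℕ) ≤ n
    · refine ⟨⟨i - 1, by omega⟩, Nat.sub_lt hi one_pos, .inl ?_, .inl ?_⟩ <;> dsimp only <;>
        rw [if_pos h1, if_pos (by omega), aB_dot (by omega) (by omega) (by omega), if_pos (by omega)]
    · refine ⟨⟨k, by omega⟩, by simp; omega, ?_, .inl ?_⟩ <;> rw [if_neg h1, if_pos hk]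
      exacts [c1.imp_right fun h => ⟨h, by omega⟩, c2]
  · rw [d1]; split_ifs <;> omega
  · rw [d1]
    refine ⟨fun h => ⟨⟨i, ?_⟩, rfl⟩, ?_⟩
    · split_ifs at h <;> omega
    · rintro ⟨i, rfl⟩; exact if_pos i.2
  · have := h.abs_le (l := lv n a b) (fun k => by rw [lv]; split_ifs <;> omega) x y
    omega
  · rw [ev_lt (by omega), ev_lt (by omega)]; simp
  · have := i.2
    simp only [Fin.val_castSucc, if_pos this.le, aB, sub_dotProduct, dotProduct_sub, ev_dot,
      eq_comm (a := 0), (Nat.succ_ne_zero _), false_and, if_false]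
    split_ifs <;> omega
  · have := i.2
    rw [he, Fin.val_castSucc, Fin.val_castSucc, if_pos this.le]
    funext x
    by_cases hx : (x : ℕ) ≤ n
    · simp [sgnH_apply, hA x hx]
    · simp [sgnH_apply, aB, ev, show (x : ℕ) ≠ i by omega, show (x : ℕ) ≠ i + 1 by omega]

theorem jobD : JobD.{u} := by
  intro F _ _ h9 m hm
  obtain ⟨n, rfl⟩ : ∃ n, m = n + 2 := ⟨m - 2, by omega⟩
  have := Fintype.ofFinite F
  have hE : ¬ H56.IsExc (H58.qPlus (n + 2) F) := H56.not_isExc_of_finrank (by simp; omega)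
  have hs : ¬ (cdPlus F _ hE).short := fun h =>
    h.elim (fun h => h rfl) fun ⟨k, hk⟩ => cdPlus_wt_ne F _ k hk
  have h : OC (cdPlus F _ hE) id := ⟨fun _ _ e => e, fun _ => rfl, fun i h => absurd rfl (h i),
    fun a b h1 h2 t => let ⟨_, hy⟩ := H64.exists_yO hE; ⟨_, hy a b h1 h2 t⟩⟩
  obtain ⟨e, he, -⟩ := typD (D := cdPlus F _ hE) ((isOrth_plus F _).htΩ _ _ _) (fdPlus F _).wt_std
    (fdPlus F _).wt_up (by omega) hs ⟨.inr ⟨0, by omega⟩, _, rfl⟩ (ht_long hs)
  obtain ⟨φ, p, -⟩ := h.exists_long (a := .inl ⟨n, by omega⟩) (b := .inr ⟨n + 1, by omega⟩)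
    (by simp) (by simp)
  have e1 : (fdPlus F _).wt (.inl ⟨n, by omega⟩) - (fdPlus F _).wt (.inr ⟨n + 1, by omega⟩) =
      ev (n + 2) n + ev (n + 2) (n + 1) := by
    rw [ev_lt (by omega), ev_lt (by omega)]; simp [wt_plus]
  rw [e1] at p
  have c : (ev (n + 2) n + ev (n + 2) (n + 1)) ⬝ᵥ aB (n + 2) (n - 1) = -1 := by
    simp only [aB, add_dotProduct, dotProduct_sub, ev_dot]
    split_ifs <;> omega
  refine h.mod h9 _ e (fun i => ?_) p (fun i => ?_) (k := n - 1) (by omega) (.inl c)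
    ((dotProduct_comm _ _).trans c) (gen_top_of_perfect _ (FD.IsOrth.htΩ_top _ _ _ _)
      (H81.omega_perfect _ (H58.coe_qPlus _ F) (H58.qPlus_nondeg _ F) (by simp; omega))
      (CD.comm_of_diagonal fun i _ h => absurd h (cdPlus_wt_ne F _ i))) le_rfl two_pos (by omega)
    (by simp) (by simp [lv_dot])
    (A := if Even n then Finset.univ else Finset.univ.erase (Fin.last _))
    (real_neg (fdPlus F _).wt_up ⟨.inr ⟨0, by omega⟩, _, rfl⟩ _ ?_) (fun i hi => ?_) (.inl rfl)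
  · have := i.2
    rw [he, aD]
    split_ifs <;> first | omega | rfl
  · rw [he, card_aD (fdPlus F _) rfl (fun _ => Iff.rfl) (by omega)]
  · split_ifs with h1 <;> simp [Nat.even_add_one, h1]
  · split_ifs
    · simp
    · simp [Fin.ext_iff]; omega

section Odd

variable {m : ℕ}

theorem qOdd_add_inr (v : Unit ⊕ (Fin m ⊕ Fin m) → F) (c : Fin m ⊕ Fin m) (s : F) :
    Cfsg.quadFormOdd m F (v + Pi.single (.inr c) s) = Cfsg.quadFormOdd m F v + s * v (.inr c.swap) := by
  rcases c with c | c <;>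
    simp [Cfsg.quadFormOdd, Pi.single_apply, add_mul, mul_add, Finset.sum_add_distrib, mul_comm, add_assoc]

theorem qOdd_add_inl (v : Unit ⊕ (Fin m ⊕ Fin m) → F) (s : F) : Cfsg.quadFormOdd m F
    (v + Pi.single (.inl ()) s) = Cfsg.quadFormOdd m F v + s * (2 * v (.inl ()) + s) := by
  simp [Cfsg.quadFormOdd]; ring

variable (h2 : (2 : F) ≠ 0)

theorem oc_odd : OC (cdOdd F m h2) .inr := by
  have hw : ∀ a, (cdOdd F m h2).wt (.inr a) = (fdPlus F m).wt a := by rintro (a | a) <;> rfl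
  refine ⟨Sum.inr_injective, hw, ?_, fun a b h1 h3 t => ?_⟩
  · rintro (i | i) h
    exacts [rfl, absurd rfl (h i)]
  refine exists_of_isom (isOrth_odd F m) _ _ _ (fun v => ?_)
    (l := dotH ((fdPlus F m).wt a - (fdPlus F m).wt b)) fun i k h => ?_
  · rw [yJ, sub_mulVec, add_mulVec, one_mulVec, single_mulVec, single_mulVec, sub_eq_add_neg]
    change Cfsg.quadFormOdd m F (v + Pi.single _ _ + -Pi.single _ _) = _
    rw [← Pi.single_neg, qOdd_add_inr, qOdd_add_inr, Sum.swap_swap]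
    simp [h1.symm]; ring
  · rw [yJ_eq, add_sub_cancel_left] at h
    have := supp_yJ hw a b i k (right_ne_zero_of_mul h)
    have u := fun a => ((fdPlus F m).wt_std a).unit (cdPlus_wt_ne F m a)
    change 0 < _ ⬝ᵥ ((cdOdd F m h2).wt i - (cdOdd F m h2).wt k)
    rw [this]
    simp [sub_dotProduct, dotProduct_sub, u, wt_dot h1 h3, dotProduct_comm ((fdPlus F m).wt b)]

theorem supp_single {κ : Type*} {wt : J → κ → ℤ} {i k : J} {β : κ → ℤ} (h : wt i - wt k = β) (c : F) :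
    Supp wt (single i k c) {β} := fun x y e => by
  rw [single_apply] at e
  obtain ⟨rfl, rfl⟩ : i = x ∧ k = y := by_contra fun h => e (if_neg h)
  exact h

theorem supp_sub {κ : Type*} {wt : J → κ → ℤ} {M N : Matrix J J F} {S : Set (κ → ℤ)}
    (h1 : Supp wt M S) (h2 : Supp wt N S) : Supp wt (M - N) S := fun x y e => by
  by_cases h : M x y = 0
  · exact h2 x y fun h' => e (by simp [h, h'])
  · exact h1 x y h

/-- the short root elements -/
def sM (a : Fin m ⊕ Fin m) (t : F) : Matrix (Unit ⊕ (Fin m ⊕ Fin m)) (Unit ⊕ (Fin m ⊕ Fin m)) F :=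
  1 + t • (single (.inl ()) (.inr a.swap) 1 - single (.inr a) (.inl ()) 2) +
    t ^ 2 • -single (.inr a) (.inr a.swap) 1

theorem supp_sM (a : Fin m ⊕ Fin m) :
    Supp (fdOdd F m).wt (single (.inl ()) (.inr a.swap) (1 : F) - single (.inr a) (.inl ()) 2)
      {(fdPlus F m).wt a} ∧ Supp (fdOdd F m).wt (-single (.inr a) (.inr a.swap) (1 : F))
      {(2 : ℤ) • (fdPlus F m).wt a} := by
  have hw : ∀ a, (fdOdd F m).wt (.inr a) = (fdPlus F m).wt a := by rintro (a | a) <;> rfl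
  have h0 : (fdOdd F m).wt (.inl ()) = 0 := rfl
  refine ⟨supp_sub (supp_single ?_ _) (supp_single ?_ _), zero_sub (G := Matrix _ _ F) _ ▸
    supp_sub supp_zero (supp_single ?_ _)⟩ <;>
    simp [hw, h0, wt_swap, two_smul]

theorem exists_sM (a : Fin m ⊕ Fin m) (t : F) : ∃ g, (cdOdd F m h2).ρ g = sM a t := by
  refine exists_of_isom (isOrth_odd F m) _ _ _ (fun v => ?_)
    (l := dotH ((fdPlus F m).wt a)) fun i k h => ?_
  · have : sM a t *ᵥ v = v + Pi.single (.inl ()) (t * v (.inr a.swap)) +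
        Pi.single (.inr a) (-(2 * t * v (.inl ())) - t ^ (2 : ℕ) * v (.inr a.swap)) := by
      simp only [sM, add_mulVec, smul_mulVec, sub_mulVec, neg_mulVec, one_mulVec, single_mulVec]
      funext x
      by_cases h1 : x = .inl ()
      · simp [h1]
      by_cases h2 : x = .inr a
      · simp [h2]; ring
      · simp [h1, h2]
    rw [this, qOdd_add_inr, qOdd_add_inl]
    simp; ring
  · have u := ((fdPlus F m).wt_std a).unit (cdPlus_wt_ne F m a)
    rw [sM, add_assoc, add_sub_cancel_left] at h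
    change 0 < _ ⬝ᵥ ((fdOdd F m).wt i - (fdOdd F m).wt k)
    by_cases h3 : (single (.inl ()) (.inr a.swap) (1 : F) - single (.inr a) (.inl ()) 2 :
      Matrix (Unit ⊕ (Fin m ⊕ Fin m)) (Unit ⊕ (Fin m ⊕ Fin m)) F) i k = 0
    · rw [(supp_sM (F := F) a).2 i k fun e => h (by
        rw [Matrix.add_apply, Matrix.smul_apply, Matrix.smul_apply, h3, e]; simp), dotProduct_smul, u]; simp
    · rw [(supp_sM (F := F) a).1 i k h3, u]; simp

theorem exists_short (k : Fin m) : ∃ φ : SL2 F →* _,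
    RH (cdOdd F m h2) (Pi.single k 1) ((2 : ℤ) • Pi.single k 1) φ := by
  have hσ : Function.Injective (![.inl (), .inr (.inl k), .inr (.inr k)] :
      Fin 3 → Unit ⊕ (Fin m ⊕ Fin m)) := fun x y e => by fin_cases x <;> fin_cases y <;> simp_all
  have e1 : ∀ t, ext hσ (ad F (upper t)) = sM (.inl k) t := fun t => by
    simp [ext_apply, ad_upper, smul_sub, ex_single, sM, add_assoc]
  have e2 : ∀ t, ext hσ (ad F (lower t)) = sM (.inr k) (-t) := fun t => by
    simp [ext_apply, ad_lower, smul_sub, ex_single, sM, add_assoc]; abel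
  obtain ⟨φ, hφ⟩ := exists_lift (cdOdd F m h2).inj ((ext hσ).comp (ad F)) fun a b h t => by
    fin_cases a <;> fin_cases b
    exacts [absurd rfl h, (exists_sM h2 _ t).imp fun g e => e.trans (upper_eq t ▸ (e1 t).symm),
      (exists_sM h2 _ (-t)).imp fun g e => e.trans (lower_eq' t ▸ (e2 t).symm), absurd rfl h]
  refine ⟨φ, ⟨_, _, (supp_sM (.inl k)).1, (supp_sM (.inl k)).2, fun t => (hφ _).trans (e1 t)⟩,
    ⟨0 - _, _, supp_sub supp_zero (supp_sM (.inr k)).1, (supp_sM (.inr k)).2, fun t => (hφ _).trans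
      ((e2 t).trans (by simp only [sM]; module))⟩, fun t e => ?_, fun c => (hφ _).trans ?_⟩
  · have := congrFun₂ ((hφ _).trans (e1 t)) (.inl ()) (.inr (.inr k))
    simpa [e, sM] using this.symm
  · rw [MonoidHom.comp_apply, ad_hxD]
    have hw : ∀ a, (cdOdd F m h2).wt (.inr a) = (fdPlus F m).wt a := by rintro (a | a) <;> rfl
    have h0 : (cdOdd F m h2).wt (.inl ()) = 0 := rfl
    refine ext_diagonal _ (fun x => ?_) fun i hi => ?_
    · fin_cases x <;> simp [hw, h0, wt_plus]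
    · rcases i with i | i | i
      · simp [h0]
      · have : k ≠ i := fun e => hi 1 (by simp [e])
        simp [hw, wt_plus, this]
      · have : k ≠ i := fun e => hi 2 (by simp [e])
        simp [hw, wt_plus, this]

end Odd

theorem jobB : JobB.{u} := by
  intro F _ _ h9 ho m hm
  obtain ⟨n, rfl⟩ : ∃ n, m = n + 2 := ⟨m - 2, by omega⟩
  have := Fintype.ofFinite F
  have h2 : (2 : F) ≠ 0 := H58.two_ne_zero_of_odd_card (Nat.card_eq_fintype_card (α := F) ▸ ho)
  have hs : (cdOdd F (n + 2) h2).short := Or.inr ⟨.inl (), rfl⟩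
  obtain ⟨e, he, -⟩ := typB (D := cdOdd F _ h2) ((isOrth_odd F _).htΩ _ _ _) (fdOdd F _).wt_std
    (fdOdd F _).wt_up hs (ht_short hs)
  obtain ⟨φ, p⟩ := exists_short h2 (⟨n + 1, by omega⟩ : Fin (n + 2))
  rw [← ev_lt] at p
  have c : ev (n + 2) (n + 1) ⬝ᵥ aB (n + 2) n = -1 := by simp [aB, ev_dot]
  refine (oc_odd h2).mod h9 _ e (fun i => ?_) p (fun i => ?_) le_rfl
    (.inr (by rw [smul_dotProduct, c]; rfl))
    ((dotProduct_comm _ _).trans c) (gen_top_of_perfect _ (FD.IsOrth.htΩ_top _ _ _ _)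
      (H81.omega_perfect _ (H58.coe_qOdd _ F) (H58.qOdd_nondeg _ h2) (by simp; omega))
      (CD.comm_of_diagonal (fdOdd_zero F _))) (a := 3) (b := if Even n then 1 else 2)
    (by split_ifs <;> omega) (by split_ifs <;> omega) le_rfl ?_
    (by simp [lv_dot]; split_ifs <;> omega)
    (real_neg_of_short (fdOdd F _).wt_up hs Finset.univ) (by simp) (.inr (by simp))
  · have := i.2
    rw [he]
    split_ifs
    · rfl
    · rw [aB, ev_ge (k := i + 1) (by omega), sub_zero, show (i : ℕ) = n + 1 by omega]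
  · have h4 : Nat.card {k // (fdOdd F (n + 2)).wt k = 0} = Nat.card Unit := card_zero _
    have h5 : Nat.card (fdOdd F (n + 2)).Λ = 1 := AddSubgroup.card_bot
    rw [he, card_qs (fdOdd F _) rfl (fun _ => Iff.rfl) hs, h4, h5, Nat.card_unique (α := Unit), pow_one,
      mul_one, qs_self]
  · rw [Int.even_iff]
    simp only [Nat.even_iff]
    split_ifs <;> omega

end H58.EGO
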