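import Cfsg.Agent.H58.ElGeo

/-!
Invariant totally isotropic and totally singular subspaces of semisimple isometries.
-/

open Polynomial Module

namespace H58

open H53
open H59 (perp mem_perp)
open QuadraticMap (polar)

variable {F : Type*} [Field F] {σ : F →+* F} {ε : F}
variable {V : Type*} [AddCommGroup V] [Module F V] [FiniteDimensional F V]
variable {B : V →ₛₗ[σ] V →ₗ[F] F} {f : End F V} {Q : QuadraticForm F V}
variable {s : Multiset F[X]} {N h o i r : ℕ}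

theorem dich_cycF (hσ : ∀ a, σ (σ a) = a) (h0 : (r : F) ≠ 0) {sd : Prop}
    (h : ∀ φ ∈ cycF F r, pstar σ φ = φ ↔ sd) : Dich (cycF F r) (pstar σ) sd :=
  ⟨fun _ hx => pstar_mem_cycF hσ h0 hx, fun _ hx => pstar_pstar hσ ((mem_cycF h0).1 hx).1, h,
    cycF_nonempty h0⟩

theorem dich_id [Finite F] (hr : r.Prime) (h2 : r ≠ 2) (h0 : (r : F) ≠ 0) :
    Dich (cycF F r) (pstar (RingHom.id F)) (Even (orderOf (Nat.card F : ZMod r))) :=
  dich_cycF (fun _ => rfl) h0 fun _ h => pstar_id_eq_self_iff_even hr h2 h0 h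

theorem isCoprime_sub_one_of_mem_cycF (h1 : r ≠ 1) (h0 : (r : F) ≠ 0) {φ : F[X]}
    (h : φ ∈ cycF F r) : IsCoprime φ (X - 1) :=
  isCoprime_X_sub_C_of_ne ((mem_cycF h0).1 h).1 ((mem_cycF h0).1 h).2.1 (c := 1) fun h' =>
    X_sub_one_notMem_cycF h1 h0 (by rwa [h', C_1] at h)

theorem isCoprime_sub_one_of_sq {φ : F[X]} (h : IsCoprime φ (X ^ 2 - 1)) : IsCoprime φ (X - 1) :=
  h.of_isCoprime_of_dvd_right ⟨X + 1, by ring⟩

theorem eq_zero_of_edOn_coprime {A : Submodule F V} (hA : St f A) {c : F}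
    (hc : ∀ P ∈ edOn f A, IsCoprime P (X - C c)) : ∀ v ∈ A, f v = c • v → v = 0 := by
  intro v hv h
  obtain ⟨a, b, hab⟩ := isCoprime_multiset_prod (s := edOn f A) (t := {X - C c}) (by simpa using hc)
  have h1 := aeval_eq_zero_of_edOn hA (fun P hP => Multiset.dvd_prod hP) v hv
  have h2 : aeval f (X - C c) v = 0 := by simp [h, Algebra.algebraMap_eq_smul_one]
  have := congrArg (fun P => aeval f P v) hab
  simpa only [Multiset.prod_singleton, map_add, map_mul, LinearMap.add_apply, End.mul_apply, h1, h2,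
    map_zero, add_zero, map_one, End.one_apply, eq_comm] using this

theorem exists_fix_split (hB : IsSF ε B) (hf : Inv B f)
    (h : ed f = s + Multiset.replicate N (X - 1)) (hc : ∀ P ∈ s, IsCoprime P (X - 1)) :
    ∃ A, St f A ∧ ND B A ∧ edOn f A = s ∧ finrank F (perp B A) = N ∧
      (∀ W ≤ perp B A, St f W) ∧ (∀ v ∈ A, f v = v → v = 0) ∧
      ∀ Φ : Submodule F V → Prop, (∃ W, Φ W ∧ St f W) ↔
        ∃ W₁ ≤ A, ∃ W₂ ≤ perp B A, St f W₁ ∧ Φ (W₁ ⊔ W₂) := by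
  obtain ⟨A, h1, h2, h3, h4, h5⟩ := exists_osplit hB hf h
    (fun P hP R hR => Multiset.eq_of_mem_replicate hR ▸ hc P hP)
    (map_pstar_add_replicate_iff.1 (h ▸ hf.map_pstar_ed hB))
  have h6 := hf.perp_mapsTo hB h1
  have h7 : ∀ W ≤ perp B A, St f W := fun W hW => st_of_le_eigen (apply_eq_smul_of_edOn h6 (c := 1)
    fun P hP => by rw [h4] at hP; exact Multiset.eq_of_mem_replicate hP) hW
  refine ⟨A, h1, h2, h3, ?_, h7, fun v hv h => eq_zero_of_edOn_coprime h1 (c := 1)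
    (h3 ▸ hc) v hv (by rw [h, one_smul]), fun Φ => ?_⟩
  · rw [← dg_edOn h6, h4, dg_replicate, natDegree_X_sub_one, mul_one]
  · rw [exists_st_iff_split h1 h6 h5]
    exact ⟨fun ⟨W₁, a, W₂, b, c, _, d⟩ => ⟨W₁, a, W₂, b, c, d⟩,
      fun ⟨W₁, a, W₂, b, c, d⟩ => ⟨W₁, a, W₂, b, c, h7 _ b, d⟩⟩

omit [FiniteDimensional F V] in
theorem le_perp_of_le {A W₁ W₂ : Submodule F V} (h1 : W₁ ≤ A) (h2 : W₂ ≤ perp B A) :
    W₂ ≤ perp B W₁ := h2.trans (perp_anti h1)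

theorem finrank_sup_of_le {A W₁ W₂ : Submodule F V} (hA : ND B A) (h1 : W₁ ≤ A)
    (h2 : W₂ ≤ perp B A) : finrank F ↥(W₁ ⊔ W₂) = finrank F W₁ + finrank F W₂ :=
  finrank_sup_of_disjoint (hA.mono h1 h2)

theorem exists_ti_rigid_iff [Finite F] [DecidableEq F[X]] (hB : IsSF ε B) (hf : Inv B f)
    (hs : f.IsSemisimple) {A : Submodule F V} (hA : St f A) (hd : ND B A)
    (hr : σ ≠ RingHom.id F ∨ ∀ P ∈ edOn f A, IsCoprime P (X ^ 2 - 1))
    (hi : ∀ P ∈ edOn f A, P.natDegree = i) (hS : Shp (pstar σ) (edOn f A) h o) (a : ℕ) :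
    (∃ W ≤ A, St f W ∧ TI B W ∧ finrank F W = a) ↔ ∃ b ≤ h, a = b * i := by
  constructor
  · rintro ⟨W, h1, h2, h3, rfl⟩
    have h4 := add_map_pstar_le_edOn hB hf hs hA hd h2 h1 h3
    exact ⟨_, (hS.2.2 _).1 ⟨_, h4, rfl⟩, by
      rw [← dg_edOn h2, dg_of_const fun P hP => hi P (Multiset.mem_of_le h4 (by simp [hP]))]⟩
  · rintro ⟨b, h1, rfl⟩
    obtain ⟨w, h2, rfl⟩ := (hS.2.2 _).2 h1
    obtain ⟨W, h3, h4, h5, rfl⟩ := exists_ti_le hB hf hA hd hr h2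
    exact ⟨W, h3, h4, h5, by
      rw [← dg_edOn h4, dg_of_const fun P hP => hi P (Multiset.mem_of_le h2 (by simp [hP]))]⟩

theorem ti_shape_iff [Finite F] [DecidableEq F[X]] (hB : IsSF ε B) (hf : Inv B f)
    (hs : f.IsSemisimple) (he : ed f = s + Multiset.replicate N (X - 1))
    (hc : ∀ P ∈ s, IsCoprime P (X - 1))
    (hr : σ ≠ RingHom.id F ∨ ∀ P ∈ s, IsCoprime P (X ^ 2 - 1)) (hi : ∀ P ∈ s, P.natDegree = i)
    (hS : Shp (pstar σ) s h o) (hE : ∀ E : Submodule F V, ND B E → ∀ j, 2 * j ≤ finrank F E →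
      ∃ U ≤ E, finrank F U = j ∧ TI B U) (m : ℕ) :
    (∃ W : Submodule F V, (finrank F W = m ∧ TI B W) ∧ St f W) ↔
      ∃ b ≤ h, ∃ j, 2 * j ≤ N ∧ m = b * i + j := by
  obtain ⟨A, h1, h2, rfl, rfl, -, -, h3⟩ := exists_fix_split hB hf he hc
  have h4 := exists_ti_rigid_iff hB hf hs h1 h2 hr hi hS
  rw [h3]
  constructor
  · rintro ⟨W₁, a, W₂, b, c, rfl, d⟩
    obtain ⟨k, h5, h6⟩ := (h4 _).1 ⟨W₁, a, c, d.mono le_sup_left, rfl⟩
    exact ⟨k, h5, _, (d.mono le_sup_right).two_mul_le_of_le hB (hB.disjoint_perp h2) b,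
      by rw [finrank_sup_of_le h2 a b, h6]⟩
  · rintro ⟨k, h5, j, h6, rfl⟩
    obtain ⟨W₁, a, c, d, e⟩ := (h4 _).2 ⟨k, h5, rfl⟩
    obtain ⟨W₂, b, rfl, g⟩ := hE _ (hB.disjoint_perp h2) j h6
    exact ⟨W₁, a, W₂, b, c, by rw [finrank_sup_of_le h2 a b, e], d.sup hB g (le_perp_of_le a b)⟩

open Classical in
theorem pl_perp_iff [Finite F] (hQ : Q.polarBilin.Nondegenerate) (hf : QInv Q f)
    (hs : f.IsSemisimple) {A : Submodule F V} (hA : St f A) (hd : ND Q.polarBilin A)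
    (hr : ∀ P ∈ edOn f A, IsCoprime P (X ^ 2 - 1))
    (he : Even (finrank F (perp Q.polarBilin A))) : Pl Q (perp Q.polarBilin A) ↔
      (IsPlus Q ↔ Even (nfix (pstar (RingHom.id F)) (edOn f A))) := by
  obtain ⟨h1, h2⟩ := pl_iff_of_rigid hQ hf hA hd
    (fun P hP => irreducible_of_ss hs P (Multiset.mem_of_le (edOn_le_ed hs hA) hP)) hr
  rw [isPlus_iff_perp hQ hd h1 (by
    rw [← (isSF_polar hQ).finrank_add_finrank_perp A]; exact h1.add he), h2]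
  tauto

open Classical in
theorem ts_shape_iff [Finite F] (hQ : Q.polarBilin.Nondegenerate) (hf : QInv Q f)
    (hs : f.IsSemisimple) (he : ed f = s + Multiset.replicate N (X - 1))
    (hr : ∀ P ∈ s, IsCoprime P (X ^ 2 - 1)) (hi : ∀ P ∈ s, P.natDegree = i)
    (hS : Shp (pstar (RingHom.id F)) s h o) (m : ℕ) :
    (∃ W : Submodule F V, (finrank F W = m ∧ TS Q W) ∧ St f W) ↔
      ∃ b ≤ h, ∃ j, 2 * j ≤ N ∧ (2 * j = N → (IsPlus Q ↔ Even o)) ∧ m = b * i + j := by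
  have hB := isSF_polar hQ
  obtain ⟨A, h1, h2, rfl, rfl, -, h7, h3⟩ := exists_fix_split hB hf.inv he
    fun P hP => isCoprime_sub_one_of_sq (hr P hP)
  have h4 := exists_ti_rigid_iff hB hf.inv hs h1 h2 (Or.inr hr) hi hS
  have h8 := exists_ts_le_iff hQ (hB.disjoint_perp h2)
  have h9 : ∀ j, 2 * j = finrank F (perp Q.polarBilin A) →
      (Pl Q (perp Q.polarBilin A) ↔ (IsPlus Q ↔ Even o)) := fun j hj => by
    rw [pl_perp_iff hQ hf hs h1 h2 hr ⟨j, by omega⟩, hS.2.1]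
  rw [h3]
  constructor
  · rintro ⟨W₁, a, W₂, b, c, rfl, d⟩
    obtain ⟨k, h5, h6⟩ := (h4 _).1 ⟨W₁, a, c, d.ti.mono le_sup_left, rfl⟩
    obtain ⟨h10, h11⟩ := (h8 _).1 ⟨W₂, b, rfl, fun w hw => d w (Submodule.mem_sup_right hw)⟩
    exact ⟨k, h5, _, h10, fun h => (h9 _ h).1 (h11 h), by rw [finrank_sup_of_le h2 a b, h6]⟩
  · rintro ⟨k, h5, j, h6, h10, rfl⟩
    obtain ⟨W₁, a, c, d, e⟩ := (h4 _).2 ⟨k, h5, rfl⟩
    obtain ⟨W₂, b, rfl, g⟩ := (h8 j).2 ⟨h6, fun h => (h9 _ h).2 (h10 h)⟩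
    exact ⟨W₁, a, W₂, b, c, by rw [finrank_sup_of_le h2 a b, e],
      (ts_of_ti hf c (fun v hv => h7 v (a hv)) d).sup g (le_perp_of_le a b)⟩

theorem ne_one_iff_of_ed (h1 : r ≠ 1) (h0 : (r : F) ≠ 0) (hs : ∀ P ∈ s, P ∈ cycF F r)
    (he : ed f = s + Multiset.replicate N (X - 1)) : f ≠ 1 ↔ s ≠ 0 := by
  have := eq_smul_one_iff_ed f 1
  rw [one_smul, C_1, he] at this
  rw [Ne, this]
  refine not_congr ⟨fun h => Multiset.eq_zero_of_forall_notMem fun P hP => ?_, fun h P hP => ?_⟩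
  · exact X_sub_one_notMem_cycF h1 h0 (h P (by simp [hP]) ▸ hs P hP)
  · rw [h, zero_add] at hP
    exact Multiset.eq_of_mem_replicate hP

omit [FiniteDimensional F V] in
theorem ss_of_pow_eq_one (h0 : (r : F) ≠ 0) (h : f ^ r = 1) : f.IsSemisimple :=
  isSemisimple_of_pow h0 one_ne_zero (by rw [h, one_smul])

/-- Elements of order `r` in terms of their elementary divisors. -/
theorem forall_pow_eq_one_iff [Finite F] (hr : r.Prime) (h0 : (r : F) ≠ 0) (I Φ : End F V → Prop) :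
    (∀ f, I f → f ^ r = 1 → f ≠ 1 → Φ f) ↔ ∀ (s : Multiset F[X]) (N : ℕ) (f : End F V),
      (∀ P ∈ s, P ∈ cycF F r) → s ≠ 0 → ed f = s + Multiset.replicate N (X - 1) → I f →
        f.IsSemisimple → s.card * orderOf (Nat.card F : ZMod r) + N = finrank F V → Φ f := by
  constructor
  · intro H s N f h1 h2 h3 h4 _ _
    exact H f h4 (pow_eq_one_of_ed h0 h1 h3) ((ne_one_iff_of_ed hr.ne_one h0 h1 h3).2 h2)
  · intro H f h1 h2 h3
    obtain ⟨s, N, h4, h5⟩ := exists_ed_of_pow_eq_one hr h0 h2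
    exact H s N f h4 ((ne_one_iff_of_ed hr.ne_one h0 h4 h5).1 h3) h5 h1 (ss_of_pow_eq_one h0 h2)
      (by rw [← dg_cyc h0 h4, ← h5, dg_ed])

open Classical in
/-- Reduction of a statement on all isometries of order `r` to shapes. -/
theorem forall_shape_iff [Finite F] (hr : r.Prime) (h0 : (r : F) ≠ 0) (hB : IsSF ε B) {sd : Prop}
    (hD : Dich (cycF F r) (pstar σ) sd) (I Φ : End F V → Prop) (hI : ∀ f, I f → Inv B f)
    (R Ψ : ℕ → ℕ → ℕ → Prop)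
    (hR : ∀ s N h o, (∀ P ∈ s, P ∈ cycF F r) → s.map (pstar σ) = s → Shp (pstar σ) s h o →
      s.card * orderOf (Nat.card F : ZMod r) + N = finrank F V →
      (R h o N ↔ ∃ f, I f ∧ ed f = s + Multiset.replicate N (X - 1)))
    (hΨ : ∀ s N h o f, (∀ P ∈ s, P ∈ cycF F r) → Shp (pstar σ) s h o → I f → f.IsSemisimple →
      ed f = s + Multiset.replicate N (X - 1) → (Φ f ↔ Ψ h o N)) :
    (∀ f, I f → f ^ r = 1 → f ≠ 1 → Φ f) ↔ ∀ h o N, o ≤ (if sd then (cycF F r).card else 0) →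
      0 < 2 * h + o → (2 * h + o) * orderOf (Nat.card F : ZMod r) + N = finrank F V → R h o N →
      Ψ h o N := by
  rw [forall_pow_eq_one_iff hr h0]
  constructor
  · intro H h o N h1 h2 h3 h4
    obtain ⟨s, h5, h6, h7⟩ := hD.shp_exists h o h1
    rw [← h7.1] at h3
    obtain ⟨f, h8, h9⟩ := (hR s N h o h5 h6 h7 h3).1 h4
    have h10 := ss_of_pow_eq_one h0 (pow_eq_one_of_ed h0 h5 h9)
    exact (hΨ s N h o f h5 h7 h8 h10 h9).1 (H s N f h5
      (by rw [← Multiset.card_pos, h7.1]; exact h2) h9 h8 h10 h3)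
  · intro H s N f h1 h2 h3 h4 h5 h6
    have h7 := map_pstar_add_replicate_iff.1 (h3 ▸ (hI f h4).map_pstar_ed hB)
    obtain ⟨h, o, h8, h9⟩ := hD.exists_shp h1 h7
    exact (hΨ s N h o f h1 h9 h4 h5 h3).2 (H h o N h8 (by rw [← h9.1, Multiset.card_pos]; exact h2)
      (by rw [← h9.1, h6]) ((hR s N h o h1 h7 h9 h6).2 ⟨f, h4, h3⟩))

theorem exists_inv_alt {B : V →ₗ[F] V →ₗ[F] F} (hB : IsSF (σ := RingHom.id F) (-1) B)
    (ha : ∀ x, B x x = 0) (h : Real (RingHom.id F) (-1) True s) (hd : dgs s = finrank F V) :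
    ∃ f, Inv B f ∧ ed f = s := by
  obtain ⟨d, B', g, h1, h2, h3, rfl⟩ := h
  obtain ⟨e, he⟩ := H54.exists_isometry_of_finrank_eq h1.nondegenerate (h2 trivial) hB.nondegenerate
    ha (by rw [← hd, dg_ed])
  have h4 := exists_iso_of_isometry e he g
  exact ⟨_, h4.symm.inv h3, h4.sim.ed_eq.symm⟩

theorem exists_inv_herm [Fintype F] {q : ℕ} {hF : Fintype.card F = q ^ 2}
    {B : V →ₛₗ[H59.frob hF] V →ₗ[F] F} (hB : IsSF 1 B) (hP : ∀ P ∈ s, IsPP P)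
    (h0 : ∀ P ∈ s, P.coeff 0 ≠ 0) (h : s.map (pstar (H59.frob hF)) = s)
    (hd : dgs s = finrank F V) : ∃ f, Inv B f ∧ ed f = s := by
  obtain ⟨g, hg⟩ := exists_GU_med_eq hF hP h0 h hd
  obtain ⟨k, e, -, he⟩ := exists_GU_iso hF hB rfl Inv.one
  have h4 := exists_iso_of_isometry (B := H59.uForm hF _) (B' := B) e.symm
    (fun x y => by rw [← he]; simp) (Matrix.toLin' g.1.1)
  exact ⟨_, h4.symm.inv (inv_GU hF g), h4.sim.ed_eq.symm.trans hg⟩

theorem exists_qinv_even [Finite F] (hQ : Q.polarBilin.Nondegenerate) (he : Even (finrank F V))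
    (h : RealQ (IsPlus Q) s) (hd : dgs s = finrank F V) : ∃ f, QInv Q f ∧ ed f = s := by
  obtain ⟨d, Q', g, h1, h2, rfl, h3⟩ := h
  rw [dg_ed] at hd
  obtain ⟨e, he⟩ := exists_equiv_of_isPlus_iff h1 hQ hd (hd ▸ he) h3
  have h4 := exists_qiso_of_isometry e he g
  exact ⟨_, h4.symm.qinv h2, h4.sim.ed_eq.symm⟩

theorem exists_qinv_odd [Finite F] (hQ : Q.polarBilin.Nondegenerate) (ho : Odd (finrank F V))
    (h : Real (RingHom.id F) 1 False s) (hd : dgs s = finrank F V) : ∃ f, QInv Q f ∧ ed f = s := by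
  obtain ⟨m, hm⟩ := ho
  obtain ⟨_, d, Q', g, h1, h2, rfl, -⟩ := h.exists_realQ_of_two_ne (equiv_oddc hQ hm).1
  rw [dg_ed] at hd
  obtain ⟨c, hc, e, he⟩ := similar_qOdd hQ hm
  obtain ⟨c', hc', e', he'⟩ := similar_qOdd h1 (hd.trans hm)
  have h4 := exists_qiso_of_isometry (Q := (c * c'⁻¹) • Q') (Q' := Q) (e'.symm.trans e)
    (fun x => by
      obtain ⟨y, rfl⟩ := e'.surjective x
      simp [he, he', mul_assoc, hc']) g
  exact ⟨_, h4.symm.qinv (h2.smul _), h4.sim.ed_eq.symm⟩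

end H58
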