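import Cfsg.Agent.H58.ElRed

/-!
Isometries with square `1` or `-1` in odd characteristic; discriminants of subspaces.
-/

open Polynomial Module

namespace H58

open H53
open H59 (perp mem_perp)
open H56 (O SqCl sqcl spinor)
open QuadraticMap (polar)

variable {F : Type*} [Field F] {σ : F →+* F} {ε : F}
variable {V W : Type*} [AddCommGroup V] [Module F V] [FiniteDimensional F V]
  [AddCommGroup W] [Module F W] [FiniteDimensional F W]
variable {B : V →ₛₗ[σ] V →ₗ[F] F} {f : End F V} {Q : QuadraticForm F V} {Q' : QuadraticForm F W}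

section four

theorem four_ne_zero' (h2 : (2 : F) ≠ 0) : ((4 : ℕ) : F) ≠ 0 := by
  rw [show ((4 : ℕ) : F) = 2 * 2 by norm_num]
  exact mul_ne_zero h2 h2

theorem cyclotomic_four' : cyclotomic 4 F = X ^ 2 + 1 := by
  have := cyclotomic_prime_pow_eq_geom_sum (R := F) (n := 1) Nat.prime_two
  simpa [Finset.sum_range_succ, add_comm] using this

theorem mem_cycF_four (h2 : (2 : F) ≠ 0) {φ : F[X]} :
    φ ∈ cycF F 4 ↔ φ.Monic ∧ Irreducible φ ∧ φ ∣ X ^ 2 + 1 := by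
  rw [mem_cycF (four_ne_zero' h2)]
  exact and_congr_right fun _ => and_congr_right fun hi => by
    rw [pord_eq_iff_dvd_cyclotomic hi (four_ne_zero' h2), cyclotomic_four']

omit [FiniteDimensional F V] in
theorem ss_of_sq_eq_neg (h2 : (2 : F) ≠ 0) (h : f ^ 2 = -1) : f.IsSemisimple :=
  isSemisimple_of_pow (r := 2) (c := -1) (by simpa using h2) (by simp) (by rw [h, neg_one_smul])

theorem sq_eq_neg_iff_ed (h2 : (2 : F) ≠ 0) : f ^ 2 = -1 ↔ ∀ P ∈ ed f, P ∈ cycF F 4 := by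
  have h1 := pow_eq_smul_one_iff_ed f 2 (-1)
  rw [neg_one_smul, C_neg, C_1, sub_neg_eq_add] at h1
  refine ⟨fun h P hP => (mem_cycF_four h2).2 ⟨(ed_isPP f P hP).monic,
    irreducible_of_ss (ss_of_sq_eq_neg h2 h) P hP, h1.1 h P hP⟩,
    fun h => h1.2 fun P hP => ((mem_cycF_four h2).1 (h P hP)).2.2⟩

variable [Finite F]

theorem card_mod_four (h2 : (2 : F) ≠ 0) : Nat.card F % 4 = 1 ∨ Nat.card F % 4 = 3 := by
  have := two_mul_card_div_two h2
  omega

theorem orderOf_card_four (h2 : (2 : F) ≠ 0) :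
    orderOf (Nat.card F : ZMod 4) = if Nat.card F % 4 = 3 then 2 else 1 := by
  rw [← ZMod.natCast_mod]
  rcases card_mod_four h2 with h | h <;> rw [h]
  · simp
  · rw [if_pos rfl]
    exact orderOf_eq_prime (by decide) (by decide)

theorem dich_four (h2 : (2 : F) ≠ 0) :
    Dich (cycF F 4) (pstar (RingHom.id F)) (Nat.card F % 4 = 3) := by
  refine dich_cycF (fun _ => rfl) (four_ne_zero' h2) fun φ h => ?_
  have h1 := (mem_cycF (four_ne_zero' h2)).1 h
  rw [pstar_id_eq_self_iff h1.1 h1.2.1 (coeff_zero_ne_zero_of_mem_cycF (four_ne_zero' h2) h), h1.2.2]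
  refine ⟨fun ⟨j, hj⟩ => (card_mod_four h2).resolve_left fun h3 => ?_, fun h3 => ⟨1, by rw [pow_one]; omega⟩⟩
  have : Nat.card F ^ j % 4 = 1 := by rw [Nat.pow_mod, h3, one_pow, Nat.one_mod]
  omega

theorem natDegree_cycF_four (h2 : (2 : F) ≠ 0) {φ : F[X]} (h : φ ∈ cycF F 4) :
    φ.natDegree = if Nat.card F % 4 = 3 then 2 else 1 := by
  rw [natDegree_of_mem_cycF (four_ne_zero' h2) h, orderOf_card_four h2]

theorem card_cycF_four (h2 : (2 : F) ≠ 0) (h : Nat.card F % 4 = 3) : (cycF F 4).card = 1 := by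
  have := card_cycF_mul (four_ne_zero' h2)
  rw [orderOf_card_four h2, if_pos h, show Nat.totient 4 = 2 by decide] at this
  omega

theorem prod_of_cycF_four (h2 : (2 : F) ≠ 0) {s : Multiset F[X]} (hs : ∀ P ∈ s, P ∈ cycF F 4)
    (hπ : s.map (pstar (RingHom.id F)) = s) : ∃ d, s.prod = (X ^ 2 + 1) ^ d := by
  classical
  have hm : (X ^ 2 + 1 : F[X]).Monic := by monicity!
  have hd : (X ^ 2 + 1 : F[X]).natDegree = 2 := by compute_degree!
  by_cases h : Nat.card F % 4 = 3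
  · refine ⟨s.card, (congrArg Multiset.prod (Multiset.eq_replicate_card.2 fun P hP => ?_)).trans
      (Multiset.prod_replicate _ _)⟩
    have h1 := (mem_cycF_four h2).1 (hs P hP)
    exact eq_of_monic_of_dvd_of_natDegree_le h1.1 hm h1.2.2
      (by rw [natDegree_cycF_four h2 (hs P hP), if_pos h, hd]) |>.symm
  · obtain ⟨u, rfl⟩ := (dich_four h2).exists_pair h _ s rfl hs hπ
    refine ⟨u.card, ?_⟩
    rw [Multiset.prod_add]
    conv_lhs => rw [← u.map_id']
    rw [Multiset.map_map, ← Multiset.prod_map_mul, Multiset.map_congr rfl (g := fun _ => X ^ 2 + 1),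
      Multiset.map_const', Multiset.prod_replicate]
    intro P hP
    have h0 := hs P (by simp [hP])
    have h0' := (dich_four h2).mem P h0
    have h1 := (mem_cycF_four h2).1 h0
    have h3 := (mem_cycF_four h2).1 h0'
    refine (eq_of_monic_of_dvd_of_natDegree_le (h1.1.mul h3.1) hm
      ((isCoprime_of_monic_irreducible_ne h1.1 h1.2.1 h3.1 h3.2.1 fun h' =>
        h (((dich_four h2).iff P h0).1 h'.symm)).mul_dvd h1.2.2 h3.2.2) ?_).symm
    rw [h1.1.natDegree_mul h3.1, natDegree_cycF_four h2 h0, natDegree_cycF_four h2 h0', if_neg h, hd]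

theorem charpoly_of_sq_eq_neg (h2 : (2 : F) ≠ 0) {B : V →ₗ[F] V →ₗ[F] F}
    (hB : IsSF (σ := RingHom.id F) ε B) (hf : Inv B f) (h : f ^ 2 = -1) {d : ℕ}
    (hd : finrank F V = 2 * d) : f.charpoly = (X ^ 2 + 1) ^ d := by
  obtain ⟨k, hk⟩ := prod_of_cycF_four h2 ((sq_eq_neg_iff_ed h2).1 h) (hf.map_pstar_ed hB)
  rw [← charpoly_eq_prod_ed] at hk
  have := f.charpoly_natDegree
  rw [hk, natDegree_pow, show (X ^ 2 + 1 : F[X]).natDegree = 2 by compute_degree!] at this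
  rw [hk, show k = d by omega]

theorem inOm_iff_of_sq_eq_neg (h2 : (2 : F) ≠ 0) (hQ : Q.polarBilin.Nondegenerate) (hf : QInv Q f)
    (h : f ^ 2 = -1) {d : ℕ} (hd : finrank F V = 2 * d) : InOm Q f ↔ Even d ∨ IsSquare (2 : F) := by
  have h1 := charpoly_of_sq_eq_neg h2 (isSF_polar hQ) hf.inv h hd
  have h3 := f.eval_charpoly 0
  have h4 := f.eval_charpoly (-1)
  rw [h1] at h3 h4
  rw [map_zero, zero_sub, det_neg', hd] at h3
  rw [map_neg, map_one, ← neg_add', det_neg', hd] at h4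
  simp only [eval_pow, eval_add, eval_X, eval_one, pow_mul, even_two, Even.neg_pow, one_pow,
    one_mul, one_add_one_eq_two, ne_eq, OfNat.ofNat_ne_zero, not_false_eq_true, zero_pow,
    zero_add] at h3 h4
  obtain ⟨g, rfl⟩ := hf.exists_lin_eq hQ
  have h5 : InOm Q g.lin ↔ g ∈ commutator (O Q) :=
    ⟨fun ⟨k, hk, h⟩ => by rwa [← H56.O.ext (g := k) (h := g) fun x => LinearMap.congr_fun h x],
      fun h => ⟨g, h, rfl⟩⟩
  rw [h5, H56.mem_commutator_iff_of_two_ne hQ h2, spinor_of_det_ne_zero h2 hQ g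
    (h4 ▸ pow_ne_zero _ h2), ← h3, ← h4, hd, two_mul, pow_add, H56.sqcl_mul_self_mul
    (pow_ne_zero _ h2), H56.sqcl_pow, ← H56.sqcl_eq_one_iff']
  rcases d.even_or_odd with ⟨k, rfl⟩ | ⟨k, rfl⟩
  · simp [pow_add]
  · simp [pow_succ, pow_mul, sq]

end four

section invol

theorem exists_invol_split (hB : IsSF ε B) (h2 : (2 : F) ≠ 0) (hf : Inv B f) (h : f ^ 2 = 1) :
    ∃ A, ND B A ∧ (∀ v ∈ A, f v = -v) ∧ (∀ v ∈ perp B A, f v = v) ∧
      ∀ Φ : Submodule F V → Prop, (∃ W, Φ W ∧ St f W) ↔ ∃ W₁ ≤ A, ∃ W₂ ≤ perp B A, Φ (W₁ ⊔ W₂) := by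
  have hc : IsCoprime (X + 1 : F[X]) (X - 1) := ⟨C 2⁻¹, -C 2⁻¹, by
    rw [show C 2⁻¹ * (X + 1) + -C 2⁻¹ * (X - 1) = C 2⁻¹ * (C 2 : F[X]) by rw [map_ofNat]; ring,
      ← C_mul, inv_mul_cancel₀ h2, C_1]⟩
  have h0 : aeval f ((X + 1) * (X - 1) : F[X]) = 0 := by
    rw [← sq_sub_sq]
    simp [h]
  have h1 : ∀ v, v ∈ LinearMap.ker (aeval f (X + 1 : F[X])) ↔ f v = -v := by
    simp [eq_neg_iff_add_eq_zero]
  have h3 : ∀ v, v ∈ LinearMap.ker (aeval f (X - 1 : F[X])) ↔ f v = v := by simp [sub_eq_zero]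
  have h4 := isCompl_ker_aeval hc h0
  have h5 := hB.eq_perp_of_isCompl h4 fun x hx y hy => by
    have := hf x y
    rw [(h1 x).1 hx, (h3 y).1 hy, map_neg, LinearMap.neg_apply, neg_eq_iff_add_eq_zero, ← two_mul]
      at this
    exact (mul_eq_zero.1 this).resolve_left h2
  refine ⟨_, by rw [ND, ← h5]; exact h4.disjoint, fun v hv => (h1 v).1 hv, fun v hv => (h3 v).1 (h5 ▸ hv), fun Φ => ?_⟩
  rw [← h5, exists_st_iff_split (ker_aeval_mapsTo f _) (ker_aeval_mapsTo f _)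
    fun W hW => eq_inf_sup_inf hc h0 hW]
  exact ⟨fun ⟨W₁, a, W₂, b, _, _, d⟩ => ⟨W₁, a, W₂, b, d⟩, fun ⟨W₁, a, W₂, b, d⟩ =>
    ⟨W₁, a, W₂, b, fun v hv => by rw [(h1 v).1 (a hv)]; exact neg_mem hv,
      fun v hv => by rw [(h3 v).1 (b hv)]; exact hv, d⟩⟩

theorem ext_of_nd (hB : IsSF ε B) {A : Submodule F V} (hA : ND B A) {g : End F V}
    (h1 : ∀ v ∈ A, f v = g v) (h2 : ∀ v ∈ perp B A, f v = g v) : f = g := by
  ext v
  obtain ⟨a, ha, b, hb, rfl⟩ := Submodule.mem_sup.1 ((hB.isCompl_perp hA).sup_eq_top.ge (x := v) trivial)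
  rw [map_add, map_add, h1 a ha, h2 b hb]

theorem exists_invol_of_nd (hB : IsSF ε B) {A : Submodule F V} (hA : ND B A) :
    ∃ f, Inv B f ∧ f ^ 2 = 1 ∧ (∀ v ∈ A, f v = -v) ∧ ∀ v ∈ perp B A, f v = v := by
  have hc := hB.isCompl_perp hA
  set f := LinearMap.ofIsCompl hc (-A.subtype) (perp B A).subtype
  have h1 : ∀ v ∈ A, f v = -v := fun v hv => LinearMap.ofIsCompl_apply_left hc ⟨v, hv⟩
  have h2 : ∀ v ∈ perp B A, f v = v := fun v hv => LinearMap.ofIsCompl_apply_right hc ⟨v, hv⟩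
  refine ⟨f, fun x y => ?_, ext_of_nd hB hA (fun v hv => ?_) fun v hv => ?_, h1, h2⟩
  · obtain ⟨a, ha, b, hb, rfl⟩ := Submodule.mem_sup.1 (hc.sup_eq_top.ge (x := x) trivial)
    obtain ⟨c, hc, d, hd, rfl⟩ := Submodule.mem_sup.1 (hc.sup_eq_top.ge (x := y) trivial)
    simp [h1 a ha, h1 c hc, h2 b hb, h2 d hd, hd a ha, hB.eq_zero_comm.1 (hb c hc)]
  · simp [sq, h1 v hv]
  · simp [sq, h2 v hv]

theorem ne_one_iff_of_invol (hB : IsSF ε B) (h2 : (2 : F) ≠ 0) {A : Submodule F V} (hA : ND B A)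
    (h1 : ∀ v ∈ A, f v = -v) (h3 : ∀ v ∈ perp B A, f v = v) :
    (f ≠ 1 ↔ 0 < finrank F A) ∧ (f ≠ -1 ↔ finrank F A < finrank F V) := by
  have key : ∀ v : V, -v = v → v = 0 := fun v hv => by
    rw [neg_eq_iff_add_eq_zero, ← two_smul F, smul_eq_zero] at hv
    exact hv.resolve_left h2
  have h4 := hB.finrank_add_finrank_perp A
  constructor
  · rw [Nat.pos_iff_ne_zero, Ne, Ne, Submodule.finrank_eq_zero, Submodule.eq_bot_iff]
    refine not_congr ⟨fun h v hv => key v (by rw [← h1 v hv, h, End.one_apply]), fun h => ?_⟩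
    exact ext_of_nd hB hA (fun v hv => by simp [h v hv]) h3
  · rw [show finrank F A < finrank F V ↔ finrank F (perp B A) ≠ 0 by omega, Ne, Ne,
      Submodule.finrank_eq_zero, Submodule.eq_bot_iff]
    refine not_congr ⟨fun h v hv => key v (by simpa [h] using h3 v hv), fun h => ?_⟩
    exact ext_of_nd hB hA h1 fun v hv => by simp [h v hv]

theorem inOm_iff_of_invol [Finite F] (h2 : (2 : F) ≠ 0) (hQ : Q.polarBilin.Nondegenerate)
    (hf : QInv Q f) {A : Submodule F V} (hA : ND Q.polarBilin A) (h1 : ∀ v ∈ A, f v = -v)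
    (h3 : ∀ v ∈ perp Q.polarBilin A, f v = v) :
    InOm Q f ↔ Even (finrank F A) ∧ disc (Q.restrict A) = 1 := by
  obtain ⟨g, rfl⟩ := hf.exists_lin_eq hQ
  have h5 : InOm Q g.lin ↔ g ∈ commutator (O Q) :=
    ⟨fun ⟨k, hk, h⟩ => by rwa [← H56.O.ext (g := k) (h := g) fun x => LinearMap.congr_fun h x],
      fun h => ⟨g, h, rfl⟩⟩
  have hA' := nondeg_restrict hQ hA
  have hC := nondeg_restrict hQ ((isSF_polar hQ).disjoint_perp hA)
  have h6 : St g.lin A := fun v hv => by rw [h1 v hv]; exact neg_mem hv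
  have h7 := hf.qiso_prod hQ h6 hA
  rw [show g.lin.restrict h6 = (H56.O.negOne (Q.restrict A)).lin from LinearMap.ext fun v =>
    Subtype.ext (h1 v v.2), show g.lin.restrict (hf.inv.perp_mapsTo (isSF_polar hQ) h6) =
    (1 : O (Q.restrict _)).lin from LinearMap.ext fun v => Subtype.ext (h3 v v.2),
    ← lin_prodHom] at h7
  have h8 : LinearMap.det g.lin = (-1) ^ finrank F A := by
    obtain ⟨e, he, -⟩ := h7
    rw [← LinearMap.det_conj _ e.symm, show e.symm.toLinearMap ∘ₗ g.lin ∘ₗ e.symm.symm.toLinearMap =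
      (-1 : End F A).prodMap 1 from LinearMap.ext fun v => e.symm_apply_eq.2 (he v).symm,
      LinearMap.det_prodMap, det_neg']
    simp
  rw [h5, H56.mem_commutator_iff_of_two_ne hQ h2, ← spinor_eq_of_qiso h2 (nondeg_prod hA' hC) hQ h7,
    spinor_prodHom h2 hA' hC, map_one, mul_one, spinor_negOne' h2, h8,
    neg_one_pow_eq_one_iff_even fun h => h2 (by linear_combination -h)]
  refine and_congr_right fun ⟨k, hk⟩ => ?_
  rw [hk, pow_add, H56.SqCl.mul_self, one_mul]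

end invol

section disc

variable [Finite F]

theorem exists_equiv_of_disc (h2 : (2 : F) ≠ 0) (hQ : Q.polarBilin.Nondegenerate)
    (hQ' : Q'.polarBilin.Nondegenerate) (hd : finrank F V = finrank F W) (h : disc Q = disc Q') :
    ∃ g : V ≃ₗ[F] W, ∀ v, Q' (g v) = Q v :=
  exists_equiv_of_isSquare_gram h2 hQ hQ' hd (finBasis F V) (finBasis F W)
    ((H56.sqcl_eq_iff_isSquare_mul (gram_ne_zero hQ _) (gram_ne_zero hQ' _)).1 h)

theorem isPlus_iff_disc (h2 : (2 : F) ≠ 0) (hQ : Q.polarBilin.Nondegenerate) {k : ℕ}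
    (hk : finrank F V = 2 * k) : IsPlus Q ↔ disc Q = sqcl (-1) ^ k := by
  rw [isPlus_iff_isSquare h2 hQ hk (finBasis F V), ← H56.sqcl_eq_iff_isSquare_mul
    (pow_ne_zero _ (by simp)) (gram_ne_zero hQ _), H56.sqcl_pow, eq_comm, disc]

theorem sqcl_neg_one_pow (h2 : (2 : F) ≠ 0) (k : ℕ) :
    sqcl (-1 : F) ^ k = 1 ↔ Nat.card F % 4 = 1 ∨ Even k := by
  have := Fintype.ofFinite F
  have h1 := card_mod_four h2
  rw [← H56.sqcl_pow, H56.sqcl_eq_one_iff', isSquare_neg_one_pow_iff, ← Nat.card_eq_fintype_card,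
    ← Nat.not_even_iff_odd]
  by_cases h : Even k <;> simp only [h, not_true, not_false_iff, and_true, and_false, or_true,
    or_false]
  omega

omit [Finite F] in
theorem exists_form_disc (h2 : (2 : F) ≠ 0) {j : ℕ} (hj : 0 < j) (δ : SqCl F) :
    ∃ R : QuadraticForm F (Fin j → F), R.polarBilin.Nondegenerate ∧ disc R = δ := by
  obtain ⟨c, hc, h⟩ := H56.sqcl_surjective (sqcl 2 ^ j * δ)
  have hw : ∀ i, Function.update (fun _ : Fin j => (1 : F)) ⟨0, hj⟩ c i ≠ 0 := fun i => by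
    rw [Function.update_apply]
    split_ifs <;> simp [hc]
  refine ⟨_, wss_nondeg h2 hw, ?_⟩
  rw [disc_eq (Pi.basisFun F _), gram_wss, Finset.prod_update_of_mem (Finset.mem_univ _),
    Finset.prod_const_one, mul_one, H56.sqcl_mul (pow_ne_zero _ h2) hc, h, H56.sqcl_pow,
    Fintype.card_fin, ← mul_assoc, H56.SqCl.mul_self, one_mul]

theorem exists_form_type {k : ℕ} (η : Prop) (h : η ∨ 0 < k) :
    ∃ R : QuadraticForm F (Fin (2 * k) → F), R.polarBilin.Nondegenerate ∧ (IsPlus R ↔ η) := by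
  have := realQ_replicate (F := F) (one_mul 1) η h
  rw [show 2 * k = finrank F (Fin (2 * k) → F) by simp, ← ed_smul_one] at this
  obtain ⟨R, h1, -, h2⟩ := this.exists_form
  exact ⟨R, h1, h2⟩

omit [Finite F] [FiniteDimensional F V] [FiniteDimensional F W] in
theorem exists_nd_of_inj (hQ : Q.polarBilin.Nondegenerate) (hQ' : Q'.polarBilin.Nondegenerate)
    (e : W →ₗ[F] V) (he : ∀ x, Q (e x) = Q' x) : ND Q.polarBilin (LinearMap.range e) ∧
      ∃ φ : W ≃ₗ[F] LinearMap.range e, ∀ x, Q.restrict _ (φ x) = Q' x := by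
  refine ⟨(isSF_polar hQ).disjoint_of_restrict ?_,
    LinearEquiv.ofInjective e (H56.injective_of_map_Q hQ' e he), he⟩
  rintro _ ⟨x, rfl⟩ h
  rw [H56.eq_zero_of_polar hQ' fun y => (polar_map e he x y).symm.trans (h _ ⟨y, rfl⟩), map_zero]

theorem disc_sup (hQ : Q.polarBilin.Nondegenerate) {A C : Submodule F V}
    (hA : ND Q.polarBilin A) (hC : ND Q.polarBilin C) (h : C ≤ perp Q.polarBilin A) :
    disc (Q.restrict (A ⊔ C)) = disc (Q.restrict A) * disc (Q.restrict C) := by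
  obtain ⟨e, he⟩ := exists_equiv_sup (hA.disjoint h) h
  rw [disc_of_equiv e he, disc_prod (nondeg_restrict hQ hA) (nondeg_restrict hQ hC)]

theorem disc_eq_mul_perp (hQ : Q.polarBilin.Nondegenerate) {A : Submodule F V}
    (hA : ND Q.polarBilin A) :
    disc Q = disc (Q.restrict A) * disc (Q.restrict (perp Q.polarBilin A)) := by
  rw [← disc_sup hQ hA ((isSF_polar hQ).disjoint_perp hA) le_rfl]
  exact disc_of_equiv (LinearEquiv.ofTop _ ((isSF_polar hQ).isCompl_perp hA).sup_eq_top)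
    fun _ => rfl

theorem exists_nd_disc (h2 : (2 : F) ≠ 0) (hQ : Q.polarBilin.Nondegenerate) {E : Submodule F V}
    (hE : ND Q.polarBilin E) {j : ℕ} (h0 : 0 < j) (hj : j < finrank F E) (δ : SqCl F) :
    ∃ U ≤ E, ND Q.polarBilin U ∧ finrank F U = j ∧ disc (Q.restrict U) = δ := by
  obtain ⟨R, h1, rfl⟩ := exists_form_disc h2 h0 δ
  obtain ⟨R', h3, h4⟩ := exists_form_disc h2 (Nat.sub_pos_of_lt hj) (disc R * disc (Q.restrict E))
  obtain ⟨g, hg⟩ := exists_equiv_of_disc h2 (nondeg_prod h1 h3) (nondeg_restrict hQ hE)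
    (by simp; omega) (by rw [disc_prod h1 h3, h4, ← mul_assoc, H56.SqCl.mul_self, one_mul])
  obtain ⟨h5, φ, h6⟩ := exists_nd_of_inj hQ h1 (E.subtype ∘ₗ g.toLinearMap ∘ₗ LinearMap.inl F _ _)
    fun x => (hg (x, 0)).trans (by simp)
  exact ⟨_, by rintro _ ⟨x, rfl⟩; exact (g _).2, h5, by rw [← φ.finrank_eq]; simp,
    disc_of_equiv φ h6⟩

omit [Finite F] in
theorem two_ne_zero_of_odd (hQ : Q.polarBilin.Nondegenerate) (h : Odd (finrank F V)) :
    (2 : F) ≠ 0 := fun h2 => Nat.not_even_iff_odd.2 h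
  (H54.even_finrank_of_isAlt hQ fun x => by simp [h2])

theorem exists_nd_pl (hQ : Q.polarBilin.Nondegenerate) {E : Submodule F V}
    (hE : ND Q.polarBilin E) {j : ℕ} (h0 : 0 < j) (hj : j < finrank F E) (he : Even j) (η : Prop) :
    ∃ U ≤ E, ND Q.polarBilin U ∧ finrank F U = j ∧ (Pl Q U ↔ η) := by
  obtain ⟨k, rfl⟩ := he.two_dvd
  rcases (finrank F E).even_or_odd with h | h
  · obtain ⟨l, hl⟩ := h.two_dvd
    obtain ⟨R, h1, h2⟩ := exists_form_type (F := F) η (k := k) (Or.inr (by omega))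
    obtain ⟨R', h3, h4⟩ := exists_form_type (F := F) (η ↔ Pl Q E) (k := l - k) (Or.inr (by omega))
    obtain ⟨g, hg⟩ := exists_equiv_of_isPlus_iff (nondeg_prod h1 h3) (nondeg_restrict hQ hE)
      (by simp; omega) (by simp [Nat.even_add]) (by
        rw [isPlus_prod_iff h1 h3 (by simp) (by simp), h2, h4]; tauto)
    obtain ⟨h5, φ, h6⟩ := exists_nd_of_inj hQ h1 (E.subtype ∘ₗ g.toLinearMap ∘ₗ LinearMap.inl F _ _)
      fun x => (hg (x, 0)).trans (by simp)
    exact ⟨_, by rintro _ ⟨x, rfl⟩; exact (g _).2, h5, by rw [← φ.finrank_eq]; simp,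
      (isPlus_congr φ h6).trans h2⟩
  · have h2 := two_ne_zero_of_odd (nondeg_restrict hQ hE) h
    obtain ⟨δ, hδ⟩ : ∃ δ : SqCl F, δ = sqcl (-1) ^ k ↔ η := by
      by_cases hη : η
      · exact ⟨_, iff_of_true rfl hη⟩
      · have := Finite.one_lt_card_iff_nontrivial.1 ((H56.card_SqCl h2).symm ▸ one_lt_two)
        obtain ⟨δ, h⟩ := exists_ne (sqcl (-1 : F) ^ k)
        exact ⟨δ, iff_of_false h hη⟩
    obtain ⟨U, h3, h4, h5, rfl⟩ := exists_nd_disc h2 hQ hE h0 hj δ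
    exact ⟨U, h3, h4, h5, (isPlus_iff_disc h2 (nondeg_restrict hQ h4) h5).trans hδ⟩

end disc

end H58
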