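import Cfsg.Agent.H58.ElCyc
import Cfsg.Agent.H53.JO

/-!
From matrix groups to isometries of abstract spaces.
-/

open Polynomial Module

namespace H58

open H53
open H56 (O)

variable {F : Type*} [Field F] {σ : F →+* F} {ε : F} {r : ℕ}
variable {V : Type*} [AddCommGroup V] [Module F V]

section mat

variable {n : Type*} [Fintype n] [DecidableEq n]

theorem toLin'_pow_iff {A : Matrix n n F} {c : F} :
    (Matrix.toLin' A : End F (n → F)) ^ r = c • 1 ↔ A ^ r = c • 1 := by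
  rw [← toLin'_eq_smul_iff, Matrix.toLin'_pow]

theorem sp_forall_iff (Φ : End F (n ⊕ n → F) → Prop) :
    (∀ x : Matrix.symplecticGroup n F,
      (∃ z : F, ((x ^ r : Matrix.symplecticGroup n F) : Matrix (n ⊕ n) (n ⊕ n) F) = z • 1) →
      (∀ z : F, (x : Matrix (n ⊕ n) (n ⊕ n) F) ≠ z • 1) →
      Φ (Matrix.toLin' (x : Matrix (n ⊕ n) (n ⊕ n) F))) ↔
    ∀ f, Inv (H54.spB n F) f → (∃ z : F, f ^ r = z • 1) → (∀ z : F, f ≠ z • 1) → Φ f := by
  constructor
  · intro H f hf h1 h2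
    obtain ⟨x, rfl⟩ := exists_sp_toLin'_eq hf
    exact H x (by simpa only [toLin'_pow_iff, SubmonoidClass.coe_pow] using h1)
      (by simpa only [Ne, toLin'_eq_smul_iff] using h2)
  · intro H x h1 h2
    exact H _ (inv_sp x) (by simpa only [toLin'_pow_iff, SubmonoidClass.coe_pow] using h1)
      (by simpa only [Ne, toLin'_eq_smul_iff] using h2)

theorem su_forall_iff [Fintype F] {q d : ℕ} (hF : Fintype.card F = q ^ 2)
    (Φ : End F (Fin d → F) → Prop) :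
    (∀ x : Matrix.SpecialLinearGroup (Fin d) F, x ∈ Cfsg.SU d F q →
      (∃ z : F, ((x ^ r : Matrix.SpecialLinearGroup (Fin d) F) : Matrix (Fin d) (Fin d) F) = z • 1) →
      (∀ z : F, (x : Matrix (Fin d) (Fin d) F) ≠ z • 1) →
      Φ (Matrix.toLin' (x : Matrix (Fin d) (Fin d) F))) ↔
    ∀ f, Inv (H59.uForm hF d) f → LinearMap.det f = 1 → (∃ z : F, f ^ r = z • 1) →
      (∀ z : F, f ≠ z • 1) → Φ f := by
  constructor
  · intro H f hf h0 h1 h2
    obtain ⟨A, rfl⟩ := Matrix.toLin'.surjective f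
    rw [LinearMap.det_toLin'] at h0
    exact H ⟨A, h0⟩ ((H59.mem_SU_iff_toGL _ _).2 ((mem_GU_iff_inv hF _).2 hf))
      (h1.imp fun z hz => (Matrix.SpecialLinearGroup.coe_pow _ _).trans (toLin'_pow_iff.1 hz))
      (by simpa only [Ne, toLin'_eq_smul_iff] using h2)
  · intro H x hx h1 h2
    have h3 := (mem_GU_iff_inv hF (Matrix.SpecialLinearGroup.toGL x)).1 hx
    exact H _ h3 (by rw [LinearMap.det_toLin', x.2])
      (by simpa only [toLin'_pow_iff, Matrix.SpecialLinearGroup.coe_pow] using h1)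
      (by simpa only [Ne, toLin'_eq_smul_iff] using h2)

variable {ι : Type} [Fintype ι] [DecidableEq ι] {Q : QuadraticForm F (ι → F)} {q : (ι → F) → F}

theorem omega_forall_iff (h : ⇑Q = q) (Φ : End F (ι → F) → Prop) :
    (∀ x : GL ι F, x ∈ Cfsg.Geo.omegaGL q → Φ (Matrix.toLin' (x : Matrix ι ι F))) ↔
    ∀ g : O Q, g ∈ commutator (O Q) → Φ g.lin := by
  constructor
  · intro H g hg
    obtain ⟨x, rfl⟩ := (H56.toO Q h).surjective g
    rw [H56.lin_toO]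
    exact H x ⟨x, (H56.mem_Omega_iff Q h).2 hg, rfl⟩
  · rintro H _ ⟨x, hx, rfl⟩
    have := H _ ((H56.mem_Omega_iff Q h).1 hx)
    rwa [H56.lin_toO] at this

theorem pomega_forall_iff (h : ⇑Q = q) (Φ : End F (ι → F) → Prop) :
    (∀ x : GL ι F, x ∈ Cfsg.Geo.omegaGL q →
      (∃ z : F, ((x ^ r : GL ι F) : Matrix ι ι F) = z • 1) → (∀ z : F, (x : Matrix ι ι F) ≠ z • 1) →
      Φ (Matrix.toLin' (x : Matrix ι ι F))) ↔
    ∀ g : O Q, g ∈ commutator (O Q) → (∃ z : F, g.lin ^ r = z • 1) → (∀ z : F, g.lin ≠ z • 1) →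
      Φ g.lin := by
  rw [← omega_forall_iff h fun f => (∃ z : F, f ^ r = z • 1) → (∀ z : F, f ≠ z • 1) → Φ f]
  simp only [toLin'_pow_iff, Ne, toLin'_eq_smul_iff, Units.val_pow_eq_pow_val]

theorem omega_order_iff (h : ⇑Q = q) (hr : r.Prime) (Φ : End F (ι → F) → Prop) :
    (∀ x : GL ι F, x ∈ Cfsg.Geo.omegaGL q → orderOf x = r → Φ (Matrix.toLin' (x : Matrix ι ι F))) ↔
    ∀ g : O Q, g ∈ commutator (O Q) → g.lin ^ r = 1 → g.lin ≠ 1 → Φ g.lin := by
  have := Fact.mk hr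
  rw [← omega_forall_iff h fun f => f ^ r = 1 → f ≠ 1 → Φ f]
  refine forall₂_congr fun x _ => ?_
  rw [orderOf_eq_prime_iff, and_imp, ← one_smul F (1 : End F (ι → F)), toLin'_pow_iff, Ne, Ne,
    toLin'_eq_smul_iff, one_smul, ← Units.val_pow_eq_pow_val, Units.val_eq_one, Units.val_eq_one]

end mat

variable {B : V →ₛₗ[σ] V →ₗ[F] F} {f : End F V} {Q : QuadraticForm F V}

theorem mul_eq_one_of_inv_smul [Nontrivial V] (hB : IsSF ε B) {z : F} (h : Inv B (z • 1)) :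
    z * σ z = 1 := by
  obtain ⟨x, hx⟩ := exists_ne (0 : V)
  obtain ⟨y, hy⟩ : ∃ y, B x y ≠ 0 := not_forall.1 fun h => hx (hB.nondeg x h)
  have := h x y
  simp only [LinearMap.smul_apply, End.one_apply, map_smulₛₗ, RingHom.id_apply, smul_eq_mul] at this
  exact mul_right_cancel₀ hy (by rw [mul_assoc, this, one_mul])

theorem Inv.smul' (hf : Inv B f) {z : F} (h : z * σ z = 1) : Inv B (z • f) := fun x y => by
  simp only [LinearMap.smul_apply, map_smulₛₗ, RingHom.id_apply, smul_eq_mul, hf x y]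
  rw [← mul_assoc, h, one_mul]

theorem Inv.neg' (hf : Inv B f) : Inv B (-f) := fun x y => by simp [hf x y]

theorem QInv.neg' (hf : QInv Q f) : QInv Q (-f) := fun x => by simp [hf x]

theorem st_neg_iff {W : Submodule F V} : St (-f) W ↔ St f W := by simp [St]

/-- For odd `r` one may pass from elements of order `r` modulo scalars to elements of order `r`. -/
theorem forall_odd_iff [Nontrivial V] {B : V →ₗ[F] V →ₗ[F] F} (hB : IsSF (σ := RingHom.id F) ε B)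
    (hr : Odd r) (I Φ : End F V → Prop) (hI : ∀ f, I f → Inv B f) (hI' : ∀ f, I f → I (-f))
    (hΦ : ∀ f, Φ (-f) → Φ f) :
    (∀ f, I f → (∃ z : F, f ^ r = z • 1) → (∀ z : F, f ≠ z • 1) → Φ f) ↔
      ∀ f, I f → f ^ r = 1 → f ≠ 1 → Φ f := by
  constructor
  · refine fun H f h1 h2 h3 => H f h1 ⟨1, by rw [h2, one_smul]⟩ fun z hz => h3 ?_
    rcases mul_self_eq_one_iff.1 (mul_eq_one_of_inv_smul hB (hz ▸ hI f h1)) with rfl | rfl
    · rw [hz, one_smul]
    · rw [hz, neg_one_smul, hr.neg_one_pow] at h2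
      rw [hz, neg_one_smul, h2]
  · rintro H f h1 ⟨z, h2⟩ h3
    rcases mul_self_eq_one_iff.1 (mul_eq_one_of_inv_smul hB (h2 ▸ (hI f h1).pow r)) with rfl | rfl
    · exact H f h1 (by rw [h2, one_smul]) fun h => h3 1 (by rw [h, one_smul])
    · exact hΦ f (H _ (hI' f h1) (by rw [hr.neg_pow, h2, neg_one_smul, neg_neg]) fun h => h3 (-1)
        (by rw [neg_one_smul, ← h, neg_neg]))

/-- For `r = 2` there are two kinds of elements. -/
theorem forall_two_iff [Nontrivial V] {B : V →ₗ[F] V →ₗ[F] F} (hB : IsSF (σ := RingHom.id F) ε B)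
    (h2 : (2 : F) ≠ 0) (I Φ : End F V → Prop) (hI : ∀ f, I f → Inv B f) :
    (∀ f, I f → (∃ z : F, f ^ 2 = z • 1) → (∀ z : F, f ≠ z • 1) → Φ f) ↔
      (∀ f, I f → f ^ 2 = 1 → f ≠ 1 → f ≠ -1 → Φ f) ∧ ∀ f, I f → f ^ 2 = -1 → Φ f := by
  constructor
  · refine fun H => ⟨fun f h1 h2 h3 h4 => H f h1 ⟨1, by rw [h2, one_smul]⟩ fun z hz => ?_,
      fun f h1 h3 => H f h1 ⟨-1, by rw [h3, neg_one_smul]⟩ fun z hz => ?_⟩
    · rcases mul_self_eq_one_iff.1 (mul_eq_one_of_inv_smul hB (hz ▸ hI f h1)) with rfl | rfl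
      · exact h3 (by rw [hz, one_smul])
      · exact h4 (by rw [hz, neg_one_smul])
    · have h4 : z * z = 1 := mul_eq_one_of_inv_smul hB (hz ▸ hI f h1)
      rw [hz, _root_.smul_pow, one_pow, sq, h4, one_smul, eq_neg_iff_add_eq_zero, ← two_smul F,
        smul_eq_zero] at h3
      exact h3.elim h2 one_ne_zero
  · rintro ⟨H, H'⟩ f h1 ⟨z, h2⟩ h3
    rcases mul_self_eq_one_iff.1 (mul_eq_one_of_inv_smul hB (h2 ▸ (hI f h1).pow 2)) with rfl | rfl
    · exact H f h1 (by rw [h2, one_smul]) (fun h => h3 1 (by rw [h, one_smul]))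
        fun h => h3 (-1) (by rw [h, neg_one_smul])
    · exact H' f h1 (by rw [h2, neg_one_smul])

variable [FiniteDimensional F V]

/-- `f` is induced by an element of `Ω(Q)`. -/
def InOm (Q : QuadraticForm F V) (f : End F V) : Prop := ∃ g ∈ commutator (O Q), g.lin = f

omit [FiniteDimensional F V] in
theorem InOm.qinv (h : InOm Q f) : QInv Q f := by
  obtain ⟨g, -, rfl⟩ := h
  exact g.map_Q

omit [FiniteDimensional F V] in
theorem forall_inOm_iff (Φ : End F V → Prop) :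
    (∀ g : O Q, g ∈ commutator (O Q) → Φ g.lin) ↔ ∀ f, InOm Q f → Φ f :=
  ⟨fun H _ ⟨g, hg, h⟩ => h ▸ H g hg, fun H g hg => H _ ⟨g, hg, rfl⟩⟩

theorem eq_one_of_odd_pow {G : Type*} [Group G] {x : G} (hr : Odd r) (h1 : x ^ r = 1)
    (h2 : x * x = 1) : x = 1 := by
  obtain ⟨k, rfl⟩ := hr
  rwa [pow_succ, pow_mul, sq, h2, one_pow, one_mul] at h1

theorem inOm_of_odd [Finite F] (hQ : Q.polarBilin.Nondegenerate) (hE : ¬ H56.IsExc Q)
    (hf : QInv Q f) (hr : Odd r) (h : f ^ r = 1) : InOm Q f := by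
  obtain ⟨g, rfl⟩ := hf.exists_lin_eq hQ
  have h1 : g ^ r = 1 := H56.O.ext fun x => by
    rw [← H56.O.lin_apply, lin_pow, h]
    rfl
  refine ⟨g, (H56.mem_commutator_iff hQ hE g).2 ⟨eq_one_of_odd_pow hr ?_ (Int.units_mul_self _),
    eq_one_of_odd_pow hr ?_ (H56.SqCl.mul_self _)⟩, rfl⟩
  all_goals rw [← map_pow, h1, map_one]

theorem omega_odd_iff [Finite F] (hQ : Q.polarBilin.Nondegenerate) (hE : ¬ H56.IsExc Q)
    (hr : Odd r) (Φ : End F V → Prop) :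
    (∀ g : O Q, g ∈ commutator (O Q) → g.lin ^ r = 1 → g.lin ≠ 1 → Φ g.lin) ↔
      ∀ f, QInv Q f → f ^ r = 1 → f ≠ 1 → Φ f := by
  rw [forall_inOm_iff fun f => f ^ r = 1 → f ≠ 1 → Φ f]
  exact ⟨fun H f h1 h2 => H f (inOm_of_odd hQ hE h1 hr h2) h2, fun H f h1 => H f h1.qinv⟩

theorem pomega_odd_iff [Finite F] [Nontrivial V] (hQ : Q.polarBilin.Nondegenerate)
    (hE : ¬ H56.IsExc Q) (hr : Odd r) (Φ : End F V → Prop) (hΦ : ∀ f, Φ (-f) → Φ f) :
    (∀ g : O Q, g ∈ commutator (O Q) → (∃ z : F, g.lin ^ r = z • 1) → (∀ z : F, g.lin ≠ z • 1) →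
      Φ g.lin) ↔ ∀ f, QInv Q f → f ^ r = 1 → f ≠ 1 → Φ f := by
  rw [forall_inOm_iff fun f => (∃ z : F, f ^ r = z • 1) → (∀ z : F, f ≠ z • 1) → Φ f]
  constructor
  · intro H f h1 h2 h3
    refine H f (inOm_of_odd hQ hE h1 hr h2) ⟨1, by rw [h2, one_smul]⟩ fun z hz => h3 ?_
    rcases mul_self_eq_one_iff.1 (mul_eq_one_of_inv_smul (isSF_polar hQ) (hz ▸ h1.inv)) with rfl | rfl
    · rw [hz, one_smul]
    · rw [hz, neg_one_smul, hr.neg_one_pow] at h2
      rw [hz, neg_one_smul, h2]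
  · exact fun H f h1 => (forall_odd_iff (isSF_polar hQ) hr (QInv Q) Φ (fun _ => QInv.inv)
      (fun _ => QInv.neg') hΦ).2 H f h1.qinv

end H58
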