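import Cfsg.Agent.H58.ElInv

/-!
Elements of prime order fixing totally isotropic or totally singular subspaces.
-/

open Polynomial Module

namespace H58

open H53
open H59 (perp mem_perp)
open H56 (O SqCl sqcl spinor)

section arith

variable {i m n t q r k : ℕ} {sd : Prop} [Decidable sd]

theorem arith_ti_sp (hi : 0 < i) (ht : sd → 0 < t) (hm : 2 * m ≤ n)
    (hD : ∃ N < 2 * m, (if sd then i else 2 * i) ∣ n - N) :
    (∀ h o N, o ≤ (if sd then t else 0) → 0 < 2 * h + o → (2 * h + o) * i + N = n → True →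
      ∃ b ≤ h, ∃ j, 2 * j ≤ N ∧ m = b * i + j) ↔
    (i ≤ m ∧ 2 * (m % i) ≤ n % (if sd then i else 2 * i) ∧ (¬ sd ∨ t + 2 * (m / i) ≤ n / i)) := by
  obtain ⟨N, h1, a, h2⟩ := hD
  have ha : 0 < a := Nat.pos_of_ne_zero fun h => by subst h; omega
  by_cases h : sd
  · simp only [if_pos h] at h2 ⊢
    have := arith_ti_self (fun _ => True) (by simp) (by simp) hi (ht h) hm
      ⟨a, N, ha, by rw [mul_comm]; omega, by simp, Or.inl h1⟩
    simp only [implies_true, true_and, and_true, not_true, false_and, and_false, false_or, or_false,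
      forall_const] at this
    simp only [forall_const, this, h, not_true, false_or]
    tauto
  · simp only [if_neg h] at h2 ⊢
    have := arith_ti_pair True hi hm (by simp)
      ⟨a, N, ha, by rw [mul_right_comm]; omega, by simp, Or.inl h1⟩
    simp only [implies_true, true_and, not_true, false_and, or_false, forall_const] at this
    simp only [forall_const, h, not_false_iff, true_or, and_true, ← this]
    exact ⟨fun H h N h3 h4 => H h 0 N le_rfl (by omega) h4, fun H h o N h3 h4 h5 => by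
      obtain rfl : o = 0 := by omega
      exact H h N (by omega) h5⟩

theorem arith_ti_o (ε : Prop) (hi : 0 < i) (ht : sd → 0 < t) (hm : 2 * m < n)
    (hD : ∃ a N, 0 < a ∧ a * (if sd then i else 2 * i) + N = n ∧ (N = 0 → (ε ↔ (sd → Even a))) ∧
      (N < 2 * m ∨ (N = 2 * m ∧ ¬ (ε ↔ (sd → Even a))))) :
    (∀ h o N, o ≤ (if sd then t else 0) → 0 < 2 * h + o → (2 * h + o) * i + N = n →
      (N = 0 → (ε ↔ Even o)) →
      ∃ b ≤ h, ∃ j, 2 * j ≤ N ∧ (2 * j = N → (ε ↔ Even o)) ∧ m = b * i + j) ↔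
    ((¬ sd ∧ i ≤ m ∧ ((ε ∧ 2 * (m % i) ≤ n % (2 * i)) ∨
      (¬ ε ∧ (n % (2 * i) = 0 ∨ 2 * (m % i) < n % (2 * i))))) ∨
    (sd ∧ i ≤ m ∧ t + 2 * (m / i) ≤ n / i ∧
      ((2 * (m % i) ≤ i ∧ n % i = 0 ∧ ¬ (ε ↔ Even (n / i)) ∧ t + 2 * (m / i) < n / i) ∨
        (2 * (m % i) ≤ n % i ∧ (ε ↔ Even (n / i))) ∨
        (2 * (m % i) < n % i ∧ ¬ (ε ↔ Even (n / i)))))) := by
  by_cases h : sd
  · simp only [h, if_true, forall_const, not_true, false_and, false_or, true_and] at hD ⊢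
    exact arith_ti_self (fun a => ε ↔ Even a) (by simp [Nat.even_add])
      (fun a => by rw [Nat.even_add_one]; tauto) hi (ht h) hm.le hD
  · simp only [h, if_false, false_imp_iff, iff_true, not_false_iff, false_and, or_false,
      true_and] at hD ⊢
    rw [← arith_ti_pair ε hi hm.le (by omega) (by
      obtain ⟨a, N, h1, h2, h3⟩ := hD
      exact ⟨a, N, h1, by rw [← h2]; ring, h3⟩)]
    exact ⟨fun H h N h3 h4 h5 => by simpa using H h 0 N le_rfl (by omega) h4 (by simpa using h5),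
      fun H h o N h3 h4 h5 h6 => by
        obtain rfl : o = 0 := by omega
        simpa using H h N (by omega) h5 (by simpa using h6)⟩

theorem blk_of_dvd_sub (hq : 0 < q) (hi : i = orderOf (q : ZMod r)) (hk : 0 < k)
    (h : r ∣ q ^ k - 1) :
    ∃ a, 0 < a ∧ a * (if Even i then i else 2 * i) = 2 * k ∧ (Even i → Even a) := by
  obtain ⟨u, rfl⟩ := hi ▸ (orderOf_zmod_dvd_iff hq k).2 h
  have : 0 < u := Nat.pos_of_mul_pos_left hk
  split_ifs with h1
  · exact ⟨2 * u, by omega, by ring, fun _ => by simp⟩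
  · exact ⟨u, this, by ring, fun h => (h1 h).elim⟩

theorem blk_of_dvd_add (hr : r.Prime) (h2 : r ≠ 2) (hi : i = orderOf (q : ZMod r)) (h0 : 0 < i)
    (h : r ∣ q ^ k + 1) :
    ∃ a, 0 < a ∧ a * (if Even i then i else 2 * i) = 2 * k ∧ ¬ (Even i → Even a) := by
  obtain ⟨l, c, h1, rfl⟩ := (prime_dvd_pow_add_one_iff hr h2 (hi ▸ h0) k).1 h
  have : Even i := ⟨l, by omega⟩
  exact ⟨2 * c + 1, by omega, by rw [if_pos this, hi, h1]; ring, by simp [this]⟩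

theorem blk_dvd_of_even (hq : 0 < q) (hi : i = orderOf (q : ZMod r)) (hk : Even k)
    (h : r ∣ q ^ k - 1) : (if Even i then i else 2 * i) ∣ k := by
  have h1 := hi ▸ (orderOf_zmod_dvd_iff hq k).2 h
  split_ifs with h2
  · exact h1
  · exact (Nat.coprime_two_left.2 (Nat.not_even_iff_odd.1 h2)).mul_dvd_of_dvd_of_dvd hk.two_dvd h1

theorem blk_of_dvd_numSing {ε : Prop} (hq : 0 < q) (hr : r.Prime) (h2 : r ≠ 2)
    (hi : i = orderOf (q : ZMod r)) (h0 : 0 < i) (hk : 2 ≤ k) (h : r ∣ numSing q (2 * k) ε) :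
    ∃ a, 0 < a ∧ ((a * (if Even i then i else 2 * i) = 2 * k ∧ (ε ↔ (Even i → Even a))) ∨
      (a * (if Even i then i else 2 * i) + 2 = 2 * k ∧ ¬ (ε ↔ (Even i → Even a)))) := by
  rw [numSing, if_neg (by omega), Nat.mul_div_cancel_left _ two_pos] at h
  split_ifs at h with he
  · rcases (Nat.Prime.dvd_mul hr).1 h with h | h
    · obtain ⟨a, h3, h4, h5⟩ := blk_of_dvd_sub hq hi (by omega) h
      exact ⟨a, h3, Or.inl ⟨h4, iff_of_true he h5⟩⟩
    · obtain ⟨a, h3, h4, h5⟩ := blk_of_dvd_add hr h2 hi h0 h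
      exact ⟨a, h3, Or.inr ⟨by omega, fun h => h5 (h.1 he)⟩⟩
  · rcases (Nat.Prime.dvd_mul hr).1 h with h | h
    · obtain ⟨a, h3, h4, h5⟩ := blk_of_dvd_add hr h2 hi h0 h
      exact ⟨a, h3, Or.inl ⟨h4, iff_of_false he h5⟩⟩
    · obtain ⟨a, h3, h4, h5⟩ := blk_of_dvd_sub hq hi (by omega) h
      exact ⟨a, h3, Or.inr ⟨by omega, fun h => he (h.2 h5)⟩⟩

theorem not_dvd_numSing {p : ℕ} {ε : Prop} (hp : p.Prime) (hq : p ∣ q) (h0 : 0 < q) (hk : 3 ≤ k) :
    ¬ p ∣ numSing q k ε := by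
  rw [numSing]
  split_ifs
  · exact not_dvd_pow_sub_one hp hq h0 (by omega)
  all_goals
    rw [hp.dvd_mul, not_or]
  exacts [⟨not_dvd_pow_sub_one hp hq h0 (by omega), not_dvd_pow_add_one hp hq (by omega)⟩,
    ⟨not_dvd_pow_add_one hp hq (by omega), not_dvd_pow_sub_one hp hq h0 (by omega)⟩]

end arith

variable {F : Type*} [Field F] [Finite F]
variable {V : Type*} [AddCommGroup V] [Module F V] [FiniteDimensional F V]
variable {B : V →ₗ[F] V →ₗ[F] F} {f : End F V} {Q : QuadraticForm F V} {m r i c : ℕ}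
  {s : Multiset F[X]}

theorem card_cycF_eq_div (hr : r.Prime) (h0 : (r : F) ≠ 0) :
    (cycF F r).card = (r - 1) / orderOf (Nat.card F : ZMod r) := by
  rw [← Nat.totient_prime hr, ← card_cycF_mul h0, Nat.mul_div_cancel _ (orderOf_card_pos h0)]

omit [Finite F] in
theorem card_cycF_pos (h0 : (r : F) ≠ 0) : 0 < (cycF F r).card := (cycF_nonempty h0).card_pos

omit [Finite F] in
theorem cyc_facts (h2 : 2 < r) (h0 : (r : F) ≠ 0) (hs : ∀ P ∈ s, P ∈ cycF F r) :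
    (∀ P ∈ s, P.Monic ∧ Irreducible P) ∧ (∀ P ∈ s, IsPP P) ∧ (∀ P ∈ s, P.coeff 0 ≠ 0) ∧
      ∀ P ∈ s, IsCoprime P (X ^ 2 - 1) :=
  ⟨fun P hP => ⟨((mem_cycF h0).1 (hs P hP)).1, ((mem_cycF h0).1 (hs P hP)).2.1⟩,
    fun P hP => isPP_of_mem_cycF h0 (hs P hP),
    fun P hP => coeff_zero_ne_zero_of_mem_cycF h0 (hs P hP),
    fun P hP => isCoprime_of_mem_cycF h2 h0 (hs P hP)⟩

theorem exists_inv_alt_cyc (hB : IsSF (σ := RingHom.id F) (-1) B) (ha : ∀ x, B x x = 0)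
    (h2 : 2 < r) (h0 : (r : F) ≠ 0) (hs : ∀ P ∈ s, P ∈ cycF F r)
    (hπ : s.map (pstar (RingHom.id F)) = s) {N : ℕ}
    (hd : s.card * orderOf (Nat.card F : ZMod r) + N = finrank F V) :
    ∃ f, Inv B f ∧ ed f = s + Multiset.replicate N (X - 1) := by
  obtain ⟨-, h3, h4, h5⟩ := cyc_facts h2 h0 hs
  rw [← dg_cyc h0 hs] at hd
  exact exists_inv_alt hB ha ((real_alt_add_replicate_iff h3 h4 h5 (by
    rw [← sum_natDegree_add_replicate, ← dgs, hd]
    exact H54.even_finrank_of_isAlt hB.nondegenerate ha)).2 hπ) hd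

theorem exists_qinv_odd_cyc (hQ : Q.polarBilin.Nondegenerate) (ho : Odd (finrank F V))
    (h2 : 2 < r) (h0 : (r : F) ≠ 0) (hs : ∀ P ∈ s, P ∈ cycF F r)
    (hπ : s.map (pstar (RingHom.id F)) = s) {N : ℕ}
    (hd : s.card * orderOf (Nat.card F : ZMod r) + N = finrank F V) :
    ∃ f, QInv Q f ∧ ed f = s + Multiset.replicate N (X - 1) := by
  obtain ⟨-, h3, h4, h5⟩ := cyc_facts h2 h0 hs
  rw [← dg_cyc h0 hs] at hd
  exact exists_qinv_odd hQ ho
    ((real_symm_add_replicate_iff (two_ne_zero_of_odd hQ ho) h3 h4 h5).2 hπ) hd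

open Classical in
theorem exists_qinv_even_cyc_iff (hQ : Q.polarBilin.Nondegenerate) (he : Even (finrank F V))
    (h2 : 2 < r) (h0 : (r : F) ≠ 0) (hs : ∀ P ∈ s, P ∈ cycF F r)
    (hπ : s.map (pstar (RingHom.id F)) = s) {N : ℕ}
    (hd : s.card * orderOf (Nat.card F : ZMod r) + N = finrank F V) :
    (N = 0 → (IsPlus Q ↔ Even (nfix (pstar (RingHom.id F)) s))) ↔
      ∃ f, QInv Q f ∧ ed f = s + Multiset.replicate N (X - 1) := by
  obtain ⟨h3, -, h4, h5⟩ := cyc_facts h2 h0 hs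
  rw [← dg_cyc h0 hs] at hd
  have := realQ_add_replicate_iff h3 h4 h5 (N := N) (by
    rwa [← sum_natDegree_add_replicate, ← dgs, hd]) (IsPlus Q)
  exact ⟨fun h => exists_qinv_even hQ he (this.2 ⟨hπ, h⟩) hd,
    fun ⟨f, h6, h7⟩ => (this.1 (h7 ▸ realQ_ed hQ h6)).2⟩

theorem sp_ti_odd (hB : IsSF (σ := RingHom.id F) (-1) B) (ha : ∀ x, B x x = 0) (hr : r.Prime)
    (h2 : r ≠ 2) (h0 : (r : F) ≠ 0) (hm : 2 * m ≤ finrank F V)
    (hD : ∃ j < m, r ∣ Nat.card F ^ (finrank F V - 2 * j) - 1)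
    (hi : i = orderOf (Nat.card F : ZMod r)) (hc : c = if Even i then i else 2 * i) :
    (∀ f, Inv B f → f ^ r = 1 → f ≠ 1 →
      ∃ W : Submodule F V, (finrank F W = m ∧ TI B W) ∧ St f W) ↔
    (i ≤ m ∧ 2 * (m % i) ≤ finrank F V % c ∧
      (Odd i ∨ (r - 1) / i + 2 * (m / i) ≤ finrank F V / i)) := by
  classical
  have h3 : 2 < r := lt_of_le_of_ne hr.two_le h2.symm
  rw [forall_shape_iff hr h0 hB (dich_id hr h2 h0) _ _ (fun _ => id) (fun _ _ _ => True) _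
    (fun s N h o h4 h5 _ h6 => iff_of_true trivial (exists_inv_alt_cyc hB ha h3 h0 h4 h5 h6))
    fun s N h o f h4 h5 h6 h7 h8 => ti_shape_iff hB h6 h7 h8
      (fun P hP => isCoprime_sub_one_of_mem_cycF hr.ne_one h0 (h4 P hP))
      (Or.inr (cyc_facts h3 h0 h4).2.2.2) (fun P hP => natDegree_of_mem_cycF h0 (h4 P hP)) h5
      (fun E hE j => exists_ti_le_alt hB ha hE) m, ← Nat.not_even_iff_odd, hc, hi,
    ← card_cycF_eq_div hr h0]
  obtain ⟨j, h4, h5⟩ := hD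
  convert arith_ti_sp (orderOf_card_pos h0) (fun _ => card_cycF_pos h0) hm ⟨2 * j, by omega,
    blk_dvd_of_even Nat.card_pos rfl ((Nat.even_sub (by omega)).2 (by
      simpa using H54.even_finrank_of_isAlt hB.nondegenerate ha)) h5⟩

theorem o_ts_odd_dim (hQ : Q.polarBilin.Nondegenerate) (ho : Odd (finrank F V)) (hr : r.Prime)
    (h2 : r ≠ 2) (h0 : (r : F) ≠ 0) (hm : 2 * m ≤ finrank F V)
    (hD : ∃ j < m, r ∣ numSing (Nat.card F) (finrank F V - 2 * j) (IsPlus Q))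
    (hi : i = orderOf (Nat.card F : ZMod r)) (hc : c = if Even i then i else 2 * i) :
    (∀ f, QInv Q f → f ^ r = 1 → f ≠ 1 →
      ∃ W : Submodule F V, (finrank F W = m ∧ TS Q W) ∧ St f W) ↔
    (i ≤ m ∧ 2 * (m % i) ≤ finrank F V % c ∧
      (Odd i ∨ (r - 1) / i + 2 * (m / i) ≤ finrank F V / i)) := by
  classical
  have h3 : 2 < r := lt_of_le_of_ne hr.two_le h2.symm
  obtain ⟨d, hd⟩ := id ho
  rw [forall_shape_iff hr h0 (isSF_polar hQ) (dich_id hr h2 h0) _ _ (fun _ => QInv.inv)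
    (fun _ _ _ => True) (fun h _ N => ∃ b ≤ h, ∃ j, 2 * j ≤ N ∧ m = b * orderOf (Nat.card F : ZMod r) + j)
    (fun s N h o h4 h5 _ h6 => iff_of_true trivial (exists_qinv_odd_cyc hQ ho h3 h0 h4 h5 h6))
    fun s N h o f h4 h5 h6 h7 h8 => ?_, ← Nat.not_even_iff_odd, hc, hi, ← card_cycF_eq_div hr h0]
  · obtain ⟨j, h4, h5⟩ := hD
    rw [numSing, if_pos (by omega)] at h5
    convert arith_ti_sp (orderOf_card_pos h0) (fun _ => card_cycF_pos h0) hm ⟨2 * j + 1, by omega,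
      blk_dvd_of_even Nat.card_pos rfl ⟨d - j, by omega⟩ h5⟩
  · obtain ⟨-, h9, h10, h11⟩ := cyc_facts h3 h0 h4
    obtain ⟨u, hu⟩ := even_sum_natDegree_of_rigid h9 h10
      (map_pstar_add_replicate_iff.1 (h8 ▸ h6.inv.map_pstar_ed (isSF_polar hQ))) h11
    have := dg_ed f
    rw [h8, dgs, sum_natDegree_add_replicate] at this
    rw [ts_shape_iff hQ h6 h7 h8 h11 (fun P hP => natDegree_of_mem_cycF h0 (h4 P hP)) h5]
    simp only [show ∀ j, ¬ 2 * j = N from fun j => by omega, false_imp_iff, true_and]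

theorem o_ts_even_dim (hQ : Q.polarBilin.Nondegenerate) {d : ℕ} (hd : finrank F V = 2 * d)
    (hr : r.Prime) (h2 : r ≠ 2) (h0 : (r : F) ≠ 0) (hm : m < d)
    (hD : ∃ j < m, r ∣ numSing (Nat.card F) (finrank F V - 2 * j) (IsPlus Q))
    (hi : i = orderOf (Nat.card F : ZMod r)) :
    (∀ f, QInv Q f → f ^ r = 1 → f ≠ 1 →
      ∃ W : Submodule F V, (finrank F W = m ∧ TS Q W) ∧ St f W) ↔
    ((¬ Even i ∧ i ≤ m ∧ ((IsPlus Q ∧ 2 * (m % i) ≤ 2 * d % (2 * i)) ∨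
      (¬ IsPlus Q ∧ (2 * d % (2 * i) = 0 ∨ 2 * (m % i) < 2 * d % (2 * i))))) ∨
    (Even i ∧ i ≤ m ∧ (r - 1) / i + 2 * (m / i) ≤ 2 * d / i ∧
      ((2 * (m % i) ≤ i ∧ 2 * d % i = 0 ∧ ¬ (IsPlus Q ↔ Even (2 * d / i)) ∧
          (r - 1) / i + 2 * (m / i) < 2 * d / i) ∨
        (2 * (m % i) ≤ 2 * d % i ∧ (IsPlus Q ↔ Even (2 * d / i))) ∨
        (2 * (m % i) < 2 * d % i ∧ ¬ (IsPlus Q ↔ Even (2 * d / i)))))) := by
  classical
  have h3 : 2 < r := lt_of_le_of_ne hr.two_le h2.symm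
  rw [forall_shape_iff hr h0 (isSF_polar hQ) (dich_id hr h2 h0) _ _ (fun _ => QInv.inv)
    (fun _ o N => N = 0 → (IsPlus Q ↔ Even o)) _
    (fun s N h o h4 h5 h6 h7 => by
      rw [← h6.2.1]
      exact exists_qinv_even_cyc_iff hQ (hd ▸ even_two_mul d) h3 h0 h4 h5 h7)
    fun s N h o f h4 h5 h6 h7 h8 => ts_shape_iff hQ h6 h7 h8 (cyc_facts h3 h0 h4).2.2.2
      (fun P hP => natDegree_of_mem_cycF h0 (h4 P hP)) h5 m, hi, ← card_cycF_eq_div hr h0, hd]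
  obtain ⟨j, h4, h5⟩ := hD
  rw [hd, ← mul_tsub] at h5
  obtain ⟨a, h6, h7⟩ := blk_of_dvd_numSing Nat.card_pos hr h2 rfl (orderOf_card_pos h0)
    (by omega) h5
  convert arith_ti_o (m := m) (n := 2 * d) (IsPlus Q) (orderOf_card_pos h0)
    (fun _ => card_cycF_pos h0) (by omega) ?_
  rcases h7 with ⟨h7, h8⟩ | ⟨h7, h8⟩
  · exact ⟨a, 2 * j, h6, by split_ifs at h7 ⊢ <;> omega, fun _ => h8, Or.inl (by omega)⟩
  · exact ⟨a, 2 * j + 2, h6, by split_ifs at h7 ⊢ <;> omega, by omega,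
      (by omega : 2 * j + 2 < 2 * m ∨ 2 * j + 2 = 2 * m).imp_right fun h => ⟨h, h8⟩⟩

end H58
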