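import Cfsg.Agent.H58.ElTI

/-!
Involutions of classical groups in odd characteristic acting on subspaces.
-/

open Polynomial Module

namespace H58

open H53
open H59 (perp mem_perp)
open H56 (O SqCl sqcl spinor)

variable {F : Type*} [Field F] {σ : F →+* F} {ε : F}
variable {V : Type*} [AddCommGroup V] [Module F V] [FiniteDimensional F V]
variable {f : End F V} {Q : QuadraticForm F V} {m d : ℕ}

section invol

variable {B : V →ₛₗ[σ] V →ₗ[F] F}

theorem st_iff_of_invol (hB : IsSF ε B) (h2 : (2 : F) ≠ 0) {A : Submodule F V} (hA : ND B A)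
    (h1 : ∀ v ∈ A, f v = -v) (h3 : ∀ v ∈ perp B A, f v = v) (Φ : Submodule F V → Prop) :
    (∃ W, Φ W ∧ St f W) ↔ ∃ W₁ ≤ A, ∃ W₂ ≤ perp B A, Φ (W₁ ⊔ W₂) := by
  have h4 : ∀ W ≤ A, St f W := fun W h v hv => by rw [h1 v (h hv)]; exact neg_mem hv
  have h5 : ∀ W ≤ perp B A, St f W := fun W h v hv => by rw [h3 v (h hv)]; exact hv
  rw [exists_st_iff_split (h4 A le_rfl) (h5 _ le_rfl) fun W hW => le_antisymm (fun w hw => ?_)
    (sup_le inf_le_left inf_le_left)]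
  · exact ⟨fun ⟨W₁, a, W₂, b, _, _, d⟩ => ⟨W₁, a, W₂, b, d⟩, fun ⟨W₁, a, W₂, b, d⟩ =>
      ⟨W₁, a, W₂, b, h4 _ a, h5 _ b, d⟩⟩
  · obtain ⟨a, ha, b, hb, rfl⟩ :=
      Submodule.mem_sup.1 ((hB.isCompl_perp hA).sup_eq_top.ge (x := w) trivial)
    have h6 : b ∈ W := by
      have := W.add_mem hw (hW _ hw)
      rwa [map_add, h1 a ha, h3 b hb, show a + b + (-a + b) = (2 : F) • b by
        rw [two_smul]; abel, W.smul_mem_iff h2] at this
    exact Submodule.add_mem_sup ⟨(W.add_mem_iff_left h6).1 hw, ha⟩ ⟨h6, hb⟩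

theorem forall_invol_iff (hB : IsSF ε B) (h2 : (2 : F) ≠ 0) (I : End F V → Prop)
    (R Φ : Submodule F V → Prop) (hI : ∀ f, I f → Inv B f)
    (hR : ∀ f A, Inv B f → ND B A → (∀ v ∈ A, f v = -v) → (∀ v ∈ perp B A, f v = v) →
      (I f ↔ R A)) :
    (∀ f, I f → f ^ 2 = 1 → f ≠ 1 → f ≠ -1 → ∃ W, Φ W ∧ St f W) ↔
      ∀ A, ND B A → R A → 0 < finrank F A → finrank F A < finrank F V →
        ∃ W₁ ≤ A, ∃ W₂ ≤ perp B A, Φ (W₁ ⊔ W₂) := by
  constructor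
  · intro H A hA h1 h3 h4
    obtain ⟨f, h5, h6, h7, h8⟩ := exists_invol_of_nd hB hA
    obtain ⟨h9, h10⟩ := ne_one_iff_of_invol hB h2 hA h7 h8
    exact (st_iff_of_invol hB h2 hA h7 h8 Φ).1
      (H f ((hR f A h5 hA h7 h8).2 h1) h6 (h9.2 h3) (h10.2 h4))
  · intro H f h1 h3 h4 h5
    obtain ⟨A, hA, h7, h8, h6⟩ := exists_invol_split hB h2 (hI f h1) h3
    obtain ⟨h9, h10⟩ := ne_one_iff_of_invol hB h2 hA h7 h8
    exact (h6 Φ).2 (H A hA ((hR f A (hI f h1) hA h7 h8).1 h1) (h9.1 h4) (h10.1 h5))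

theorem inOm_invol_iff [Finite F] (h2 : (2 : F) ≠ 0) (hQ : Q.polarBilin.Nondegenerate)
    (Φ : Submodule F V → Prop) :
    (∀ f, InOm Q f → f ^ 2 = 1 → f ≠ 1 → f ≠ -1 → ∃ W, Φ W ∧ St f W) ↔
      ∀ A, ND Q.polarBilin A → Even (finrank F A) ∧ disc (Q.restrict A) = 1 → 0 < finrank F A →
        finrank F A < finrank F V → ∃ W₁ ≤ A, ∃ W₂ ≤ perp Q.polarBilin A, Φ (W₁ ⊔ W₂) :=
  forall_invol_iff (isSF_polar hQ) h2 _ _ Φ (fun _ h => h.qinv.inv) fun _ _ h hA h1 h3 =>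
    inOm_iff_of_invol h2 hQ (qinv_of_inv_of_two_ne h2 h) hA h1 h3

theorem InOm.ne_neg_one [Finite F] (hQ : Q.polarBilin.Nondegenerate)
    (ho : Odd (finrank F V)) (h : InOm Q f) : f ≠ -1 := by
  rintro rfl
  obtain ⟨g, h1, h3⟩ := h
  refine H56.negOne_notMem_commutator_of_odd hQ (two_ne_zero_of_odd hQ ho) ho ?_
  rwa [← H56.O.ext (g := g) (h := H56.O.negOne Q) fun x => LinearMap.congr_fun h3 x]

theorem exists_ti_sup (hB : IsSF ε B) {A : Submodule F V} (hA : ND B A)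
    (hE : ∀ E : Submodule F V, ND B E → ∀ j, 2 * j ≤ finrank F E →
      ∃ U ≤ E, finrank F U = j ∧ TI B U) {j k : ℕ} (hj : 2 * j ≤ finrank F A)
    (hk : 2 * k ≤ finrank F (perp B A)) :
    ∃ W₁ ≤ A, ∃ W₂ ≤ perp B A, finrank F ↥(W₁ ⊔ W₂) = j + k ∧ TI B (W₁ ⊔ W₂) := by
  obtain ⟨U, h1, rfl, h3⟩ := hE A hA j hj
  obtain ⟨W, h4, rfl, h5⟩ := hE _ (hB.disjoint_perp hA) k hk
  exact ⟨U, h1, W, h4, finrank_sup_of_le hA h1 h4, h3.sup hB h5 (le_perp_of_le h1 h4)⟩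

theorem exists_ts_sup_iff [Finite F] (hQ : Q.polarBilin.Nondegenerate) {A : Submodule F V}
    (hA : ND Q.polarBilin A) :
    (∃ W₁ ≤ A, ∃ W₂ ≤ perp Q.polarBilin A, finrank F ↥(W₁ ⊔ W₂) = m ∧ TS Q (W₁ ⊔ W₂)) ↔
      ∃ j k, m = j + k ∧ (2 * j ≤ finrank F A ∧ (2 * j = finrank F A → Pl Q A)) ∧
        2 * k ≤ finrank F (perp Q.polarBilin A) ∧
          (2 * k = finrank F (perp Q.polarBilin A) → Pl Q (perp Q.polarBilin A)) := by
  simp only [← exists_ts_le_iff hQ hA, ← exists_ts_le_iff hQ ((isSF_polar hQ).disjoint_perp hA)]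
  exact ⟨fun ⟨U, h1, W, h3, h4, h5⟩ => ⟨_, _, by rw [← h4, finrank_sup_of_le hA h1 h3],
    ⟨U, h1, rfl, fun w hw => h5 w (Submodule.mem_sup_left hw)⟩,
    W, h3, rfl, fun w hw => h5 w (Submodule.mem_sup_right hw)⟩,
    fun ⟨_, _, h, ⟨U, h1, h2, h3⟩, W, h4, h5, h6⟩ => ⟨U, h1, W, h4, by
      rw [finrank_sup_of_le hA h1 h4, h, h2, h5], h3.sup h6 (le_perp_of_le h1 h4)⟩⟩

theorem pl_iff_of_disc_one [Finite F] (h2 : (2 : F) ≠ 0) (hQ : Q.polarBilin.Nondegenerate)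
    {A : Submodule F V} (hA : ND Q.polarBilin A) {a : ℕ} (ha : finrank F A = 2 * a)
    (h : disc (Q.restrict A) = 1) : Pl Q A ↔ Nat.card F % 4 = 1 ∨ Even a := by
  rw [Pl, isPlus_iff_disc h2 (nondeg_restrict hQ hA) ha, h, eq_comm, sqcl_neg_one_pow h2]

end invol

section four

variable [Finite F] {B : V →ₗ[F] V →ₗ[F] F}

theorem exists_ti_iff_of_sq_eq_neg (h2 : (2 : F) ≠ 0) (hB : IsSF (σ := RingHom.id F) ε B)
    (hf : Inv B f) (h : f ^ 2 = -1) (hm : 2 * m ≤ finrank F V) :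
    (∃ W : Submodule F V, (finrank F W = m ∧ TI B W) ∧ St f W) ↔ Nat.card F % 4 = 1 ∨ Even m := by
  classical
  have hs := (sq_eq_neg_iff_ed h2).1 h
  obtain ⟨k, o, ho, hS⟩ := (dich_four h2).exists_shp hs (hf.map_pstar_ed hB)
  have h3 := fun P hP => natDegree_cycF_four h2 (hs P hP)
  have h4 := dg_ed f
  rw [dg_of_const h3, hS.1] at h4
  have h5 := (cyc_facts (r := 4) (by norm_num) (four_ne_zero' h2) hs).2.2.2
  rw [← edOn_top] at h3 h5 hS
  have := exists_ti_rigid_iff hB hf (ss_of_sq_eq_neg h2 h) (st_top f) (nd_top hB) (Or.inr h5) h3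
    hS m
  simp only [le_top, true_and] at this
  rw [show (∃ W : Submodule F V, (finrank F W = m ∧ TI B W) ∧ St f W) ↔ _ from
    Iff.trans (exists_congr fun W => by tauto) this]
  rcases card_mod_four h2 with h6 | h6
  · simp only [h6, OfNat.one_ne_ofNat, if_false, true_or, iff_true] at ho h4 ⊢
    exact ⟨m, by omega, by omega⟩
  · simp only [h6, if_true, card_cycF_four h2 h6, OfNat.ofNat_ne_one, false_or] at ho h4 ⊢
    exact ⟨fun ⟨b, _, h⟩ => ⟨b, by omega⟩, fun ⟨b, h⟩ => ⟨b, by omega, by omega⟩⟩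

theorem exists_ts_iff_of_sq_eq_neg (h2 : (2 : F) ≠ 0) (hQ : Q.polarBilin.Nondegenerate)
    (hf : QInv Q f) (h : f ^ 2 = -1) (hm : 2 * m ≤ finrank F V) :
    (∃ W : Submodule F V, (finrank F W = m ∧ TS Q W) ∧ St f W) ↔ Nat.card F % 4 = 1 ∨ Even m := by
  rw [← exists_ti_iff_of_sq_eq_neg h2 (isSF_polar hQ) hf.inv h hm]
  refine exists_congr fun W => and_congr_left fun hW => and_congr_right fun _ =>
    ⟨TS.ti, ts_of_ti hf hW fun v _ hv => ?_⟩
  have := LinearMap.congr_fun h v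
  rwa [sq, End.mul_apply, hv, hv, LinearMap.neg_apply, End.one_apply, eq_neg_iff_add_eq_zero,
    ← two_smul F, smul_eq_zero, or_iff_right h2] at this

theorem exists_sq_eq_neg_alt (h2 : (2 : F) ≠ 0) (hB : IsSF (σ := RingHom.id F) (-1) B)
    (ha : ∀ x, B x x = 0) : ∃ f, Inv B f ∧ f ^ 2 = -1 := by
  classical
  obtain ⟨d, hd⟩ := H54.even_finrank_of_isAlt hB.nondegenerate ha
  obtain ⟨s, h1, h3, h4⟩ := (dich_four h2).blk_exists d
  obtain ⟨f, h5, h6⟩ := exists_inv_alt_cyc hB ha (r := 4) (by norm_num) (four_ne_zero' h2) h1 h3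
    (N := 0) (by rw [h4, orderOf_card_four h2]; split_ifs <;> omega)
  exact ⟨f, h5, (sq_eq_neg_iff_ed h2).2 (by simpa [h6] using h1)⟩

theorem exists_sq_eq_neg_iff (h2 : (2 : F) ≠ 0) (hQ : Q.polarBilin.Nondegenerate)
    (hd : finrank F V = 2 * d) :
    (∃ f, QInv Q f ∧ f ^ 2 = -1) ↔ (IsPlus Q ↔ (Nat.card F % 4 = 3 → Even d)) := by
  classical
  have key : ∀ s : Multiset F[X], (∀ P ∈ s, P ∈ cycF F 4) → s.map (pstar (RingHom.id F)) = s →
      dgs s = 2 * d → ((IsPlus Q ↔ (Nat.card F % 4 = 3 → Even d)) ↔ ∃ f, QInv Q f ∧ ed f = s) := by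
    intro s h1 h3 h4
    rw [dg_of_const fun P hP => natDegree_cycF_four h2 (h1 P hP)] at h4
    have := exists_qinv_even_cyc_iff hQ (hd ▸ even_two_mul d) (r := 4) (by norm_num)
      (four_ne_zero' h2) h1 h3 (N := 0) (by rw [orderOf_card_four h2, h4, hd, add_zero])
    rw [Multiset.replicate_zero, add_zero, (dich_four h2).nfix_eq h1] at this
    rw [← this]
    split_ifs at h4 ⊢ with h5
    · simp [h5, show s.card = d by omega]
    · simp [h5]
  constructor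
  · rintro ⟨f, h1, h3⟩
    exact (key _ ((sq_eq_neg_iff_ed h2).1 h3) (h1.inv.map_pstar_ed (isSF_polar hQ))
      (by rw [dg_ed, hd])).2 ⟨f, h1, rfl⟩
  · intro h
    obtain ⟨s, h1, h3, h4⟩ := (dich_four h2).blk_exists d
    obtain ⟨f, h5, h6⟩ := (key s h1 h3 (by
      rw [dg_of_const fun P hP => natDegree_cycF_four h2 (h1 P hP), h4]
      split_ifs <;> omega)).1 h
    exact ⟨f, h5, (sq_eq_neg_iff_ed h2).2 (h6 ▸ h1)⟩

theorem isSquare_two_iff_card (h2 : (2 : F) ≠ 0) :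
    IsSquare (2 : F) ↔ Nat.card F % 8 = 1 ∨ Nat.card F % 8 = 7 := by
  have := Fintype.ofFinite F
  have := card_mod_four h2
  rw [FiniteField.isSquare_two_iff, Nat.card_eq_fintype_card] at *
  omega

theorem exists_inOm_sq_eq_neg_iff (h2 : (2 : F) ≠ 0) (hQ : Q.polarBilin.Nondegenerate)
    (hd : finrank F V = 2 * d) :
    (∃ f, InOm Q f ∧ f ^ 2 = -1) ↔ (IsPlus Q ↔ (Nat.card F % 4 = 3 → Even d)) ∧
      (Even d ∨ Nat.card F % 8 = 1 ∨ Nat.card F % 8 = 7) := by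
  rw [← exists_sq_eq_neg_iff h2 hQ hd, ← isSquare_two_iff_card h2]
  exact ⟨fun ⟨f, h1, h3⟩ => ⟨⟨f, h1.qinv, h3⟩, (inOm_iff_of_sq_eq_neg h2 hQ h1.qinv h3 hd).1 h1⟩,
    fun ⟨⟨f, h1, h3⟩, h⟩ => ⟨f, (inOm_iff_of_sq_eq_neg h2 hQ h1 h3 hd).2 h, h3⟩⟩

theorem forall_iff_of_iff {α : Type*} {I J Φ : α → Prop} {P : Prop}
    (h : ∀ x, I x → J x → (Φ x ↔ P)) : (∀ x, I x → J x → Φ x) ↔ ((∃ x, I x ∧ J x) → P) :=
  ⟨fun H ⟨x, h1, h2⟩ => (h x h1 h2).1 (H x h1 h2), fun H x h1 h2 => (h x h1 h2).2 (H ⟨x, h1, h2⟩)⟩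

theorem sp_ti_two [Nontrivial V] (hB : IsSF (σ := RingHom.id F) (-1) B) (ha : ∀ x, B x x = 0)
    (h2 : (2 : F) ≠ 0) (hm : 2 * m ≤ finrank F V) :
    (∀ f, Inv B f → (∃ z : F, f ^ 2 = z • 1) → (∀ z : F, f ≠ z • 1) →
      ∃ W : Submodule F V, (finrank F W = m ∧ TI B W) ∧ St f W) ↔
      (Even m ∨ Nat.card F % 4 = 1) := by
  rw [forall_two_iff hB h2 _ _ fun _ => id, forall_iff_of_iff fun f h1 h3 =>
    exists_ti_iff_of_sq_eq_neg h2 hB h1 h3 hm, forall_invol_iff hB h2 _ (fun _ => True) _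
    (fun _ => id) fun f A h _ _ _ => iff_of_true h trivial, and_iff_right, or_comm,
    forall_prop_of_true (exists_sq_eq_neg_alt h2 hB ha)]
  intro A hA _ _ _
  obtain ⟨a, h1⟩ := H54.even_finrank_of_isAlt (hB.restrict hA).nondegenerate fun x => ha x
  obtain ⟨d, h3⟩ := H54.even_finrank_of_isAlt hB.nondegenerate ha
  have h4 := hB.finrank_add_finrank_perp A
  have := exists_ti_sup hB hA (fun E hE j => exists_ti_le_alt hB ha hE) (j := min m a)
    (k := m - min m a) (by omega) (by omega)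
  rwa [show min m a + (m - min m a) = m by omega] at this

theorem o_ts_two_odd (hQ : Q.polarBilin.Nondegenerate) (hd : finrank F V = 2 * d + 1)
    (h0 : 0 < d) (hm : m ≤ d) :
    (∀ f, InOm Q f → f ^ 2 = 1 → f ≠ 1 →
      ∃ W : Submodule F V, (finrank F W = m ∧ TS Q W) ∧ St f W) ↔ (m < d ∨ Nat.card F % 4 = 1) := by
  have ho : Odd (finrank F V) := hd ▸ odd_two_mul_add_one d
  have h2 := two_ne_zero_of_odd hQ ho
  refine Iff.trans (forall₂_congr fun f h => forall₂_congr fun _ _ =>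
    (imp_iff_right (h.ne_neg_one hQ ho)).symm) ((inOm_invol_iff h2 hQ _).trans ?_)
  constructor
  · intro H
    obtain ⟨A, -, hA, h1, h3⟩ := exists_nd_disc h2 hQ (nd_top (isSF_polar hQ)) two_pos
      (by rw [finrank_top]; omega) 1
    obtain ⟨j, k, h4, ⟨h5, h6⟩, h7, -⟩ := (exists_ts_sup_iff hQ hA).1
      (H A hA ⟨h1 ▸ even_two, h3⟩ (by omega) (by omega))
    have h8 := (isSF_polar hQ).finrank_add_finrank_perp A
    rw [pl_iff_of_disc_one h2 hQ hA (a := 1) h1 h3] at h6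
    simp only [Nat.not_even_one, or_false] at h6
    omega
  · rintro H A hA ⟨⟨a, h1⟩, h3⟩ h4 h5
    have h8 := (isSF_polar hQ).finrank_add_finrank_perp A
    rw [exists_ts_sup_iff hQ hA, pl_iff_of_disc_one h2 hQ hA (a := a) (by omega) h3]
    rcases H with H | H
    · exact ⟨min m (a - 1), m - min m (a - 1), by omega, ⟨by omega, by omega⟩, by omega, by omega⟩
    · exact ⟨min m a, m - min m a, by omega, ⟨by omega, by omega⟩, by omega, by omega⟩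

theorem o_ts_two_even (h2 : (2 : F) ≠ 0) (hQ : Q.polarBilin.Nondegenerate)
    (hd : finrank F V = 2 * d) (h0 : 1 < d) (hm : m < d) :
    (∀ f, InOm Q f → (∃ z : F, f ^ 2 = z • 1) → (∀ z : F, f ≠ z • 1) →
      ∃ W : Submodule F V, (finrank F W = m ∧ TS Q W) ∧ St f W) ↔
      (IsPlus Q → Nat.card F % 4 = 1 ∨ m + 2 ≤ d) ∧
      ((IsPlus Q ↔ (Nat.card F % 4 = 3 → Even d)) ∧
        (Even d ∨ Nat.card F % 8 = 1 ∨ Nat.card F % 8 = 7) → Nat.card F % 4 = 1 ∨ Even m) := by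
  have : Nontrivial V := Module.nontrivial_of_finrank_pos (R := F) (by omega)
  have hB := isSF_polar hQ
  rw [forall_two_iff hB h2 _ _ fun _ h => h.qinv.inv, forall_iff_of_iff fun f h1 h3 =>
    exists_ts_iff_of_sq_eq_neg h2 hQ h1.qinv h3 (by omega), exists_inOm_sq_eq_neg_iff h2 hQ hd,
    inOm_invol_iff h2 hQ]
  refine and_congr_left' ⟨fun H h => ?_, ?_⟩
  · obtain ⟨A, -, hA, h1, h3⟩ := exists_nd_disc h2 hQ (nd_top hB) two_pos
      (by rw [finrank_top]; omega) 1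
    obtain ⟨j, k, h4, ⟨h5, h6⟩, h7, h9⟩ := (exists_ts_sup_iff hQ hA).1
      (H A hA ⟨h1 ▸ even_two, h3⟩ (by omega) (by omega))
    have h8 := hB.finrank_add_finrank_perp A
    rw [← (isPlus_iff_perp hQ hA (h1 ▸ even_two) (hd ▸ even_two_mul d)).1 h] at h9
    rw [pl_iff_of_disc_one h2 hQ hA (a := 1) h1 h3] at h6 h9
    simp only [Nat.not_even_one, or_false] at h6 h9
    omega
  · rintro H A hA ⟨⟨a, h1⟩, h3⟩ h4 h5
    have h8 := hB.finrank_add_finrank_perp A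
    have h6 := isPlus_iff_perp hQ hA ⟨a, h1⟩ (hd ▸ even_two_mul d)
    have h7 := pl_iff_of_disc_one h2 hQ hA (a := a) (by omega) h3
    rw [exists_ts_sup_iff hQ hA]
    by_cases h9 : Pl Q A
    · exact ⟨min m a, m - min m a, by omega, ⟨by omega, fun _ => h9⟩, by omega, by omega⟩
    by_cases h10 : Pl Q (perp Q.polarBilin A)
    · exact ⟨min m (a - 1), m - min m (a - 1), by omega, ⟨by omega, by omega⟩, by omega,
        fun _ => h10⟩
    · have := (H (h6.2 (iff_of_false h9 h10))).resolve_left fun h => h9 (h7.2 (Or.inl h))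
      exact ⟨min m (a - 1), m - min m (a - 1), by omega, ⟨by omega, by omega⟩, by omega, by omega⟩

end four

end H58
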