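/- Tower FE (S1308), slot Mv: elements of `V(S')` inside `S` normalise the vertices that meet `S`. -/
import Cfsg.Agent.H14.FESpec

set_option autoImplicit false

namespace H58.FEMv

open Cfsg Subgroup MulAction H14 H98 H1.Gold H31.S2 H14.GC H14.FE

universe u

variable {G : Type u} [Group G] {A B B' P U : Subgroup G} {d e x y g : G}

theorem inv_pow_of (h1 : x ≠ 1) (k : ℕ) (h : x ^ 2 ^ k = 1) : ∃ j : ℕ, H14.GC.Inv (x ^ j) := by
  induction k with
  | zero => exact absurd (by simpa using h) h1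
  | succ k ih =>
    by_cases hk : x ^ 2 ^ k = 1
    · exact ih hk
    · exact ⟨2 ^ k, hk, by rw [← pow_add, ← two_mul, ← pow_succ', h]⟩

theorem exists_inv (hP : IsPGroup 2 P) (hx : x ∈ P) (hU : x ∈ U) (h1 : x ≠ 1) :
    ∃ r ∈ P ⊓ U, H14.GC.Inv r := by
  obtain ⟨k, hk⟩ := isPGroup_iff_forall.1 hP x hx
  obtain ⟨j, hj⟩ := inv_pow_of h1 k hk
  exact ⟨_, pow_mem (show x ∈ P ⊓ U from ⟨hx, hU⟩) j, hj⟩

theorem vx_cj (h : Vx A B) (g : G) : Vx A (cj g B) := by
  obtain ⟨k, rfl⟩ := h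
  exact ⟨g * k, cj_cj _ _ _⟩

theorem comm_of (m : MC A) (hB : Vx A B) (hB' : Vx A B') (ne : B ≠ B') (hd : d ∈ B) (he : e ∈ B')
    (id : H14.GC.Inv d) (ie : H14.GC.Inv e) (hP : IsPGroup 2 P) (dP : d ∈ P) (eP : e ∈ P) :
    d * e = e * d := by
  have n1 := m.f3 B B' hB hB' d hd e he id ie P hP dP eP hd
  have n2 := m.f3 B' B hB' hB e he d hd ie id P hP eP dP he
  by_contra hc
  have c1 : d * e * d⁻¹ * e⁻¹ ∈ B' := mul_mem (conj_mem_of_mem_normalizer n1 he) (inv_mem he)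
  have c2 : d * e * d⁻¹ * e⁻¹ ∈ B := by
    have := mul_mem hd (conj_mem_of_mem_normalizer n2 (inv_mem hd))
    simpa only [mul_assoc] using this
  obtain ⟨r, hr, ir⟩ := exists_inv (U := B ⊓ B') hP
    (mul_mem (mul_mem (mul_mem dP eP) (inv_mem dP)) (inv_mem eP)) ⟨c2, c1⟩ fun h => hc (by
      rwa [mul_inv_eq_one, mul_inv_eq_iff_eq_mul] at h)
  exact m.ti B B' hB hB' ne r hr.2 ir

theorem ds_comm (m : MC A) (cn : Cn A) (hP : IsPGroup 2 P) (hd : d ∈ DS A P) (he : e ∈ DS A P) :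
    d * e = e * d := by
  obtain ⟨dP, id, B, hB, dB⟩ := hd
  obtain ⟨eP, ie, B', hB', eB⟩ := he
  by_cases h : B = B'
  · subst h
    exact cn B hB (P ⊓ B) inf_le_right hP.to_inf_left d ⟨dP, dB⟩ e ⟨eP, eB⟩ id.2
  · exact comm_of m hB hB' h dB eB id ie hP dP eP

theorem vs_le : VS A P ≤ P := (closure_le _).2 fun _ h => h.1

theorem vs_comm (m : MC A) (cn : Cn A) (hP : IsPGroup 2 P) (hx : x ∈ VS A P) (hy : y ∈ VS A P) :
    x * y = y * x := by
  have h1 : VS A P ≤ centralizer (DS A P) :=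
    (closure_le _).2 fun a ha => mem_centralizer_iff.2 fun b hb => ds_comm m cn hP hb ha
  have h2 : VS A P ≤ centralizer (VS A P : Set G) :=
    (closure_le _).2 fun a ha => mem_centralizer_iff.2 fun b hb =>
      (mem_centralizer_iff.1 (h1 hb) a ha).symm
  exact mem_centralizer_iff.1 (h2 hy) x hx

theorem vs_sq (m : MC A) (cn : Cn A) (hP : IsPGroup 2 P) (hy : y ∈ VS A P) : y * y = 1 := by
  induction hy using closure_induction with
  | mem a ha => exact ha.2.1.2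
  | one => exact mul_one _
  | mul a b ha hb h1 h2 =>
    rw [mul_assoc, ← mul_assoc b, vs_comm m cn hP hb ha, mul_assoc, h2, mul_one, h1]
  | inv a _ h => rw [← mul_inv_rev, h, inv_one]

theorem vs_conj {P' : Subgroup G} {c : G} (h : ∀ d, d ∈ DS A P ↔ c⁻¹ * d * c ∈ DS A P')
    (hy : y ∈ VS A P') : c * y * c⁻¹ ∈ VS A P := by
  have : VS A P' ≤ cj c⁻¹ (VS A P) := (closure_le _).2 fun a ha => mem_cj.2
    (subset_closure ((h _).2 (by simpa [mul_assoc] using ha)))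
  simpa using mem_cj.1 (this hy)

theorem four_syl [Finite G] {R : Subgroup G} (hR : IsSyl 2 R B) (h : Four B) : Four R := by
  obtain ⟨E, e4, h4, hE⟩ := h.exists_e4
  obtain ⟨g, -, hg⟩ := hR.exists_cj_le (IsPGroup.of_card (n := 2) h4) hE
  exact ((four_of_e4 e4).cj g).mono hg

/-- The step `r ↦ r (y r y)`. -/
theorem pair (m : MC A) (hB : Vx A B) (hP : IsPGroup 2 P) {r : G} (rP : r ∈ P) (rB : r ∈ B)
    (yP : y ∈ P) (yy : y * y = 1) (ny : y ∉ nor B) {t : G} (tP : t ∈ P) (tB : t ∈ B)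
    (ir : H14.GC.Inv r) (it : H14.GC.Inv t) : t * (y * r * y) = y * r * y * t := by
  have yi : y⁻¹ = y := inv_eq_of_mul_eq_one_right yy
  refine comm_of m hB (vx_cj hB y) (fun e => ny (cj_eq_self_iff.1 e.symm)) tB ?_ it ?_ hP tP
    (mul_mem (mul_mem yP rP) yP)
  · simpa only [yi] using conj_mem_cj (g := y) rB
  · simpa only [yi] using ir.conj y

theorem step_comm {r : G} (yy : y * y = 1) (h : r * (y * r * y) = y * r * y * r) :
    r * (y * r * y) * y = y * (r * (y * r * y)) := by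
  calc r * (y * r * y) * y = r * y * r * (y * y) := by group
    _ = y * y * (r * y * r) := by rw [yy]; group
    _ = _ := by rw [h]; group

theorem step_sq {r : G} (yy : y * y = 1) (rr : r * r = 1) (h : r * (y * r * y) = y * r * y * r) :
    r * (y * r * y) * (r * (y * r * y)) = 1 := by
  nth_rewrite 1 [h]
  calc y * r * y * r * (r * (y * r * y)) = y * r * y * (r * r) * (y * r * y) := by group
    _ = y * r * (y * y) * r * y := by rw [rr]; group
    _ = y * (r * r) * y := by rw [yy]; group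
    _ = 1 := by rw [rr, mul_one, yy]

theorem jobMv : JobMv.{u} := by
  intro G _ _ A m cn cs key st ud1 ud2 S S' hS hS' y yV yS B hB
  by_contra ny
  have yy := vs_sq m cn hS'.isPGroup yV
  have yi : y⁻¹ = y := inv_eq_of_mul_eq_one_right yy
  obtain ⟨⟨x, hx⟩, x1⟩ := Subgroup.ne_bot_iff_exists_ne_one.1 hB.2
  replace x1 : x ≠ 1 := fun e => x1 (Subtype.ext e)
  obtain ⟨r, ⟨rS, rB⟩, ir⟩ := exists_inv hS.isPGroup hx.1 hx.2 x1
  have c1 := pair m hB.1 hS.isPGroup rS rB yS yy ny rS rB ir ir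
  have r'S : y * r * y ∈ S := mul_mem (mul_mem yS rS) yS
  have r'B : y * r * y ∈ cj y B := by simpa only [yi] using conj_mem_cj (g := y) rB
  have ir' : H14.GC.Inv (y * r * y) := by simpa only [yi] using ir.conj y
  have uy := step_comm yy c1
  have uu := step_sq yy ir.2 c1
  have uV : r * (y * r * y) ∈ VS A S := mul_mem (subset_closure ⟨rS, ir, B, hB.1, rB⟩)
    (subset_closure ⟨r'S, ir', _, vx_cj hB.1 y, r'B⟩)
  obtain ⟨S2, h2, le2, c, hc, e2⟩ := st S' hS' y yV (S ⊓ cen1 y) hS.isPGroup.to_inf_left inf_le_right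
  have yV2 : y ∈ VS A S2 := by
    have := vs_conj e2 yV
    rwa [mem_centralizer_singleton_iff.1 hc, mul_inv_cancel_right] at this
  generalize hu : r * (y * r * y) = w at uy uu uV
  have uS2 : w ∈ S2 := le2 ⟨vs_le uV, mem_centralizer_singleton_iff.2 uy⟩
  by_cases hall : ∀ B2 ∈ FE.CP A S2, w ∈ nor B2
  · refine key B hB.1 r rB ir y yy ny S hS.isPGroup rS yS (VS A S2 ⊓ cen1 w)
      (h2.isPGroup.to_le (inf_le_left.trans vs_le)) (hu ▸ inf_le_inf_right _ fun v hv => ?_)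
      (ud1 S2 h2.isPGroup y yV2 w uS2 hall uy)
    exact mem_centralizer_singleton_iff.2 (vs_comm m cn h2.isPGroup hv yV2)
  push Not at hall
  obtain ⟨B2, hB2, nu⟩ := hall
  obtain ⟨S3, h3, le3, k, hk, e3⟩ := st S hS w uV (S2 ⊓ cen1 w) h2.isPGroup.to_inf_left inf_le_right
  have dD : k * r * k⁻¹ ∈ DS A S3 := (e3 _).2 (by
    have : r ∈ DS A S := ⟨rS, ir, B, hB.1, rB⟩
    simpa [mul_assoc] using this)
  have eD : k * (y * r * y) * k⁻¹ ∈ DS A S3 := (e3 _).2 (by
    have : y * r * y ∈ DS A S := ⟨r'S, ir', _, vx_cj hB.1 y, r'B⟩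
    simpa [mul_assoc] using this)
  have de : k * r * k⁻¹ * (k * (y * r * y) * k⁻¹) = w := by
    rw [conj_mul, hu, mem_centralizer_singleton_iff.1 hk, mul_inv_cancel_right]
  have ne : cj k B ≠ cj k (cj y B) := fun e => ny (cj_eq_self_iff.1 (cj_inj.1 e).symm)
  have alt : ∀ f ∈ S2 ⊓ B2, H14.GC.Inv f → cj (f * (w * f * w)) (cj k B) = cj k (cj y B) := by
    intro f hf jf
    have cf := pair m hB2.1 h2.isPGroup hf.1 hf.2 uS2 uu nu hf.1 hf.2 jf jf
    have gw := step_comm uu cf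
    have g3 : f * (w * f * w) ∈ S3 := le3 ⟨mul_mem hf.1 (mul_mem (mul_mem uS2 hf.1) uS2),
      mem_centralizer_singleton_iff.2 gw⟩
    refine (ud2 S3 h3.isPGroup _ _ (vx_cj hB.1 k) (vx_cj (vx_cj hB.1 y) k) ne _
      ⟨dD.1, conj_mem_cj rB⟩ _ ⟨eD.1, conj_mem_cj r'B⟩ dD.2.1 eD.2.1 _ g3
      (by rw [de, gw])).resolve_left fun ⟨_, a1, a2⟩ => ?_
    have wV : w ∈ VS A S3 := de ▸ mul_mem (subset_closure dD) (subset_closure eD)
    refine key B2 hB2.1 f hf.2 jf w uu nu S2 h2.isPGroup hf.1 uS2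
      (VS A S3 ⊓ cen1 (f * (w * f * w))) (h3.isPGroup.to_le (inf_le_left.trans vs_le))
      (inf_le_inf_right _ fun v hv =>
        mem_centralizer_singleton_iff.2 (vs_comm m cn h3.isPGroup hv wV)) ?_
    rw [← de]
    exact mul_mem
      (subset_closure ⟨⟨subset_closure dD, mem_centralizer_singleton_iff.2 (de ▸ a1.symm)⟩, dD.2⟩)
      (subset_closure ⟨⟨subset_closure eD, mem_centralizer_singleton_iff.2 (de ▸ a2.symm)⟩, eD.2⟩)
  obtain ⟨s, hs, t, ht, is, it, st', hst⟩ :=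
    four_syl ((cs.1 S2 h2).2.1 B2 hB2) (m.four B2 hB2.1)
  have a1 := alt s hs is
  have a2 := alt t ht it
  have a3 := alt _ (mul_mem hs ht) (is.mul it st' hst)
  have cs' := pair m hB2.1 h2.isPGroup hs.1 hs.2 uS2 uu nu hs.1 hs.2 is is
  have ct := pair m hB2.1 h2.isPGroup hs.1 hs.2 uS2 uu nu ht.1 ht.2 is it
  have e : s * t * (w * (s * t) * w) = s * (w * s * w) * (t * (w * t * w)) := by
    calc s * t * (w * (s * t) * w) = s * (t * (w * s * (w * w))) * t * w := by rw [uu]; group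
      _ = s * (t * (w * s * w)) * (w * t * w) := by group
      _ = _ := by rw [ct]; group
  rw [e, ← cj_cj, a2, ← a1, cj_cj (s * _), step_sq uu is.2 cs', cj_one, a1] at a3
  exact ne a3

end H58.FEMv
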