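/- FS tower (S1144), slot H6a: commutator functions of a Moufang hexagon. -/
import Cfsg.Agent.H7.FSSpec

set_option autoImplicit false
set_option linter.unusedSectionVars false

namespace H58.FS6

open H12.BN H59.BN H7.FS
open H21.BN (Co)
open scoped commutatorElement

variable {G : Type} [Group G] [Finite G] {x : MP 6 G} {F J J' : Type} [Field F] [AddCommGroup J]
  [Module F J] [AddCommGroup J'] [Module F J']

theorem m6 (x : MP 6 G) : MK x := H21.BN.mk (by decide)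

theorem un (x : MP 6 G) (k : ℤ) {c c' d d' : G} (hc : c ∈ x.U k) (hc' : c' ∈ x.U k)
    (hd : d ∈ II x.U (k + 1) (k + 6)) (hd' : d' ∈ II x.U (k + 1) (k + 6)) (e : c * d = c' * d') :
    c = c' ∧ d = d' := by
  have : c'⁻¹ * c = 1 := x.disj k _ (mul_mem (inv_mem hc') hc) (by
    rw [show c'⁻¹ * c = d' * d⁻¹ by rw [← mul_inv_cancel_right c d, e]; group]
    exact mul_mem hd' (inv_mem hd))
  obtain rfl := inv_mul_eq_one.1 this
  exact ⟨rfl, mul_left_cancel e⟩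

theorem swp {a b : G} (e : a * b = b * a) (g : G) : b * (a * g) = a * (b * g) := by
  rw [← mul_assoc, ← e, mul_assoc]

theorem cj {a b : G} (e : a * b = b * a) : a⁻¹ * b * a = b := by
  rw [mul_assoc, ← e, inv_mul_cancel_left]

/-- normal forms in `U_[2,6]` -/
def nf (h : H5 x F J J') (s : F) (y : J') (r : F) (z : J) (t : F) : G :=
  h.x2 s * (h.x3 y * (h.x4 r * (h.x5 z * h.x6 t)))

theorem nf_inj (h : H5 x F J J') {s s' : F} {y y' : J'} {r r' : F} {z z' : J} {t t' : F}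
    (e : nf h s y r z t = nf h s' y' r' z' t') : s = s' ∧ y = y' ∧ r = r' ∧ z = z' ∧ t = t' := by
  have l : ∀ {i j k : ℤ} {g : G}, g ∈ x.U k → i ≤ k → k ≤ j → g ∈ II x.U i j :=
    fun hg h1 h2 => le_II _ h1 h2 hg
  have m6 : ∀ i j t, i ≤ 6 → 6 ≤ j → h.x6 t ∈ II x.U i j := fun _ _ _ => l (h.c6.mem' _)
  have m5 : ∀ i j z t, i ≤ 5 → 6 ≤ j → h.x5 z * h.x6 t ∈ II x.U i j := fun _ _ _ _ h1 h2 =>
    mul_mem (l (h.c5.mem' _) h1 (by omega)) (m6 _ _ _ (by omega) h2)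
  have m4 : ∀ i j r z t, i ≤ 4 → 6 ≤ j → h.x4 r * (h.x5 z * h.x6 t) ∈ II x.U i j :=
    fun _ _ _ _ _ h1 h2 => mul_mem (l (h.c4.mem' _) h1 (by omega)) (m5 _ _ _ _ (by omega) h2)
  have m3 : ∀ y r z t, h.x3 y * (h.x4 r * (h.x5 z * h.x6 t)) ∈ II x.U (2 + 1) (2 + 6) :=
    fun _ _ _ _ => mul_mem (l (h.c3.mem' _) (by omega) (by omega)) (m4 _ _ _ _ _ (by omega) (by omega))
  obtain ⟨e2, e⟩ := un x 2 (h.c2.mem' _) (h.c2.mem' _) (m3 _ _ _ _) (m3 _ _ _ _) e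
  obtain ⟨e3, e⟩ := un x 3 (h.c3.mem' _) (h.c3.mem' _) (m4 _ _ _ _ _ (by omega) (by omega))
    (m4 _ _ _ _ _ (by omega) (by omega)) e
  obtain ⟨e4, e⟩ := un x 4 (h.c4.mem' _) (h.c4.mem' _) (m5 _ _ _ _ (by omega) (by omega))
    (m5 _ _ _ _ (by omega) (by omega)) e
  obtain ⟨e5, e⟩ := un x 5 (h.c5.mem' _) (h.c5.mem' _) (m6 _ _ _ (by omega) (by omega))
    (m6 _ _ _ (by omega) (by omega)) e
  exact ⟨h.c2.inj e2, h.c3.inj e3, h.c4.inj e4, h.c5.inj e5, h.c6.inj e⟩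

theorem nf3 (h : H5 x F J J') (y : J') : h.x3 y = nf h 0 y 0 0 0 := by
  simp [nf, h.c2.zero, h.c4.zero, h.c5.zero, h.c6.zero]

theorem nf5 (h : H5 x F J J') (z : J) : h.x5 z = nf h 0 0 0 z 0 := by
  simp [nf, h.c2.zero, h.c4.zero, h.c3.zero, h.c6.zero]

theorem nf6 (h : H5 x F J J') (t : F) : h.x6 t = nf h 0 0 0 0 t := by
  simp [nf, h.c2.zero, h.c4.zero, h.c3.zero, h.c5.zero]

theorem split24 (h : H5 x F J J') {g : G} (hg : g ∈ II x.U 2 4) :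
    ∃ s y r, g = h.x2 s * (h.x3 y * h.x4 r) := by
  obtain ⟨a, ha, b, hb, rfl⟩ := (m6 x).splitL 2 4 (by decide) g hg
  obtain ⟨c, hc, d, hd, rfl⟩ := (m6 x).splitL 3 4 (by decide) b hb
  obtain ⟨s, rfl⟩ := (h.c2.mem _).1 ha
  obtain ⟨y, rfl⟩ := (h.c3.mem _).1 hc
  obtain ⟨r, rfl⟩ := (h.c4.mem _).1 ((II_self x.U 4).le hd)
  exact ⟨s, y, r, rfl⟩

/-- the commutator functions -/
structure Raw (h : H5 x F J J') where
  T : J → J' → F
  u : J' → J → F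
  f : J → J → F
  g : J → J → J'
  k : J → J → F
  c2 : J → F → F
  c3 : J → F → J'
  c4 : J → F → F
  r13 : ∀ a y, (h.x1 a)⁻¹ * h.x3 y * h.x1 a = h.x2 (T a y) * h.x3 y
  r35 : ∀ y z, (h.x3 y)⁻¹ * h.x5 z * h.x3 y = h.x4 (u y z) * h.x5 z
  r15 : ∀ a z, (h.x1 a)⁻¹ * h.x5 z * h.x1 a = nf h (f a z) (g a z) (k a z) z 0
  r16 : ∀ a t, (h.x1 a)⁻¹ * h.x6 t * h.x1 a = nf h (c2 a t) (c3 a t) (c4 a t) (t • a) t

theorem raw (h : H5 x F J J') : Nonempty (Raw h) := by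
  have cm : ∀ a b : G, a⁻¹ * b * a = ⁅a⁻¹, b⁆ * b := fun a b => by group
  have e13 : ∀ a y, ∃ s, (h.x1 a)⁻¹ * h.x3 y * h.x1 a = h.x2 s * h.x3 y := fun a y => by
    obtain ⟨s, e⟩ := (h.c2.mem _).1 ((II_self x.U 2).le (x.comm 1 3 (by decide) (by decide) _
      (inv_mem (h.c1.mem' a)) _ (h.c3.mem' y)))
    exact ⟨s, by rw [cm, e]⟩
  have e35 : ∀ y z, ∃ s, (h.x3 y)⁻¹ * h.x5 z * h.x3 y = h.x4 s * h.x5 z := fun y z => by
    obtain ⟨s, e⟩ := (h.c4.mem _).1 ((II_self x.U 4).le (x.comm 3 5 (by decide) (by decide) _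
      (inv_mem (h.c3.mem' y)) _ (h.c5.mem' z)))
    exact ⟨s, by rw [cm, e]⟩
  have e15 : ∀ a z, ∃ s y r, (h.x1 a)⁻¹ * h.x5 z * h.x1 a = nf h s y r z 0 := fun a z => by
    obtain ⟨s, y, r, e⟩ := split24 h (x.comm 1 5 (by decide) (by decide) _
      (inv_mem (h.c1.mem' a)) _ (h.c5.mem' z))
    exact ⟨s, y, r, by rw [cm, e, nf, h.c6.zero]; group⟩
  have e16 : ∀ a t, ∃ s y r, (h.x1 a)⁻¹ * h.x6 t * h.x1 a = nf h s y r (t • a) t := fun a t => by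
    by_cases ht : t = 0
    · exact ⟨0, 0, 0, by rw [ht, zero_smul, ← nf6, h.c6.zero]; group⟩
    have b1 := h.c6.ne_one ht
    obtain ⟨d, hd, e⟩ := (m6 x).key' 6 _ (inv_mem (h.c6.mem' t)) (inv_ne_one.2 b1) _ (h.c1.mem' a)
    rw [((m6 x).inv 6 _ (h.c6.mem' t) b1).2.2, inv_inv, inv_inv, h.m1 t a ht] at e
    obtain ⟨s, y, r, rfl⟩ := split24 h hd
    refine ⟨s, y, r, ?_⟩
    calc _ = (h.x1 a)⁻¹ * (h.x6 t * h.x1 a * (h.x6 t)⁻¹) * h.x6 t := by group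
      _ = _ := by rw [e, nf]; group
  choose T r13 using e13
  choose u r35 using e35
  choose f g k r15 using e15
  choose c2 c3 c4 r16 using e16
  exact ⟨⟨T, u, f, g, k, c2, c3, c4, r13, r35, r15, r16⟩⟩

namespace Raw
variable {h : H5 x F J J'} (R : Raw h) (L : Long6 x)

theorem u0 (z : J) : R.u 0 z = 0 := by
  have := R.r35 0 z
  rw [h.c3.zero, inv_one, one_mul, mul_one, right_eq_mul] at this
  exact h.c4.eq_one.1 this

theorem u0' (y : J') : R.u y 0 = 0 := by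
  have := R.r35 y 0
  rw [h.c5.zero, mul_one, inv_mul_cancel, mul_one] at this
  exact h.c4.eq_one.1 this.symm

theorem T0 (a : J) : R.T a 0 = 0 := by
  have := R.r13 a 0
  rw [h.c3.zero, mul_one, inv_mul_cancel, mul_one] at this
  exact h.c2.eq_one.1 this.symm

theorem fgk0 (a : J) : R.f a 0 = 0 ∧ R.g a 0 = 0 ∧ R.k a 0 = 0 := by
  have := R.r15 a 0
  rw [h.c5.zero, mul_one, inv_mul_cancel, ← h.c5.zero, nf5] at this
  obtain ⟨e1, e2, e3, -⟩ := nf_inj h this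
  exact ⟨e1.symm, e2.symm, e3.symm⟩

theorem c0 (a : J) : R.c2 a 0 = 0 ∧ R.c3 a 0 = 0 ∧ R.c4 a 0 = 0 := by
  have := R.r16 a 0
  rw [h.c6.zero, mul_one, inv_mul_cancel, ← h.c6.zero, nf6] at this
  obtain ⟨e1, e2, e3, -⟩ := nf_inj h this
  exact ⟨e1.symm, e2.symm, e3.symm⟩

theorem c0' (t : F) : R.c2 0 t = 0 ∧ R.c3 0 t = 0 ∧ R.c4 0 t = 0 := by
  have := R.r16 0 t
  rw [h.c1.zero, inv_one, one_mul, mul_one, nf6] at this
  obtain ⟨e1, e2, e3, -⟩ := nf_inj h this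
  exact ⟨e1.symm, e2.symm, e3.symm⟩

include L

theorem nf_mul (s s' : F) (y y' : J') (r r' : F) (z z' : J) (t t' : F) :
    nf h s y r z t * nf h s' y' r' z' t' =
      nf h (s + s') (y + y') (r + r' + R.u y' z + s' * t) (z + z') (t + t') := by
  have s32 := fun s y => swp (L 2 3 rfl (by decide) (by decide) _ (h.c2.mem' s) _ (h.c3.mem' y))
  have s42 := fun s y => swp (L 2 4 rfl (by decide) (by decide) _ (h.c2.mem' s) _ (h.c4.mem' y))
  have s52 := fun s y => swp (L 2 5 rfl (by decide) (by decide) _ (h.c2.mem' s) _ (h.c5.mem' y))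
  have s43 := fun s y => swp (L 4 3 rfl (by decide) (by decide) _ (h.c4.mem' s) _ (h.c3.mem' y)).symm
  have s54 := fun s y => swp (L 4 5 rfl (by decide) (by decide) _ (h.c4.mem' s) _ (h.c5.mem' y))
  have s64 := fun s y => swp (L 4 6 rfl (by decide) (by decide) _ (h.c4.mem' s) _ (h.c6.mem' y))
  have s63 := fun s y => swp (L 6 3 rfl (by decide) (by decide) _ (h.c6.mem' s) _ (h.c3.mem' y)).symm
  have s65 := fun s y => swp (L 6 5 rfl (by decide) (by decide) _ (h.c6.mem' s) _ (h.c5.mem' y)).symm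
  have s62 : ∀ s t g, h.x6 t * (h.x2 s * g) = h.x2 s * (h.x4 (s * t) * (h.x6 t * g)) :=
    fun s t g => by rw [← mul_assoc (h.x4 _), ← h.r26]; group
  have s53 : ∀ y z g, h.x5 z * (h.x3 y * g) = h.x3 y * (h.x4 (R.u y z) * (h.x5 z * g)) :=
    fun s t g => by rw [← mul_assoc (h.x4 _), ← R.r35]; group
  have a2 : ∀ s t g, h.x2 s * (h.x2 t * g) = h.x2 (s + t) * g := fun s t g => by
    rw [h.c2.add, mul_assoc]
  have a3 : ∀ s t g, h.x3 s * (h.x3 t * g) = h.x3 (s + t) * g := fun s t g => by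
    rw [h.c3.add, mul_assoc]
  have a4 : ∀ s t g, h.x4 s * (h.x4 t * g) = h.x4 (s + t) * g := fun s t g => by
    rw [h.c4.add, mul_assoc]
  have a5 : ∀ s t g, h.x5 s * (h.x5 t * g) = h.x5 (s + t) * g := fun s t g => by
    rw [h.c5.add, mul_assoc]
  simp only [nf, mul_assoc, s32, s42, s52, s43, s54, s64, s63, s65, s62, s53, a2, a3, a4, a5,
    ← h.c6.add]
  congr 4
  ring

theorem cj_nf (a : J) (s : F) (y : J') (r : F) (z : J) (t : F) :
    (h.x1 a)⁻¹ * nf h s y r z t * h.x1 a =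
      nf h (s + R.T a y + R.f a z + R.c2 a t) (y + R.g a z + R.c3 a t)
        (r + R.k a z + R.c4 a t + R.u (R.c3 a t) z) (z + t • a) t := by
  have e2 := cj (L 2 1 rfl (by decide) (by decide) _ (h.c2.mem' s) _ (h.c1.mem' a)).symm
  have e4 := cj (L 4 1 rfl (by decide) (by decide) _ (h.c4.mem' r) _ (h.c1.mem' a)).symm
  have e : nf h (s + R.T a y) y r 0 0 = h.x2 s * (h.x2 (R.T a y) * h.x3 y) * h.x4 r := by
    rw [nf, h.c5.zero, h.c6.zero, h.c2.add]; group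
  calc _ = (h.x1 a)⁻¹ * h.x2 s * h.x1 a * ((h.x1 a)⁻¹ * h.x3 y * h.x1 a) *
        ((h.x1 a)⁻¹ * h.x4 r * h.x1 a) * ((h.x1 a)⁻¹ * h.x5 z * h.x1 a) *
        ((h.x1 a)⁻¹ * h.x6 t * h.x1 a) := by rw [nf]; group
    _ = _ := by
      rw [e2, e4, R.r13, R.r15, R.r16, ← e, R.nf_mul L, R.nf_mul L, R.u0']
      congr 1 <;> simp

omit L in
theorem cjm (c g g' : G) : c⁻¹ * (g * g') * c = c⁻¹ * g * c * (c⁻¹ * g' * c) := by group

omit L in
theorem cja (a a' : J) (g : G) : (h.x1 (a + a'))⁻¹ * g * h.x1 (a + a') =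
    (h.x1 a')⁻¹ * ((h.x1 a)⁻¹ * g * h.x1 a) * h.x1 a' := by rw [h.c1.add]; group

omit L in
theorem r13' (a : J) (y : J') : (h.x1 a)⁻¹ * h.x3 y * h.x1 a = nf h (R.T a y) y 0 0 0 := by
  rw [R.r13, nf, h.c4.zero, h.c5.zero, h.c6.zero]; group

theorem T_addl (a a' : J) (y : J') : R.T (a + a') y = R.T a y + R.T a' y := by
  have := cja (h := h) a a' (h.x3 y)
  rw [R.r13', R.r13', R.cj_nf L] at this
  simpa [(R.fgk0 a').1, (R.c0 a').1] using (nf_inj h this).1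

theorem T_addr (a : J) (y y' : J') : R.T a (y + y') = R.T a y + R.T a y' := by
  have := cjm (h.x1 a) (h.x3 y) (h.x3 y')
  rw [← h.c3.add, R.r13', R.r13', R.r13', R.nf_mul L] at this
  exact (nf_inj h this).1

theorem u_T (y : J') (a : J) : R.u y a = -R.T a y := by
  have e := L 6 3 rfl (by decide) (by decide) _ (h.c6.mem' 1) _ (h.c3.mem' y)
  have := cjm (h.x1 a) (h.x6 1) (h.x3 y)
  rw [e, cjm, R.r13', R.r16, R.nf_mul L, R.nf_mul L, R.u0', one_smul] at this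
  have := (nf_inj h this).2.2.1
  linear_combination -this

theorem g_addr (a z z' : J) : R.g a (z + z') = R.g a z + R.g a z' := by
  have := cjm (h.x1 a) (h.x5 z) (h.x5 z')
  rw [← h.c5.add, R.r15, R.r15, R.r15, R.nf_mul L] at this
  exact (nf_inj h this).2.1

theorem T_cr (a z z' : J) : R.T z (R.g a z') = R.T z' (R.g a z) := by
  have := cjm (h.x1 a) (h.x5 z) (h.x5 z')
  rw [← h.c5.add, add_comm, h.c5.add, cjm, R.r15, R.r15, R.nf_mul L, R.nf_mul L, R.u_T L,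
    R.u_T L] at this
  have := (nf_inj h this).2.2.1
  linear_combination this

theorem f_eq (a z : J) : R.f a z = R.T a (R.g a z) - R.T z (R.c3 a 1) := by
  have e := L 6 5 rfl (by decide) (by decide) _ (h.c6.mem' 1) _ (h.c5.mem' z)
  have := cjm (h.x1 a) (h.x6 1) (h.x5 z)
  rw [e, cjm, R.r15, R.r16, R.nf_mul L, R.nf_mul L, R.u_T L, R.u_T L, one_smul] at this
  have := (nf_inj h this).2.2.1
  linear_combination -this

theorem add16 (a b : J) : R.c2 (a + b) 1 = R.c2 a 1 + R.T b (R.c3 a 1) + R.f b a + R.c2 b 1 ∧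
    R.c3 (a + b) 1 = R.c3 a 1 + R.g b a + R.c3 b 1 ∧
    R.c4 (a + b) 1 = R.c4 a 1 + R.k b a + R.c4 b 1 - R.T a (R.c3 b 1) := by
  have := cja (h := h) a b (h.x6 1)
  rw [R.r16, R.r16, R.cj_nf L, R.u_T L, one_smul, one_smul] at this
  obtain ⟨e1, e2, e3, -⟩ := nf_inj h this
  exact ⟨e1, e2, by rw [e3, sub_eq_add_neg]⟩

theorem g_symm (a b : J) : R.g a b = R.g b a := by
  have e1 := (R.add16 L a b).2.1
  rw [add_comm a b, (R.add16 L b a).2.1] at e1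
  have : R.c3 a 1 + R.c3 b 1 + R.g a b = R.c3 a 1 + R.c3 b 1 + R.g b a := by
    calc _ = R.c3 b 1 + R.g a b + R.c3 a 1 := by abel
      _ = _ := by rw [e1]; abel
  exact add_left_cancel this

omit L in
theorem x4_cj {w : G} {s σ : F} (h2 : ∀ t, w⁻¹ * h.x2 t * w = h.x2 (s * t))
    (h6 : w⁻¹ * h.x6 1 * w = h.x6 σ) (r : F) : w⁻¹ * h.x4 r * w = h.x4 (s * r * σ) := by
  have e := congrArg (fun g => w⁻¹ * g * w) (h.r26 r 1)
  simp only [mul_one] at e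
  rw [cjm w (h.x4 r), h6, cjm, cjm, h6, h2, show w⁻¹ * (h.x2 r)⁻¹ * w = (w⁻¹ * h.x2 r * w)⁻¹ by group,
    h2, h.r26] at e
  exact (mul_right_cancel e).symm

omit L in
theorem th_nf {s : F} (hs : s ≠ 0) : ∃ w : G, (∀ a g, w⁻¹ * ((h.x1 a)⁻¹ * g * h.x1 a) * w =
    (h.x1 a)⁻¹ * (w⁻¹ * g * w) * h.x1 a) ∧ ∀ s' y r z t, w⁻¹ * nf h s' y r z t * w =
      nf h (s * s') (s • y) (s * r * s) (s • z) (s * t) := by
  obtain ⟨w, h1, h2, h3, h5, h6⟩ := h.th s hs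
  refine ⟨w, fun a g => ?_, fun s' y r z t => ?_⟩
  · conv_rhs => rw [← h1 a]
    group
  · rw [nf, cjm, cjm, cjm, cjm, h2, h3, h5, h6, x4_cj h2 (by rw [h6, mul_one]), nf]

omit L in
theorem T_smulr (a : J) (s : F) (y : J') : R.T a (s • y) = s * R.T a y := by
  by_cases hs : s = 0
  · simp [hs, R.T0]
  obtain ⟨w, h1, h2⟩ := th_nf (h := h) hs
  have := h1 a (h.x3 y)
  rw [R.r13', nf3, h2, h2] at this
  simp only [mul_zero, smul_zero, zero_mul] at this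
  rw [← nf3, R.r13'] at this
  exact (nf_inj h this).1.symm

omit L in
theorem g_smulr (a : J) (s : F) (z : J) : R.g a (s • z) = s • R.g a z := by
  by_cases hs : s = 0
  · simp [hs, R.fgk0]
  obtain ⟨w, h1, h2⟩ := th_nf (h := h) hs
  have := h1 a (h.x5 z)
  rw [R.r15, nf5, h2, h2] at this
  simp only [mul_zero, smul_zero, zero_mul] at this
  rw [← nf5, R.r15] at this
  exact (nf_inj h this).2.1.symm

omit L in
theorem c23 (a : J) (s : F) : R.c2 a s = s * R.c2 a 1 ∧ R.c3 a s = s • R.c3 a 1 := by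
  by_cases hs : s = 0
  · simp [hs, R.c0]
  obtain ⟨w, h1, h2⟩ := th_nf (h := h) hs
  have := h1 a (h.x6 1)
  rw [R.r16, nf6, h2, h2] at this
  simp only [mul_zero, smul_zero, zero_mul, mul_one] at this
  rw [← nf6, R.r16] at this
  exact ⟨(nf_inj h this).1.symm, (nf_inj h this).2.1.symm⟩

omit L in
theorem cj1 {w : G} {a b : J} (e : w⁻¹ * h.x1 a * w = h.x1 b) (g : G) :
    w⁻¹ * ((h.x1 a)⁻¹ * g * h.x1 a) * w = (h.x1 b)⁻¹ * (w⁻¹ * g * w) * h.x1 b := by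
  rw [← e]; group

omit L in
theorem T_smull (s : F) (a : J) (y : J') : R.T (s • a) y = s * R.T a y := by
  by_cases hs : s = 0
  · have := R.r13 0 y
    rw [h.c1.zero, inv_one, one_mul, mul_one, right_eq_mul] at this
    simp [hs, h.c2.eq_one.1 this]
  obtain ⟨w, h1, h2, h3, -⟩ := h.tk s hs
  have := cj1 (h1 a) (h.x3 y)
  rw [R.r13, cjm, h2, h3, R.r13] at this
  exact (h.c2.inj (mul_right_cancel this)).symm

theorem N_smul (s : F) (a : J) : R.c2 (s • a) 1 = s ^ 3 * R.c2 a 1 := by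
  by_cases hs : s = 0
  · simp [hs, R.c0']
  obtain ⟨w, h1, h2, -, h6⟩ := h.tk s hs
  have cm : ∀ y r z t, Commute (h.x3 y * (h.x4 r * h.x5 z)) (h.x6 t) := fun y r z t =>
    Commute.mul_left (L 6 3 rfl (by decide) (by decide) _ (h.c6.mem' t) _ (h.c3.mem' y)).symm
      (Commute.mul_left (L 6 4 rfl (by decide) (by decide) _ (h.c6.mem' t) _ (h.c4.mem' r)).symm
        (L 6 5 rfl (by decide) (by decide) _ (h.c6.mem' t) _ (h.c5.mem' z)).symm)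
  have sp : ∀ s y r z t, nf h s y r z t = h.x2 s * (h.x3 y * (h.x4 r * h.x5 z)) * h.x6 t :=
    fun s y r z t => by rw [nf]; group
  have := cj1 (h1 a) (h.x6 1)
  rw [R.r16, h6, R.r16, sp, sp, cjm, h6, cjm, h2] at this
  have e := mul_right_cancel this
  generalize hp : h.x3 _ * (h.x4 _ * h.x5 _) = p at e
  have c1 : Commute (w⁻¹ * p * w) (h.x6 1) := by
    have : h.x6 1 = w⁻¹ * h.x6 (s ^ 2) * w := by rw [h6, div_self (pow_ne_zero 2 hs)]
    rw [this, commute_iff_eq, ← cjm, ← cjm, ← hp, (cm _ _ _ _).eq]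
  have c2 : Commute (h.x2 (s * R.c2 a 1 - R.c2 (s • a) (1 / s ^ 2))) (h.x6 1) := by
    rw [sub_eq_neg_add, h.c2.add, h.c2.neg, ← mul_inv_cancel_right (h.x2 (s * _)) (w⁻¹ * p * w), e,
      mul_assoc (h.x2 _), inv_mul_cancel_left]
    exact (cm _ _ _ _).mul_left c1.inv_left
  have e2 := h.r26 (s * R.c2 a 1 - R.c2 (s • a) (1 / s ^ 2)) 1
  rw [cj c2.eq, right_eq_mul, h.c4.eq_one, (R.c23 _ (1 / s ^ 2)).1] at e2
  field_simp at e2
  linear_combination -e2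

omit L in
theorem c2_mu {a : J} (ha : a ≠ 0) (t : F) :
    h.x2 (R.c2 a t) = (x.mu 1 (h.x1 a))⁻¹ * h.x6 t * x.mu 1 (h.x1 a) := by
  obtain ⟨d, hd, e⟩ := (m6 x).key 1 _ (h.c1.mem' a) (h.c1.ne_one ha) _ (h.c6.mem' t)
  have l : ∀ {k : ℤ} {g : G}, g ∈ x.U k → 3 ≤ k → k ≤ 8 → g ∈ II x.U (2 + 1) (2 + 6) :=
    fun hg h1 h2 => le_II _ h1 h2 hg
  rw [R.r16, nf, mul_assoc _ d] at e
  exact (un x 2 (h.c2.mem' _) ((m6 x).mu_conj' 1 _ (h.c1.mem' a) (h.c1.ne_one ha) 6 _ (h.c6.mem' t))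
    (mul_mem (l (h.c3.mem' _) (by decide) (by decide)) (mul_mem (l (h.c4.mem' _) (by decide)
      (by decide)) (mul_mem (l (h.c5.mem' _) (by decide) (by decide)) (l (h.c6.mem' _) (by decide)
        (by decide))))) (mul_mem (II_mono _ (by decide) (by decide) hd)
      (l (h.c6.mem' _) (by decide) (by decide))) e).1

omit L in
theorem an (a : J) (e : R.c2 a 1 = 0) : a = 0 := by
  by_contra ha
  have := R.c2_mu ha 1
  rw [e, h.c2.zero, eq_comm, mul_assoc, inv_mul_eq_one, right_eq_mul, h.c6.eq_one] at this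
  exact one_ne_zero this

theorem sh_smul (s : F) (a : J) : R.c3 (s • a) 1 = s ^ 2 • R.c3 a 1 := by
  by_cases hs : s = 0
  · simp [hs, R.c0']
  by_cases ha : a = 0
  · simp [ha, R.c0']
  have c3 : ∀ t, t ≠ 0 → ∀ y, Commute (x.mu 6 (h.x6 t)) (h.x3 y) := fun t ht y => by
    have c : ∀ g ∈ x.U (6 + (6 : ℕ)), Commute g (h.x3 y) := fun g hg =>
      L 0 3 rfl (by decide) (by decide) g ((U_congr x (by decide)).le hg) _ (h.c3.mem' y)
    exact ((c _ (x.ka_mem (h.c6.mem' t) (h.c6.ne_one ht))).mul_left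
      (L 6 3 rfl (by decide) (by decide) _ (h.c6.mem' t) _ (h.c3.mem' y))).mul_left
      (c _ (x.la_mem (h.c6.mem' t) (h.c6.ne_one ht)))
  set m := x.mu 6 (h.x6 1) with hm
  set n := x.mu 6 (h.x6 s) with hn
  have sp : ∀ g, (n⁻¹ * m)⁻¹ * g * (n⁻¹ * m) = m⁻¹ * (n * g * n⁻¹) * m := fun g => by group
  have nm : ∀ k : ℤ, ∀ g ∈ x.U k, (n⁻¹ * m)⁻¹ * g * (n⁻¹ * m) ∈ x.U k := fun k g hg => by
    have := (m6 x).mu_conj' 6 _ (h.c6.mem' 1) (h.c6.ne_one one_ne_zero) _ _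
      (x.mu_conj (h.c6.mem' s) (h.c6.ne_one hs) hg)
    rwa [sub_sub_cancel, ← sp] at this
  have h1 : (n⁻¹ * m)⁻¹ * h.x1 a * (n⁻¹ * m) = h.x1 (s • a) := by
    rw [sp, h.m1 s a hs, ← one_smul F (s • a), ← h.m1 1 _ one_ne_zero, one_smul, ← hm]; group
  have h2 : ∀ t, (n⁻¹ * m)⁻¹ * h.x2 t * (n⁻¹ * m) = h.x2 (t * s) := fun t => by
    rw [sp, h.m2 s t hs, ← mul_one (t * s), ← h.m2 1 _ one_ne_zero, mul_one, ← hm]; group
  have h3 : ∀ y, (n⁻¹ * m)⁻¹ * h.x3 y * (n⁻¹ * m) = h.x3 y := fun y =>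
    cj ((c3 s hs y).inv_left.mul_left (c3 1 one_ne_zero y)).eq
  obtain ⟨r, h4⟩ := (h.c4.mem _).1 (nm 4 _ (h.c4.mem' (R.c4 a 1)))
  obtain ⟨z, h5⟩ := (h.c5.mem _).1 (nm 5 _ (h.c5.mem' ((1 : F) • a)))
  obtain ⟨t, h6⟩ := (h.c6.mem _).1 (nm 6 _ (h.c6.mem' 1))
  have := cj1 h1 (h.x6 1)
  rw [R.r16, nf, cjm, cjm, cjm, cjm, h2, h3, h4, h5, h6, R.r16] at this
  obtain ⟨e1, e2, -⟩ := nf_inj h this
  rw [(R.c23 _ t).1, R.N_smul L] at e1
  have e3 : s ^ 2 * t = 1 := mul_left_cancel₀ (mul_ne_zero hs fun e => ha (R.an a e)) (by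
    linear_combination -e1)
  rw [e2, (R.c23 _ t).2, smul_smul, e3, one_smul]

theorem c4_eq (a : J) (t : F) : R.c4 a t = -(t ^ 2 * R.c2 a 1) := by
  by_cases ht : t = 0
  · simp [ht, R.c0]
  by_cases ha : a = 0
  · simp [ha, R.c0']
  have b6 := h.c6.mem' t
  have b1 := h.c6.ne_one ht
  have a1 := h.c1.mem' a
  have p0 : x.U (6 + (6 : ℕ)) = x.U 0 := U_congr x (by decide)
  have hk := p0.le (x.ka_mem b6 b1)
  have z1 := h.c5.ne_one (smul_ne_zero ht ha)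
  obtain ⟨d, hd, e⟩ := (m6 x).key' 5 _ (inv_mem (h.c5.mem' (t • a))) (inv_ne_one.2 z1) _ hk
  rw [((m6 x).inv 5 _ (h.c5.mem' _) z1).2.2, inv_inv, inv_inv] at e
  have sw := fun k => sw' x b6 b1 k
  have cj5 := ((m6 x).conj 1 5 (x.mu 6 (h.x6 t))
    (fun y => ⟨fun hy => (U_congr x (by decide)).le ((sw 1).1 y hy), fun hy => by
      simpa [mul_assoc] using (Sw.inv (sw 1)).2 _ ((U_congr x (by decide)).ge hy)⟩)
    (fun y => ⟨fun hy => (sw 7).1 y hy, fun hy => by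
      simpa [mul_assoc] using (Sw.inv (sw 7)).2 _ hy⟩) _ a1 (h.c1.ne_one ha)).2.2
  rw [h.m1 t a ht] at cj5
  have e4 : x.mu 5 (h.x5 (t • a)) * x.ka 6 (h.x6 t) * (x.mu 5 (h.x5 (t • a)))⁻¹ =
      h.x4 (-(t ^ 2 * R.c2 a 1)) := by
    have e5 := R.c2_mu (neg_ne_zero.2 ha) t
    rw [h.c1.neg, ((m6 x).inv 1 _ a1 (h.c1.ne_one ha)).2.2, inv_inv, (R.c23 _ t).1,
      ← neg_one_smul F a, R.N_smul L] at e5
    rw [show -(t ^ 2 * R.c2 a 1) = t * ((-1) ^ 3 * R.c2 a 1) * t by ring, ← h.m2 t _ ht, e5, cj5]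
    have e7 := h.mka t ht
    generalize x.mu 6 (h.x6 t) = μ at e7 ⊢
    generalize x.ka 6 (h.x6 t) = κ at e7 ⊢
    rw [← e7]
    group
  rw [e4] at e
  have cl := (m6 x).adj 0 _ (p0.le (x.la_mem b6 b1)) _ a1
  have e6 : h.x1 a * (h.x2 (R.c2 a t) * h.x3 (R.c3 a t)) * h.x4 (R.c4 a t) =
      d * h.x4 (-(t ^ 2 * R.c2 a 1)) := by
    refine mul_right_cancel (b := h.x5 (t • a)) ?_
    calc _ = h.x1 a * nf h (R.c2 a t) (R.c3 a t) (R.c4 a t) (t • a) t * (h.x6 t)⁻¹ := by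
          rw [nf]; group
      _ = h.x6 t * (x.la 6 (h.x6 t) * h.x1 a) * (x.la 6 (h.x6 t))⁻¹ * (h.x6 t)⁻¹ := by
          rw [← R.r16, cl]; group
      _ = (x.ka 6 (h.x6 t))⁻¹ * (x.mu 6 (h.x6 t) * h.x1 a * (x.mu 6 (h.x6 t))⁻¹) *
          x.ka 6 (h.x6 t) := by rw [MP.mu]; group
      _ = (x.ka 6 (h.x6 t))⁻¹ * (h.x5 (t • a) * x.ka 6 (h.x6 t) * (h.x5 (t • a))⁻¹) *
          h.x5 (t • a) := by rw [h.m1 t a ht]; group
      _ = _ := by rw [e]; group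
  have l : ∀ {k : ℤ} {g : G}, g ∈ x.U k → -2 ≤ k → k ≤ 3 → g ∈ II x.U (4 - (6 : ℕ)) (4 - 1) :=
    fun hg h1 h2 => le_II _ h1 h2 hg
  have := x.disj' 4 _ (mul_mem (h.c4.mem' (R.c4 a t)) (inv_mem (h.c4.mem' (-(t ^ 2 * R.c2 a 1))))) (by
    rw [show h.x4 (R.c4 a t) * (h.x4 (-(t ^ 2 * R.c2 a 1)))⁻¹ =
      (h.x1 a * (h.x2 (R.c2 a t) * h.x3 (R.c3 a t)))⁻¹ * d by
        rw [← mul_inv_cancel_right d (h.x4 (-(t ^ 2 * R.c2 a 1))), ← e6]; group]
    exact mul_mem (inv_mem (mul_mem (l a1 (by decide) (by decide)) (mul_mem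
      (l (h.c2.mem' _) (by decide) (by decide)) (l (h.c3.mem' _) (by decide) (by decide)))))
      (II_mono _ (by decide) (by decide) hd))
  exact h.c4.inj (mul_inv_eq_one.1 this)

theorem T_sh (a : J) : R.T a (R.c3 a 1) = 3 * R.c2 a 1 := by
  have := cjm (h.x1 a) (h.x6 1) (h.x6 1)
  rw [← h.c6.add, R.r16, R.r16, R.nf_mul L, R.u_T L, R.c4_eq L, R.c4_eq L a 1, one_smul] at this
  have := (nf_inj h this).2.2.1
  linear_combination this

theorem f_eq' (a z : J) : R.f a z = R.T z (R.c3 a 1) := by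
  have e1 := (R.add16 L a a).2.1
  rw [← two_smul F a, R.sh_smul L] at e1
  have e2 : R.g a a = (2 : F) • R.c3 a 1 := by
    rw [← sub_eq_zero]
    calc _ = R.c3 a 1 + R.g a a + R.c3 a 1 - (2 : F) ^ 2 • R.c3 a 1 := by module
      _ = 0 := by rw [e1, sub_self]
  rw [R.f_eq L, R.T_cr L, e2, R.T_smulr]
  ring

/-- the cubic norm pair -/
def cp : CP F J J' where
  T := LinearMap.mk₂ F R.T (R.T_addl L) R.T_smull (R.T_addr L) fun s a y => R.T_smulr a s y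
  cr := LinearMap.mk₂ F R.g (fun a b c => by rw [R.g_symm L, R.g_addr L, R.g_symm L c, R.g_symm L c])
    (fun s a b => by rw [R.g_symm L, R.g_smulr, R.g_symm L b]) (R.g_addr L)
    fun s a b => R.g_smulr a s b
  sh a := R.c3 a 1
  N a := R.c2 a 1
  sh_add a b := by rw [(R.add16 L a b).2.1, R.g_symm L b, add_right_comm]; rfl
  sh_smul := R.sh_smul L
  N_add a b := by
    rw [(R.add16 L a b).1, R.f_eq' L]
    simp only [LinearMap.mk₂_apply]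
    ring
  N_smul := R.N_smul L
  T_cr a b c := R.T_cr L a c b
  T_sh := R.T_sh L
  an := R.an

theorem k_eq (a z : J) : R.k a z = -R.T a (R.c3 z 1) := by
  obtain ⟨e1, -, e2⟩ := R.add16 L z a
  rw [R.c4_eq L, R.c4_eq L, R.c4_eq L, e1, R.f_eq' L] at e2
  linear_combination -e2

end Raw

theorem jobH6a : JobH6a := by
  intro G _ _ x L F J J' _ _ _ _ _ ⟨h⟩
  obtain ⟨R⟩ := raw h
  refine ⟨R.cp L, ⟨⟨h.x1, h.x2, h.x3, h.x4, h.x5, h.x6, h.c1, h.c2, h.c3, h.c4, h.c5, h.c6, R.r13,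
    fun y z => ?_, fun a z => ?_, h.r26, fun a t => ?_⟩⟩⟩
  · rw [R.r35, R.u_T L]; rfl
  · rw [R.r15, R.f_eq' L, R.k_eq L, nf, h.c6.zero, mul_one, ← mul_assoc, ← mul_assoc]; rfl
  · rw [R.r16, R.c4_eq L, (R.c23 a t).1, (R.c23 a t).2, nf, ← mul_assoc, ← mul_assoc, ← mul_assoc]
    rfl

end H58.FS6
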