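/- Tower HM (blueprints/HM.md), jobs DS and Pg: dihedral and semidihedral Sylow subgroups. -/
import Cfsg.Agent.H87.HMSpec
import Cfsg.Agent.H9.R2Mod
import Cfsg.Agent.H3.Kulakoff
import Cfsg.Agent.H3.DSQAut

set_option autoImplicit false

namespace H58.HMDS
open Cfsg Cfsg.FusionSystem H92 H93 H9 H87.HM Subgroup MatrixGroups
open scoped commutatorElement

universe u

theorem jobPg : JobPg := fun m => by
  obtain ⟨K, _, _, h⟩ := exists_field_sub (m + 1)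
  obtain ⟨ζ, hζ⟩ := exists_unit_orderOf h.dvd
  have h2 := H84.two_ne_zero_of_odd_card h.odd
  have n1 : (-1 : Kˣ) ≠ 1 := fun e => h2 (by
    have := congrArg Units.val e
    simp only [Units.val_neg, Units.val_one] at this
    linear_combination -this)
  let π := QuotientGroup.mk' (center (GL (Fin 2) K))
  let J : GL (Fin 2) K := Matrix.SpecialLinearGroup.toGL (H84.slJ K)
  have sc : ∀ u : Kˣ, π (dg K (u, u)) = 1 := fun u =>
    (QuotientGroup.eq_one_iff _).mpr (mem_center_iff.mpr (dg_comm u))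
  have dd : ∀ u v : Kˣ, π (dg K (u, v)) = π (dg K (u * v⁻¹, 1)) := fun u v => by
    rw [show (u, v) = (u * v⁻¹, 1) * (v, v) by simp, map_mul, map_mul, sc, mul_one]
  have pw : ∀ n : ℕ, π (dg K (ζ, 1)) ^ n = π (dg K (ζ ^ n, 1)) := fun n => by
    rw [← map_pow, ← map_pow]; simp
  have cj : π J * π (dg K (ζ, 1)) * (π J)⁻¹ = (π (dg K (ζ, 1)))⁻¹ := by
    rw [← map_inv, ← map_mul, ← map_mul, J_dg, dd, ← map_inv, ← map_inv]; simp
  have J2 : π J ^ 2 = 1 := by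
    rw [← map_pow, ← map_pow, pow_two, H84.slJ_mul_self, ← ts_neg_one, toGL_ts, dd]
    simp [sc]
  have ord : orderOf (π (dg K (ζ, 1))) = 2 ^ (m + 1 + 1) := by
    refine orderOf_eq_of_pow (fun e => n1 ?_) (by rw [← pow_mul, ← pow_succ, pw, ← hζ]; simp [sc])
    rw [pw, pow_eq_neg_one hζ] at e
    have h3 := J_dg (K := K) (-1) 1
    rw [mem_center_iff.mp ((QuotientGroup.eq_one_iff _).mp e), mul_inv_cancel_right] at h3
    exact congrArg Prod.fst (dg_injective h3)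
  refine ⟨K, inferInstance, inferInstance, h.odd, π (dg K (ζ, 1)), π J,
    ⟨ord, by rw [cj, zpow_neg_one], by rw [J2, zpow_zero], fun e => ?_⟩, ?_, ?_⟩
  · have h3 : 2 ^ (m + 2) ∣ Nat.card (center (GL (Fin 2) K)) := by
      have := orderOf_dvd_natCard (⟨dg K (ζ, ζ), mem_center_iff.mpr (dg_comm ζ)⟩ :
        center (GL (Fin 2) K))
      rwa [orderOf_mk, orderOf_injective _ dg_injective, Prod.orderOf_mk, Nat.lcm_self, hζ] at this
    have h4 := ((V2.of_odd h.odd).mul (h.mul h.sq)).not_dvd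
    rw [← card_gl_two, card_eq_card_quotient_mul_card_subgroup (center (GL (Fin 2) K)),
      show 0 + (m + 1 + 1 + (m + 3)) + 1 = m + 1 + 2 + 1 + (m + 2) by ring, pow_add] at h4
    exact h4 (mul_dvd_mul e h3)
  · obtain ⟨g, e⟩ := isConj_iff.mp (cf_ts h.odd hζ H84.slJ_mul_self)
    refine ⟨π (Matrix.SpecialLinearGroup.toGL g), (2 ^ (m + 1) : ℕ), ?_⟩
    rw [← map_inv, ← map_mul, ← map_mul, ← map_inv, ← map_mul, ← map_mul, e, ← map_pow, toGL_ts,
      dd (ζ ^ 2 ^ m), zpow_natCast, pw, inv_inv, ← pow_two, ← pow_mul, pow_succ]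
  · rintro ⟨g, i, e⟩
    obtain ⟨t, ht, e1⟩ := h
    let χ : GL (Fin 2) K ⧸ center (GL (Fin 2) K) →* Kˣ := QuotientGroup.lift _
      ((powMonoidHom (2 ^ (m + 1) * t)).comp Matrix.GeneralLinearGroup.det) fun x hx => by
        rw [Matrix.GeneralLinearGroup.center_eq_range_scalar] at hx
        obtain ⟨u, rfl⟩ := hx
        rw [MonoidHom.mem_ker, MonoidHom.comp_apply, Matrix.GeneralLinearGroup.det_scalar,
          powMonoidHom_apply, ← pow_mul, Fintype.card_fin, ← mul_assoc, ← pow_succ', ← e1]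
        exact Units.ext (by simp [FiniteField.pow_card_sub_one_eq_one])
    have ca : χ (π (dg K (ζ, 1))) = -1 := by
      show Matrix.GeneralLinearGroup.det _ ^ _ = _
      rw [det_dg, mul_one, pow_mul, pow_eq_neg_one hζ, ht.neg_one_pow]
    have cJ : χ (π J) = 1 := by
      show Matrix.GeneralLinearGroup.det _ ^ _ = _
      simp [J]
    have h3 : (π (dg K (ζ, 1)) * π J) ^ 2 = 1 := by
      rw [show (π (dg K (ζ, 1)) * π J) ^ 2 =
        π (dg K (ζ, 1)) * (π J * π (dg K (ζ, 1)) * (π J)⁻¹) * π J ^ 2 by rw [pow_two, pow_two]; group,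
        cj, J2]
      group
    have h4 : π (dg K (ζ, 1)) ^ (i * 2) = 1 := by
      rw [zpow_mul, e, conj_zpow, zpow_ofNat, h3]; group
    rw [← orderOf_dvd_iff_zpow_eq_one, ord, pow_succ, Nat.cast_mul, Nat.cast_ofNat,
      mul_dvd_mul_iff_right two_ne_zero] at h4
    obtain ⟨r, rfl⟩ := h4
    have h5 := congrArg χ e
    rw [map_zpow, map_mul, map_mul, map_mul, map_inv, ca, cJ, mul_one, mul_inv_cancel_comm,
      zpow_mul, zpow_natCast, pow_succ', pow_mul] at h5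
    exact n1 (by simpa using h5.symm)

section
variable {Ω : Type u} [Group Ω] {S : Subgroup Ω} {F : FusionSystem S} {m : ℕ} {a b : S}

theorem swap (h : H3.DSQ m a b) (e0 : b ^ 2 = 1) (e : b * a * b⁻¹ = a⁻¹) :
    H3.DSQ m a (a * b) ∧ (a * b) ^ 2 = 1 ∧ a * b * a * (a * b)⁻¹ = a⁻¹ ∧
      (Fus F (zpowers (a : Ω)) (a * (a * b : S)) ↔ Fus F (zpowers (a : Ω)) b) := by
  have h1 : (a * b) ^ 2 = 1 := by
    calc (a * b) ^ 2 = a * (b * a * b⁻¹) * b ^ 2 := by rw [pow_two, pow_two]; group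
      _ = _ := by rw [e, e0]; group
  have h2 : a * b * a * (a * b)⁻¹ = a⁻¹ := by
    calc a * b * a * (a * b)⁻¹ = a * (b * a * b⁻¹) * a⁻¹ := by group
      _ = _ := by rw [e]; group
  have h3 : a * (a * b) = a * b * a⁻¹ := by
    calc a * (a * b) = a * (b * a * b⁻¹)⁻¹ * b := by rw [e]; group
      _ = _ := by group
  refine ⟨⟨h.card, h.ord, by simpa using h.zpow_mul_notMem 1, h.one_le, .inl ⟨h1, h2⟩⟩, h1, h2, ?_⟩
  rw [show (a : Ω) * (a * b : S) = a * b * (a : Ω)⁻¹ from congrArg Subtype.val h3]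
  exact fus_conj_iff b.2 a.2

/-- The two elements of order four in `⟨a⟩` are conjugate. -/
theorem four (h : H3.DSQ m a b) {c w : Ω} (hc : c ∈ zpowers (a : Ω)) (hw : w ∈ zpowers (a : Ω))
    (c2 : c ^ 2 = (a : Ω) ^ 2 ^ m) (w2 : w ^ 2 = (a : Ω) ^ 2 ^ m) : ∃ s ∈ S, s * c * s⁻¹ = w := by
  have key : ∀ d ∈ zpowers (a : Ω), d ^ 2 = (a : Ω) ^ 2 ^ m → d = w ∨ d = (a : Ω) ^ 2 ^ m * w :=
    fun d hd d2 => by
      have k : Commute d w⁻¹ := by
        obtain ⟨i, rfl⟩ := hd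
        obtain ⟨j, rfl⟩ := hw
        exact (Commute.zpow_zpow_self _ _ _).inv_right
      exact (DS.eq_of_sq h (mul_mem hd (inv_mem hw)) (by
        rw [k.mul_pow, inv_pow, d2, w2, mul_inv_cancel])).imp mul_inv_eq_one.mp
          mul_inv_eq_iff_eq_mul.mp
  have cS : c ∈ S := zpowers_le.mpr a.2 hc
  have hb : (b : Ω) * c * (b : Ω)⁻¹ ∈ zpowers (a : Ω) := DS.mul_mem h (mul_mem b.2 cS) (inv_mem b.2)
    (fun e => DS.notMem h ((mul_mem_cancel_right hc).mp e)) (mt inv_mem_iff.mp (DS.notMem h))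
  rcases key c hc c2 with e | e
  · exact ⟨1, one_mem _, by simpa using e⟩
  rcases key _ hb (by rw [conj_pow, c2, (DS.z_comm h b.2).mul_inv_cancel]) with e' | e'
  · exact ⟨b, b.2, e'⟩
  rcases DS.eq_of_comm h b.2 (DS.notMem h) hc (mul_inv_eq_iff_eq_mul.mp (e'.trans e.symm)) with k | k
  · exact absurd (by rw [← c2, k, one_pow]) (DS.z_ne h)
  · exact absurd (by rw [← c2, k, DS.z_sq h]) (DS.z_ne h)

theorem not_fus [Finite Ω] (hF : SatA 2 F) (ns : NS F) (h : H3.DSQ (m + 3) a b) (e0 : b ^ 2 = 1)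
    (e : b * a * b⁻¹ = a ^ ((2 : ℤ) ^ (m + 3) - 1)) : ¬ Fus F (zpowers (a : Ω)) (a * b) := by
  rintro ⟨f, hf, hy⟩
  obtain ⟨g, hg⟩ := hF.amb.conj _ f hf.le hf.mulOn hf.injOn fun _ => hf.mem
  have gm : M F (zpowers ((a : Ω) * b)) g := hf.congr hg
  rw [hg _ (mem_zpowers _)] at hy
  replace e0 : (b : Ω) ^ 2 = 1 := congrArg Subtype.val e0
  replace e : (b : Ω) * a * (b : Ω)⁻¹ = a ^ ((2 : ℤ) ^ (m + 3) - 1) := congrArg Subtype.val e
  have ord : orderOf (a : Ω) = 2 ^ (m + 3 + 1) := (orderOf_coe a).trans h.ord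
  have yS : (a : Ω) * b ∈ S := mul_mem a.2 b.2
  have y2 : ((a : Ω) * b) ^ 2 = (a : Ω) ^ 2 ^ (m + 3) := by
    calc ((a : Ω) * b) ^ 2 = (a : Ω) * ((b : Ω) * a * (b : Ω)⁻¹) * (b : Ω) ^ 2 := by
          rw [pow_two, pow_two]; group
      _ = (a : Ω) ^ ((2 ^ (m + 3) : ℕ) : ℤ) := by rw [e, e0]; push_cast; group
      _ = _ := zpow_natCast _ _
  have ya : (a : Ω) * b * a * ((a : Ω) * b)⁻¹ = a ^ ((2 : ℤ) ^ (m + 3) - 1) := by
    calc (a : Ω) * b * a * ((a : Ω) * b)⁻¹ = a * (b * a * (b : Ω)⁻¹) * (a : Ω)⁻¹ := by group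
      _ = _ := by rw [e]; group
  generalize (a : Ω) * b = y at *
  have z1 := DS.z_ne h
  have zc : ∀ s ∈ S, Commute s ((a : Ω) ^ 2 ^ (m + 3)) := fun _ => DS.z_comm h
  have c2 : (g * y * g⁻¹) ^ 2 = (a : Ω) ^ 2 ^ (m + 3) := by
    refine (DS.eq_of_sq h (pow_mem hy 2) (by
      rw [conj_pow, conj_pow, y2, DS.z_sq h]; group)).resolve_left fun k => z1 ?_
    rwa [conj_pow, y2, conj_eq_one_iff] at k
  let s : Ω := (a : Ω) ^ ((2 : ℤ) ^ m)
  have sS : s ∈ S := zpow_mem a.2 _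
  have cm : ⁅y, s * y * s⁻¹⁆ = (a : Ω) ^ (-(2 : ℤ) ^ m * (2 ^ (m + 3) - 2) ^ 2) := by
    calc ⁅y, s * y * s⁻¹⁆ = y * (s * (y * a ^ (-(2 : ℤ) ^ m) * y⁻¹) * s) * y⁻¹ * s⁻¹ := by
          simp only [s, commutatorElement_def]; group
      _ = _ := by
          rw [H3.conj_zpow_of_conj_eq_zpow ya, ← zpow_add, ← zpow_add,
            H3.conj_zpow_of_conj_eq_zpow ya, ← zpow_neg, ← zpow_add]
          congr 1; ring
  have wA : ⁅y, s * y * s⁻¹⁆ ∈ zpowers (a : Ω) := cm ▸ zpow_mem_zpowers _ _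
  have w2 : ⁅y, s * y * s⁻¹⁆ ^ 2 = (a : Ω) ^ 2 ^ (m + 3) := by
    rw [cm, ← zpow_natCast, ← zpow_mul, ← zpow_natCast, zpow_eq_zpow_iff_modEq, ord,
      Int.modEq_iff_dvd]
    exact ⟨1 - 2 ^ (m + 2) + 2 ^ (2 * m + 3), by push_cast; ring⟩
  generalize hw : ⁅y, s * y * s⁻¹⁆ = w at wA w2
  obtain ⟨t, tS, et⟩ := four h hy wA c2 w2
  have nm : ∀ {k}, Commute k ((a : Ω) ^ 2 ^ (m + 3)) → k ∈ Nm (zpowers ((a : Ω) ^ 2 ^ (m + 3))) :=
    fun c => Ct_le_Nm _ (by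
      rintro _ ⟨i, rfl⟩
      exact (c.zpow_right i).symm)
  have fu : ∀ r ∈ S, Fu F (zpowers ((a : Ω) ^ 2 ^ (m + 3))) w (r * y * r⁻¹) := fun r hr => by
    have k : t * g * y * (t * g)⁻¹ = w := by rw [← et]; group
    have k2 : Commute (t * g) ((a : Ω) ^ 2 ^ (m + 3)) := by
      have := congrArg (· ^ 2) k
      simp only [conj_pow, y2, w2] at this
      exact mul_inv_eq_iff_eq_mul.mp this
    refine ⟨r * (t * g)⁻¹, nm ((zc r hr).mul_left k2.inv_left), M.mem_mul ((gm.mem_mul tS).inv_of_le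
      ?_) hr, by rw [← k]; group⟩
    have : w ∈ cj (t * g) (zpowers y) := k ▸ conj_mem_cj _ (mem_zpowers y)
    exact sup_le (zpowers_le.mpr (w2 ▸ pow_mem this 2)) (zpowers_le.mpr this)
  refine ns _ (fun k => z1 (zpowers_eq_bot.mp k)) (zpowers_le.mpr (pow_mem a.2 _)) {y}
    {s * y * s⁻¹} ⟨_, rfl⟩ ⟨_, rfl⟩ (fun k => z1 ?_) ?_ ?_ ?_
  · rw [← y2, ← show 1 = y from k, one_pow]
  · rintro _ rfl
    exact ⟨yS, nm (zc _ yS)⟩
  · rintro _ rfl
    have := mul_mem (mul_mem sS yS) (inv_mem sS)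
    exact ⟨this, nm (zc _ this)⟩
  · rintro _ rfl _ rfl
    rw [hw]
    exact ⟨⟨_, rfl, by simpa using fu 1 (one_mem _)⟩, _, rfl, fu s sS⟩

end

theorem jobDS : JobDS.{u} := fun hP hD Ω _ _ S F x o => by
  obtain ⟨n, hn⟩ := IsPGroup.iff_card.mp o.sat.pg
  have big := o.big
  obtain ⟨n, rfl⟩ : ∃ k, n = k + 3 := Nat.exists_eq_add_of_le' (by
    rw [hn] at big
    exact (Nat.pow_le_pow_iff_right one_lt_two).mp (le_trans (by norm_num) big))
  obtain ⟨m, a, b, h⟩ := H3.exists_dsq_subgroup_of_card_centralizer hn o.mem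
    ((card_le_of_le (show S ⊓ centralizer {x} ≤ S ⊓ Ct (zpowers x) from
      inf_le_inf_left S fun y hy => by
      rintro _ ⟨i, rfl⟩
      exact (Commute.zpow_right (mem_centralizer_singleton_iff.mp hy) i).symm)).trans o.cen.le)
  obtain ⟨m, rfl⟩ : ∃ k, m = k + 2 := Nat.exists_eq_add_of_le' (by
    rw [h.card] at big
    have := (Nat.pow_le_pow_iff_right one_lt_two).mp (le_trans (by norm_num : 2 ^ 4 ≤ 16) big)
    omega)
  have xa : x ∉ zpowers (a : Ω) := fun k => by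
    have h1 : zpowers (a : Ω) ≤ S ⊓ Ct (zpowers x) := zpowers_le.mpr ⟨a.2, by
      obtain ⟨i, rfl⟩ := k
      rintro _ ⟨j, rfl⟩
      exact ((Commute.refl (a : Ω)).zpow_left i).zpow_left j⟩
    have h2 := card_le_of_le h1
    rw [o.cen, Nat.card_zpowers, orderOf_coe, h.ord, pow_add, pow_add] at h2
    have := Nat.one_le_two_pow (n := m)
    omega
  have x2 : x ^ 2 = 1 := (pow_two x).trans o.sq
  have hS : ∀ α : MulAut S, (orderOf α).Coprime 2 → α = 1 := fun α hα => by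
    rcases h.quaternion_eight_or_isPGroup_mulAut with ⟨⟨e⟩⟩ | p
    · rw [Nat.card_congr e.toEquiv, Nat.card_eq_fintype_card, QuaternionGroup.card] at big
      omega
    · obtain ⟨k, hk⟩ := p α
      exact orderOf_eq_one_iff.mp (Nat.eq_one_of_dvd_coprimes (hα.pow_right k) dvd_rfl
        (orderOf_dvd_of_pow_eq_one hk))
  have fx : Fus F (zpowers (a : Ω)) x := by
    obtain ⟨g, h1, h2⟩ := o.fus
    have h3 := h1.mem (mem_zpowers x)
    have : (⟨_, h3⟩ : S) ∈ center S := mem_center_iff.mpr fun y => Subtype.ext (h2 y y.2)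
    rw [h.center_eq] at this
    exact ⟨_, h1, zpowers_le.mpr (pow_mem (mem_zpowers _) _) (coe_mem_zpowers.mpr this)⟩
  have cl : (Fus F (zpowers (a : Ω)) b ∧ b ^ 2 = 1) ∨
      (Fus F (zpowers (a : Ω)) (a * b) ∧ (a * b) ^ 2 = 1) := by
    rcases DS.exists_conj h o.mem xa with ⟨s, hs, rfl⟩ | ⟨s, hs, rfl⟩
    · exact .inl ⟨(fus_conj_iff b.2 hs).mp fx, Subtype.ext (by
        rwa [conj_pow, conj_eq_one_iff] at x2)⟩
    · exact .inr ⟨(fus_conj_iff (a * b).2 hs).mp fx, Subtype.ext (by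
        rwa [conj_pow, conj_eq_one_iff] at x2)⟩
  have sat := o.sat.sat
  rcases h.cases with ⟨e1, e2⟩ | ⟨e1, e2⟩ | ⟨-, e1, e2⟩
  · have dih : ∃ k : ℕ, 8 ≤ k ∧ Nonempty (S ≃* DihedralGroup k) := ⟨2 ^ (m + 2 + 1), by
      have := Nat.one_le_two_pow (n := m)
      rw [pow_add, pow_add]; omega,
      H3.nonempty_mulEquiv_dihedral_of_card h.ord e1 e2 h.notMem (by rw [h.card]; ring)⟩
    have one : ∀ {b : S}, H3.DSQ (m + 2) a b → b ^ 2 = 1 → b * a * b⁻¹ = a⁻¹ →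
        Fus F (zpowers (a : Ω)) b → ¬ Fus F (zpowers (a : Ω)) (a * b) → Real F :=
      fun h e1 e2 f1 f2 => by
        obtain ⟨K, _, _, hK, a', b', D, c1, c2⟩ := hP (m + 1)
        obtain ⟨ι, k1, k2⟩ := DS.realized h sat hS D (e2.trans (zpow_neg_one a).symm)
          (e1.trans (zpow_zero a).symm) (iff_of_true f1 c1) (iff_of_false f2 c2)
        exact ⟨_, _, inferInstance, ι, k1, k2, .inl ⟨dih, K, _, _, hK, .inr ⟨MulEquiv.refl _⟩⟩⟩
    by_cases f1 : Fus F (zpowers (a : Ω)) b <;> by_cases f2 : Fus F (zpowers (a : Ω)) (a * b)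
    · obtain ⟨K, _, _, hK⟩ := exists_field_sub (m + 2 + 1)
      obtain ⟨a', b', D, c1, c2⟩ := exists_psl2 hK
      obtain ⟨ι, k1, k2⟩ := DS.realized h sat hS D (e2.trans (zpow_neg_one a).symm)
        (e1.trans (zpow_zero a).symm) (iff_of_true f1 c1) (iff_of_true f2 c2)
      exact ⟨_, _, inferInstance, ι, k1, k2, .inl ⟨dih, K, _, _, hK.odd, .inl ⟨MulEquiv.refl _⟩⟩⟩
    · exact one h e1 e2 f1 f2
    · obtain ⟨h', e3, e4, e5⟩ := swap (F := F) h e1 e2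
      exact one h' e3 e4 f2 (mt e5.mp f1)
    · exact (cl.elim (fun k => f1 k.1) fun k => f2 k.1).elim
  · have : (a * b) ^ 2 = b ^ 2 := by
      calc (a * b) ^ 2 = a * (b * a * b⁻¹) * b ^ 2 := by rw [pow_two, pow_two]; group
        _ = _ := by rw [e2]; group
    exact (h.z_ne_one (e1.symm.trans (cl.elim (fun k => k.2) fun k => this.symm.trans k.2))).elim
  have qd : IsQuasiDihedral S := ⟨m + 2 + 1, by omega, h.card, a, b, h.ord,
    orderOf_eq_prime e1 fun hb => h.notMem (hb ▸ one_mem _), e2⟩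
  have e3 : b * a * b⁻¹ = a ^ ((2 : ℤ) ^ (m + 2) - 1) := by
    rw [e2, ← zpow_natCast, Nat.cast_sub Nat.one_le_two_pow]; simp
  have e4 := e1.trans (zpow_zero a).symm
  have f1 : Fus F (zpowers (a : Ω)) b := cl.elim (fun k => k.1) fun k => (h.z_ne_one (by
    rw [← k.2]
    calc a ^ 2 ^ (m + 2) = a ^ ((2 ^ (m + 2) : ℕ) : ℤ) := (zpow_natCast _ _).symm
      _ = a * (b * a * b⁻¹) * b ^ 2 := by rw [e3, e1]; push_cast; group
      _ = _ := by rw [pow_two, pow_two]; group)).elim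
  by_cases f2 : Fus F (zpowers (a : Ω)) (a * b)
  · rcases m with _ | m
    · obtain ⟨a', b', D, c1, c2⟩ := exists_psl3_sd (K := ZMod 3) (m := 0) ⟨1, odd_one, rfl⟩
      obtain ⟨ι, k1, k2⟩ := DS.realized h sat hS D e3 e4 (iff_of_true f1 c1) (iff_of_true f2 c2)
      exact ⟨_, _, inferInstance, ι, k1, k2, .inr (.inr (.inl ⟨qd, h.card, ⟨MulEquiv.refl _⟩⟩))⟩
    · exact (not_fus o.sat o.ns h e1 e3 f2).elim
  · obtain ⟨G, _, _, a', b', D, c1, c2, k⟩ := hD m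
    obtain ⟨ι, k1, k2⟩ := DS.realized h sat hS D e3 e4 (iff_of_true f1 c1) (iff_of_false f2 c2)
    exact ⟨G, _, inferInstance, ι, k1, k2, .inr (.inl ⟨qd, k⟩)⟩

end H58.HMDS
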