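/- Tower JS (blueprints/JS.md), job T: orbits on the extraspecial group of order `128`. -/
import Cfsg.Agent.H8.JSSpec

set_option autoImplicit false
set_option maxRecDepth 100000

namespace H58.JST

open Cfsg Subgroup H98 H1.Gold H8.JS
open H4.M2 (X g y p q r s t z a h)

universe u

def gn (i : ℕ) : Fin 128 → Fin 128 :=
  match i with
  | 0 => lin 1 2 8 76 16 32
  | 1 => lin 1 11 69 72 16 32
  | 2 => lin 2 1 68 12 16 32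
  | 3 => lin 1 35 4 8 81 32
  | _ => lin 1 18 4 8 16 97

def wa : List ℕ → Fin 128 → Fin 128
  | [], c => c
  | i :: w, c => wa w (gn i c)

def T1 : List (List ℕ) := [[], [], [2], [2, 3, 2, 4], [2, 1, 2, 3, 0, 1, 2, 4], [2, 3, 0, 1, 2, 4], [0, 1, 2, 3, 2, 4],
  [0, 1, 2], [0, 1, 2, 3, 1, 2, 4], [2, 3, 2, 1, 2, 4], [1, 2, 3, 2, 4], [1, 2],
  [1, 2, 1, 2, 3, 2, 4], [2, 1, 2, 3, 2, 4], [3, 2, 1, 2, 4], [3, 3, 2, 1, 2], [3, 2, 4, 3, 3, 2],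
  [2, 4, 2], [4, 2], [3, 4, 2, 4], [1, 2, 3, 4, 0, 1, 2, 4], [2, 4, 3, 0, 1, 2, 4],
  [3, 4, 0, 1, 2, 4], [4, 0, 1, 2], [3, 2, 3, 4, 2, 1, 2, 4], [2, 4, 3, 2, 1, 2, 4],
  [3, 4, 1, 2, 4], [4, 1, 2], [3, 2, 4, 3, 1, 2, 4], [2, 3, 4, 1, 2, 4], [4, 3, 2, 1, 2, 4],
  [4, 3, 3, 2, 1, 2], [], [2, 3, 3, 2, 4], [3, 3, 2, 4], [2, 3, 2], [2, 1, 2, 3, 0, 1, 2],
  [2, 3, 0, 1, 2], [0, 1, 2, 3, 2], [3, 3, 0, 1, 2, 4], [0, 1, 2, 3, 1, 2], [2, 3, 2, 1, 2],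
  [1, 2, 3, 2], [3, 3, 1, 2, 4], [4, 2, 3, 1, 2], [2, 1, 2, 3, 2], [3, 2, 1, 2], [2, 1, 2, 4],
  [3, 2, 4, 3, 2], [2, 3, 4, 2], [3, 4, 2], [2, 4, 2, 4], [2, 1, 2, 4, 0, 1, 2, 4],
  [2, 4, 0, 1, 2, 4], [0, 1, 2, 4, 2, 4], [3, 4, 0, 1, 2], [0, 1, 2, 4, 1, 2, 4],
  [2, 4, 2, 1, 2, 4], [1, 2, 4, 2, 4], [3, 4, 1, 2], [3, 2, 4, 1, 2, 4], [2, 1, 2, 4, 2, 4],
  [4, 2, 1, 2, 4], [4, 3, 2, 1, 2], [], [2, 3, 3, 2], [3, 3, 2], [3, 2, 4], [1, 2, 3, 0, 1, 2, 4],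
  [2, 0, 1, 2, 3, 2, 4], [3, 0, 1, 2, 4], [3, 3, 0, 1, 2], [2, 1, 2, 3, 1, 2, 4],
  [1, 2, 3, 2, 1, 2, 4], [3, 1, 2, 4], [3, 3, 1, 2], [1, 2, 3, 1, 2, 4], [2, 3, 1, 2, 4],
  [3, 3, 3, 2, 1, 2, 4], [2, 1, 2], [3, 2, 4, 2], [2, 4, 3, 3, 2], [4, 3, 3, 2], [4, 3, 2, 4],
  [1, 2, 4, 3, 0, 1, 2, 4], [2, 3, 4, 0, 1, 2, 4], [4, 3, 0, 1, 2, 4], [4, 3, 3, 0, 1, 2],
  [3, 2, 4, 3, 2, 1, 2, 4], [2, 3, 4, 2, 1, 2, 4], [4, 3, 1, 2, 4], [4, 3, 3, 1, 2],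
  [1, 2, 4, 3, 1, 2, 4], [2, 4, 3, 1, 2, 4], [3, 4, 2, 1, 2, 4], [4, 2, 1, 2], [4, 2, 3, 3, 2, 4],
  [4], [2, 4], [3, 2], [1, 2, 3, 0, 1, 2], [2, 0, 1, 2, 3, 2], [3, 0, 1, 2], [0, 1, 2, 4],
  [4, 2, 3, 2, 1, 2], [1, 2, 3, 2, 1, 2], [3, 1, 2], [1, 2, 4], [1, 2, 3, 1, 2], [2, 3, 1, 2],
  [3, 3, 3, 2, 1, 2], [3, 3, 2, 1, 2, 4], [3, 2, 3, 4, 2], [2, 4, 3, 2], [4, 3, 2], [4, 2, 4],
  [1, 2, 4, 0, 1, 2, 4], [2, 0, 1, 2, 4, 2, 4], [4, 0, 1, 2, 4], [4, 3, 0, 1, 2],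
  [3, 2, 4, 2, 1, 2, 4], [1, 2, 4, 2, 1, 2, 4], [4, 1, 2, 4], [4, 3, 1, 2], [1, 2, 4, 1, 2, 4],
  [2, 4, 1, 2, 4], [4, 3, 3, 2, 1, 2, 4], [3, 4, 2, 1, 2]]

def T3 : List (List ℕ) := [[], [], [], [], [2, 4, 1, 2, 3, 0, 1, 2, 4, 3, 1, 2], [2, 3, 0, 1, 2, 4, 1, 2, 3, 1, 2], [], [],
  [0, 1, 2, 3, 1, 2, 4, 1, 2, 3, 1, 2], [0, 2, 3, 1, 2, 4, 1, 2, 3, 1, 2], [], [],
  [2, 3, 1, 2, 4, 1, 2, 3, 1, 2, 4], [2, 3, 1, 2, 4, 1, 2, 3, 1, 2], [], [], [], [], [], [],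
  [1, 2, 3, 4, 2, 0, 1, 2, 3, 4, 2], [2, 4, 3, 2, 0, 1, 2, 4, 3, 2], [], [],
  [3, 2, 3, 4, 2, 1, 2, 3, 4, 2], [2, 4, 3, 2, 1, 2, 4, 3, 2], [], [],
  [2, 3, 2, 3, 4, 2, 1, 2, 4, 2], [2, 3, 4, 1, 2, 3, 4, 2, 1, 2], [], [], [], [4], [], [], [], [],
  [], [], [], [], [], [], [], [], [], [], [], [], [], [], [2, 4, 2, 4, 0, 1, 2, 4, 2],
  [2, 4, 2, 0, 1, 2, 4, 2], [], [], [2, 4, 2, 4, 1, 2, 4, 2], [2, 4, 2, 1, 2, 4, 2], [], [],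
  [3, 2, 4, 1, 2, 4, 2, 1, 2], [2, 1, 2, 4, 2, 4, 1, 2], [], [], [], [], [], [],
  [1, 2, 3, 0, 1, 2, 4, 1, 2, 3, 1, 2], [2, 3, 0, 1, 2, 4, 1, 2, 3, 1, 2], [], [],
  [2, 4, 1, 2, 3, 1, 2, 4, 3, 0, 1, 2], [0, 2, 3, 1, 2, 4, 1, 2, 3, 1, 2], [], [],
  [1, 2, 3, 1, 2, 4, 1, 2, 3, 1, 2], [2, 3, 1, 2, 4, 1, 2, 3, 1, 2], [], [], [], [], [], [],
  [1, 2, 4, 3, 2, 0, 1, 2, 4, 3, 2], [2, 3, 4, 2, 0, 1, 2, 3, 4, 2], [], [],
  [3, 2, 4, 3, 2, 1, 2, 4, 3, 2], [2, 3, 4, 2, 1, 2, 3, 4, 2], [], [],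
  [2, 3, 2, 3, 4, 2, 1, 2, 4, 2], [2, 4, 3, 1, 2, 4, 3, 2, 1, 2], [], [], [], [4], [], [], [], [],
  [], [], [], [], [], [], [], [], [], [], [], [], [], [], [1, 2, 4, 2, 0, 1, 2, 4, 2],
  [2, 4, 2, 0, 1, 2, 4, 2], [], [], [3, 2, 4, 2, 1, 2, 4, 2], [2, 4, 2, 1, 2, 4, 2], [], [],
  [1, 2, 4, 1, 2, 4, 2, 1, 2], [2, 4, 1, 2, 4, 2, 1, 2], [], []]

theorem c1 : ∀ c : Fin 128, wa (T1.getD c []) c = if qm c c = 0 then
    (if c = 0 ∨ c = 64 then c else 1) else 32 := by decide +kernel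

theorem c3 : ∀ c : Fin 128, qm c c ≠ 0 → qm 1 c = qm c 1 → wa (T3.getD c []) 1 = 1 ∧
    (wa (T3.getD c []) c = 32 ∨ wa (T3.getD c []) c = 96) := by decide +kernel

theorem c54 : (Finset.univ.filter fun c : Fin 128 => qm c c = 0 ∧ c ≠ 0 ∧ c ≠ 64).card = 54 := by
  decide +kernel

variable {G : Type u} [Group G] {j : X →* G} {e v x : G}

theorem q0 : qq j v x 0 = 1 := by simp [qq, bt]
theorem q1 : qq j v x 1 = j p := by simp [qq, bt]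
theorem q2 : qq j v x 2 = j q := by simp [qq, bt]
theorem q32 : qq j v x 32 = v := by simp [qq, bt]
theorem q64 : qq j v x 64 = j z := by simp [qq, bt]
theorem q35 : qq j v x 35 = j p * j q * v := by simp [qq, bt]
theorem q18 : qq j v x 18 = j q * x := by simp [qq, bt]

theorem word (D : QD j e v x) (w : List ℕ) : ∃ n ∈ N1 j v x, Act j v x n (wa w) := by
  induction w with
  | nil => exact ⟨1, one_mem _, fun c => by simp [wa]⟩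
  | cons i w ih =>
    obtain ⟨n, hn, an⟩ := ih
    obtain ⟨m, hm, am⟩ : ∃ m ∈ [j y, j a, j h, up j v, up j x], Act j v x m (gn i) := by
      rcases i with _ | _ | _ | _ | i
      exacts [⟨_, by simp, D.ay⟩, ⟨_, by simp, D.aa⟩, ⟨_, by simp, D.ah⟩, ⟨_, by simp, D.av⟩,
        ⟨_, by simp, D.ax⟩]
    refine ⟨n * m, mul_mem hn (mem_sup_left (subset_closure hm)), fun c => ?_⟩
    rw [wa, ← an, ← am]
    group

theorem sq_iff (D : QD j e v x) (c : Fin 128) : qq j v x c * qq j v x c = 1 ↔ qm c c = 0 := by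
  rw [D.mul, ← q0 (j := j) (v := v) (x := x), D.inj.eq_iff]

theorem tr1 (D : QD j e v x) : ∀ u ∈ QQ j v x, u * u = 1 → u ≠ 1 → u ≠ j z →
    ∃ n ∈ N1 j v x, n * u * n⁻¹ = j p := fun u hu h1 h2 h3 => by
  obtain ⟨c, rfl⟩ := (D.mem u).mp hu
  obtain ⟨n, hn, an⟩ := word D (T1.getD c [])
  refine ⟨n, hn, ?_⟩
  rw [an, c1, if_pos ((sq_iff D c).mp h1), if_neg, q1]
  rintro (rfl | rfl)
  exacts [h2 q0, h3 q64]

theorem big [Finite G] (hj : Function.Injective j) (D : QD j e v x) : 81 ∣ Nat.card (N1 j v x) := by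
  let _ : MulAction (N1 j v x) G := MulAction.compHom G (MulAut.conj.comp (N1 j v x).subtype)
  have sm : ∀ (n : N1 j v x) (u : G), n • u = n * u * (n : G)⁻¹ := fun _ _ => rfl
  have pQ : j p ∈ QQ j v x := (D.mem _).mpr ⟨1, q1⟩
  have o : p * p = 1 ∧ p ≠ 1 ∧ p ≠ z ∧ y ^ 3 = 1 ∧ y ≠ 1 ∧ y * p = p * y := by decide +kernel
  have orb : MulAction.orbit (N1 j v x) (j p) = qq j v x ''
      (Finset.univ.filter fun c : Fin 128 => qm c c = 0 ∧ c ≠ 0 ∧ c ≠ 64) := by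
    ext u
    constructor
    · rintro ⟨n, rfl⟩
      have nn := D.n1 n.2
      obtain ⟨c, hc⟩ := (D.mem _).mp (conj_mem_of_mem_normalizer nn pQ)
      refine ⟨c, Finset.mem_coe.mpr (Finset.mem_filter.mpr ⟨Finset.mem_univ _, ?_, ?_, ?_⟩), hc⟩
      · rw [← sq_iff D, hc, conj_mul, ← map_mul, o.1, map_one, mul_one, mul_inv_cancel]
      · rintro rfl
        rw [q0, eq_comm, conj_eq_one_iff, map_eq_one_iff _ hj] at hc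
        exact o.2.1 hc
      · rintro rfl
        rw [q64, eq_mul_inv_iff_mul_eq, ← (D.all _ nn).1, mul_right_inj, hj.eq_iff] at hc
        exact o.2.2.1 hc.symm
    · rintro ⟨c, hc, rfl⟩
      obtain ⟨-, h1, h2, h3⟩ := Finset.mem_filter.mp (Finset.mem_coe.mp hc)
      obtain ⟨n, hn, en⟩ := tr1 D _ ((D.mem _).mpr ⟨c, rfl⟩) ((sq_iff D c).mpr h1)
        (fun k => h2 (D.inj (k.trans q0.symm))) fun k => h3 (D.inj (k.trans q64.symm))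
      refine ⟨⟨n⁻¹, inv_mem hn⟩, ?_⟩
      show n⁻¹ * j p * n⁻¹⁻¹ = _
      rw [← en]
      group
  have h1 := MulAction.index_stabilizer (N1 j v x) (j p)
  rw [orb, Set.ncard_image_of_injective _ D.inj, Set.ncard_coe_finset, c54] at h1
  let Y : MulAction.stabilizer (N1 j v x) (j p) :=
    ⟨⟨j y, mem_sup_left (subset_closure (by simp))⟩, by
      rw [MulAction.mem_stabilizer_iff, sm, mul_inv_eq_iff_eq_mul]
      exact (map_mul j y p).symm.trans ((congrArg j o.2.2.2.2.2).trans (map_mul j p y))⟩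
  have h2 : orderOf Y = 3 := by
    have : Fact (Nat.Prime 3) := ⟨Nat.prime_three⟩
    rw [← orderOf_coe, ← orderOf_coe]
    exact (orderOf_injective j hj y).trans (orderOf_eq_prime o.2.2.2.1 o.2.2.2.2.1)
  obtain ⟨k, hk⟩ := orderOf_dvd_natCard Y
  rw [← (MulAction.stabilizer (N1 j v x) (j p)).card_mul_index, h1, hk, h2]
  exact ⟨k * 2, by ring⟩

theorem jobT : JobT.{u} := fun G _ _ j e O v x S _ D => by
  refine ⟨tr1 D, fun u hu h1 => ?_, fun u hu w hw h1 h2 h3 h4 h5 => ?_, big S.inj D,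
    fun F hF hA => ?_⟩
  · obtain ⟨c, rfl⟩ := (D.mem u).mp hu
    obtain ⟨n, hn, an⟩ := word D (T1.getD c [])
    exact ⟨n, hn, by rw [an, c1, if_neg (mt (sq_iff D c).mpr h1), q32]⟩
  · obtain ⟨n, hn, en⟩ := tr1 D u hu h1 h2 h3
    obtain ⟨c, hc⟩ := (D.mem _).mp (conj_mem_of_mem_normalizer (D.n1 hn) hw)
    obtain ⟨m, hm, am⟩ := word D (T3.getD c [])
    obtain ⟨k1, k2⟩ := c3 c (fun k => h4 (by
      rwa [← sq_iff D, hc, conj_mul, conj_eq_one_iff] at k)) (D.inj (by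
      rw [← D.mul, ← D.mul, q1, hc, ← en, conj_mul, conj_mul, h5]))
    have cj : ∀ b, m * n * b * (m * n)⁻¹ = m * (n * b * n⁻¹) * m⁻¹ := fun b => by group
    refine ⟨m * n, mul_mem hm hn, by rw [cj, en, ← q1 (v := v) (x := x), am, k1], ?_⟩
    rw [cj, ← hc, am]
    refine k2.imp (fun k => by rw [k, q32]) fun k => ?_
    rw [k, eq_inv_iff_mul_eq_one]
    nth_rw 2 [← q32 (j := j) (v := v) (x := x)]
    rw [D.mul]
    exact q0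
  · have m : ∀ w, j w ∈ F := fun w => hA ⟨w, rfl⟩
    have hv : v ∈ F := by
      have := hF.conj_mem _ (m q) (up j v)
      rw [← q2 (v := v) (x := x), D.av] at this
      exact (mul_mem_cancel_left (mul_mem (m p) (m q))).mp (q35 (j := j) (x := x) ▸ this)
    have hx : x ∈ F := by
      have := hF.conj_mem _ (m q) (up j x)
      rw [← q2 (v := v) (x := x), D.ax] at this
      exact (mul_mem_cancel_left (m q)).mp (q18 (j := j) (v := v) ▸ this)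
    refine sup_le ((closure_le _).mpr fun b hb => ?_) ((closure_le _).mpr fun b hb => ?_)
    · simp only [Set.mem_ofPred_eq, List.mem_cons, List.not_mem_nil, or_false] at hb
      rcases hb with rfl | rfl | rfl | rfl | rfl
      exacts [m _, m _, m _, mul_mem (mul_mem (m _) hv) (inv_mem (m _)),
        mul_mem (mul_mem (m _) hx) (inv_mem (m _))]
    · simp only [Set.mem_ofPred_eq, List.mem_cons, List.not_mem_nil, or_false] at hb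
      rcases hb with rfl | rfl | rfl | rfl | rfl | rfl
      exacts [m _, m _, m _, m _, hx, hv]

end H58.JST
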