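import Cfsg.Agent.H63.KgvSpec
import Mathlib.FieldTheory.Finite.Trace
import Mathlib.FieldTheory.Finite.GaloisField
import Mathlib.NumberTheory.MulChar.Lemmas

/-! # Nested subfields of a finite field with their characters -/

set_option autoImplicit false
set_option linter.style.haveILetI false

namespace H58.KgvBR

open Finset H63.Kgv

variable {p : ℕ} [hp : Fact p.Prime]

/-- the additive characters of a finite field of characteristic `p` -/
noncomputable def ps (F : Type) [Field F] [Algebra (ZMod p) F] (t : ZMod p) : AddChar F ℂ :=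
  ((ZMod.stdAddChar (N := p)).mulShift t).compAddMonoidHom (Algebra.trace (ZMod p) F).toAddMonoidHom

theorem ps_apply (F : Type) [Field F] [Algebra (ZMod p) F] (t : ZMod p) (a : F) :
    ps F t a = ee p (t * Algebra.trace (ZMod p) F a) := rfl

variable {M : ℕ} {K : Type} [Field K] [Fintype K] [Algebra (ZMod p) K] {g : Kˣ} {θ : Kˣ →* ℂˣ}

theorem one (s : Su p M g θ) {D : ℕ} (hD : D ∣ M) (F : Type) [Field F] [Fintype F]
    [Algebra (ZMod p) F] (ι : F →+* K) (hι : ∀ x : K, x ∈ Set.range ι ↔ x ^ p ^ D = x) :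
    ∃ (χ : Kˣ → MulChar F ℂ) (γ : Fˣ), Br p M g θ D F (ps F) χ γ ∧
      ι γ = (g : K) ^ ((p ^ M - 1) / (p ^ D - 1)) := by
  classical
  have hD0 : 0 < D := Nat.pos_of_dvd_of_pos hD s.pos
  have h1 : ∀ n, 0 < n → 0 < p ^ n - 1 := fun n hn =>
    Nat.sub_pos_of_lt (Nat.one_lt_pow hn.ne' hp.out.one_lt)
  have hs : p ^ D = (p ^ D - 1) + 1 := by have := h1 D hD0; omega
  have hdv : p ^ D - 1 ∣ p ^ M - 1 := Nat.pow_sub_one_dvd_pow_sub_one p hD
  have hg : orderOf g = p ^ M - 1 := by
    rw [orderOf_eq_card_of_forall_mem_zpowers s.gen, Nat.card_units, Nat.card_eq_fintype_card, s.card]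
  set c := (p ^ M - 1) / (p ^ D - 1) with hc
  have hcm : c * (p ^ D - 1) = p ^ M - 1 := Nat.div_mul_cancel hdv
  have hc0 : 0 < c := Nat.pos_of_mul_pos_right (by rw [hcm]; exact h1 M s.pos) |> fun h => by
    rcases Nat.eq_zero_or_pos c with h0 | h0
    · rw [h0, zero_mul] at hcm; have := h1 M s.pos; omega
    · exact h0
  have hu : ∀ x : Kˣ, x ^ p ^ D = x ↔ x ^ (p ^ D - 1) = 1 := fun x => by
    conv_lhs => rw [hs, pow_succ]
    exact mul_eq_right
  have hgc : orderOf (g ^ c) = p ^ D - 1 := by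
    rw [orderOf_pow' g hc0.ne', hg, Nat.gcd_eq_right ⟨_, hcm.symm⟩]
    exact Nat.div_eq_of_eq_mul_right hc0 hcm.symm
  obtain ⟨γ0, hγ0⟩ := (hι ((g ^ c : Kˣ) : K)).2 (by
    rw [← Units.val_pow_eq_pow_val, (hu _).2 (by rw [← hgc, pow_orderOf_eq_one])])
  have hne : γ0 ≠ 0 := fun h => (g ^ c).ne_zero (by rw [← hγ0, h, map_zero])
  let γ : Fˣ := Units.mk0 γ0 hne
  let j : Fˣ →* Kˣ := Units.map ι.toMonoidHom
  have hj : Function.Injective j := Units.map_injective ι.injective
  have hjγ : j γ = g ^ c := Units.ext hγ0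
  have hγo : orderOf γ = p ^ D - 1 := by rw [← hgc, ← hjγ, orderOf_injective j hj]
  have gen : ∀ a : Fˣ, a ∈ Subgroup.zpowers γ := fun a => by
    obtain ⟨k, hk⟩ := (mem_powers_iff_mem_zpowers.2 (s.gen (j a)) : j a ∈ Submonoid.powers g)
    have hk' : g ^ k = j a := hk
    have h2 : j a ^ (p ^ D - 1) = 1 := (hu _).1 (Units.ext (by
      rw [Units.val_pow_eq_pow_val]; exact (hι _).1 ⟨a, rfl⟩))
    rw [← hk', ← pow_mul, ← orderOf_dvd_iff_pow_eq_one, hg, ← hcm] at h2
    obtain ⟨m, rfl⟩ := Nat.dvd_of_mul_dvd_mul_right (h1 D hD0) h2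
    exact ⟨m, hj (by simp only [zpow_natCast, map_pow, hjγ, ← pow_mul, hk'])⟩
  have hcu : Fintype.card Fˣ = p ^ D - 1 := by
    rw [← hγo, orderOf_eq_card_of_forall_mem_zpowers gen, Nat.card_eq_fintype_card]
  have hcF : Fintype.card F = p ^ D := by
    rw [Fintype.card_units] at hcu
    have := Fintype.card_pos (α := F)
    omega
  have hfr : Module.finrank (ZMod p) F = D := by
    have := Module.card_eq_pow_finrank (K := ZMod p) (V := F)
    rw [hcF, ZMod.card] at this
    exact (Nat.pow_right_injective hp.out.two_le this).symm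
  have hr : ∀ x : Kˣ, x ^ p ^ D = x → θ x ∈ rootsOfUnity (Fintype.card Fˣ) ℂ := fun x hx => by
    rw [mem_rootsOfUnity, hcu, ← map_pow, (hu x).1 hx, map_one]
  let χ : Kˣ → MulChar F ℂ := fun x =>
    if h : x ^ p ^ D = x then MulChar.ofRootOfUnity (hr x h) gen else 1
  have val : ∀ x : Kˣ, x ^ p ^ D = x → χ x (γ : F) = θ x := fun x hx => by
    simp only [χ, dif_pos hx]; exact MulChar.ofRootOfUnity_spec _ _
  have htr : ∀ k, tr p M g D k = Algebra.trace (ZMod p) F ((γ : F) ^ k) := fun k => by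
    have e1 : ι.comp (algebraMap (ZMod p) F) = algebraMap (ZMod p) K := RingHom.ext_zmod _ _
    have e2 := congrArg ι (FiniteField.algebraMap_trace_eq_sum_pow (ZMod p) F ((γ : F) ^ k))
    rw [← RingHom.comp_apply, e1, hfr, Nat.card_zmod, map_sum] at e2
    rw [tr, ← Function.leftInverse_invFun (algebraMap (ZMod p) K).injective
      (Algebra.trace (ZMod p) F ((γ : F) ^ k)), e2]
    congr 1
    refine sum_congr rfl fun i _ => ?_
    rw [map_pow, map_pow, pow_mul, Units.val_pow_eq_pow_val]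
    exact congrArg (fun z => (z ^ k) ^ p ^ i) hγ0.symm
  refine ⟨χ, γ, ⟨hcF, gen, val, fun t ht h => ?_, fun t r => ?_, fun t x hx => ?_⟩, ?_⟩
  · apply ZMod.isPrimitive_stdAddChar p ht
    ext a
    obtain ⟨b, rfl⟩ := Algebra.trace_surjective (ZMod p) F a
    exact DFunLike.congr_fun h b
  · ext a
    rw [AddChar.mulShift_apply, ps_apply, ps_apply, ← nsmul_eq_mul, map_nsmul, nsmul_eq_mul]
    congr 1; ring
  · rw [GG, gaussSum, ← sum_erase (a := (0 : F)) univ (by rw [MulChar.map_zero, zero_mul]), neg_inj]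
    refine sum_bij (fun k _ => (γ : F) ^ k) (fun k _ => by simp) (fun a ha b hb h => ?_)
      (fun b hb => ?_) fun k _ => ?_
    · refine pow_injOn_Iio_orderOf (x := γ) ?_ ?_ (Units.ext (by simpa using h))
      · rw [hγo]; exact mem_range.1 ha
      · rw [hγo]; exact mem_range.1 hb
    · obtain ⟨k, hk⟩ := (mem_powers_iff_mem_zpowers.2 (gen (Units.mk0 b (ne_of_mem_erase hb))) :
        _ ∈ Submonoid.powers γ)
      have hk' : γ ^ k = Units.mk0 b (ne_of_mem_erase hb) := hk
      refine ⟨k % orderOf γ, mem_range.2 (hγo ▸ Nat.mod_lt _ (hγo ▸ h1 D hD0)), ?_⟩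
      rw [← Units.val_pow_eq_pow_val, pow_mod_orderOf, hk']; rfl
    · rw [htr, ps_apply, map_pow (χ x), val x hx, mul_comm]
  · exact hγ0.trans (Units.val_pow_eq_pow_val _ _)

theorem job : JBR := by
  intro p hp M K _ _ _ g θ s D e hDe
  classical
  haveI : CharP K p := charP_of_injective_algebraMap (algebraMap (ZMod p) K).injective p
  let S : ℕ → Subfield K := fun n => (iterateFrobenius K p n).eqLocusField (RingHom.id K)
  have hS : ∀ n x, x ∈ S n ↔ x ^ p ^ n = x := fun n x => Iff.rfl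
  have hle : S D ≤ S (D * e) := fun x hx => by
    rw [hS] at hx ⊢
    induction e with
    | zero => simp
    | succ k ih =>
      clear ih
      have : ∀ k : ℕ, x ^ p ^ (D * k) = x := fun k => by
        induction k with
        | zero => simp
        | succ k ih => rw [Nat.mul_succ, pow_add, pow_mul, ih, hx]
      exact this _
  letI : ∀ n, Fintype (S n) := fun n => Fintype.ofFinite _
  letI : ∀ n, Algebra (ZMod p) (S n) := fun n => ZMod.algebra _ p
  letI : Algebra (S D) (S (D * e)) := (Subfield.inclusion hle).toAlgebra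
  haveI := IsScalarTower.of_algebraMap_eq' (R := ZMod p) (S := S D) (A := S (D * e))
    (RingHom.ext_zmod _ _)
  have hr : ∀ n (x : K), x ∈ Set.range (S n).subtype ↔ x ^ p ^ n = x := fun n x => by
    rw [← hS]; simp
  obtain ⟨χ, γ, b, hγ⟩ := one s (Dvd.dvd.trans (Dvd.intro _ rfl) hDe) (S D) (S D).subtype (hr D)
  obtain ⟨χ', γ', b', hγ'⟩ := one s hDe (S (D * e)) (S (D * e)).subtype (hr _)
  have h0 : 0 < D * e := Nat.pos_of_dvd_of_pos hDe s.pos
  refine ⟨S D, S (D * e), inferInstance, inferInstance, inferInstance, inferInstance, inferInstance,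
    ps (S D), χ, γ, ps (S (D * e)), χ', γ', b, b', ?_, ?_, fun t a => ?_⟩
  · have := Module.card_eq_pow_finrank (K := S D) (V := S (D * e))
    rw [b.card, b'.card, ← pow_mul] at this
    exact (Nat.eq_of_mul_eq_mul_left (Nat.pos_of_mul_pos_right h0 |> fun _ =>
      Nat.pos_of_ne_zero fun h => by simp [h] at h0)
      (Nat.pow_right_injective hp.out.two_le this)).symm
  · have e1 := congrArg (S (D * e)).subtype
      (FiniteField.algebraMap_norm_eq_pow (K := S D) (x := (γ' : S (D * e))))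
    rw [map_pow, hγ', Nat.card_eq_fintype_card, Nat.card_eq_fintype_card, b.card, b'.card,
      ← pow_mul] at e1
    apply (S D).subtype.injective
    rw [hγ]
    refine Eq.trans e1 ?_
    congr 1
    have d1 : p ^ (D * e) - 1 ∣ p ^ M - 1 := Nat.pow_sub_one_dvd_pow_sub_one p hDe
    have d2 : p ^ D - 1 ∣ p ^ (D * e) - 1 := Nat.pow_sub_one_dvd_pow_sub_one p (Dvd.intro _ rfl)
    exact Nat.div_mul_div d1 d2
  · rw [ps_apply, ps_apply, Algebra.trace_trace]

end H58.KgvBR
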