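/- O7 tower (S5815), slot ML2: configurations in `L₂(q)`, `q = 5, 7, 8, 9, 13`. -/
import Cfsg.Agent.H31.O7K
import Cfsg.Agent.H19.O7O4s
import Cfsg.Agent.H61.SL2Basic
import Cfsg.Agent.H55.SL2Link
import Cfsg.Agent.H88.Moebius

set_option autoImplicit false

namespace H58.O7L

open Cfsg Subgroup H31.O7
open H20.LD (cp)
open H56.SL2M (xx yy hh ww bruhat_zero hh_xx xx_add xx_zero)
open H61 (sl2 sl_mul_apply sl_inv_10 sl_inv_11)
open scoped MatrixGroups

variable {R : Type} [Field R] {Γ : Type} [Group Γ] {π : SL(2, R) →* Γ} {a b c z w : SL(2, R)}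

/-- Equality up to sign. -/
def PM (a b : SL(2, R)) : Prop := a = b ∨ a = -b

instance decPM [DecidableEq R] (a b : SL(2, R)) : Decidable (PM a b) :=
  inferInstanceAs (Decidable (a = b ∨ a = -b))

/-- The projection to the projective group. -/
structure Pr (π : SL(2, R) →* Γ) : Prop where
  surj : Function.Surjective π
  iff : ∀ a b, π a = π b ↔ PM a b

theorem exists_pr (R : Type) [Field R] [Fintype R] (F : Type) [Field F] [Fintype F]
    (h : Fintype.card R = Fintype.card F) : ∃ π : SL(2, R) →* PSL(2, F), Pr π :=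
  let e := H55.pslCongr (n := Fin 2) (FiniteField.ringEquivOfCardEq h)
  ⟨e.toMonoidHom.comp (QuotientGroup.mk' _), e.surjective.comp (QuotientGroup.mk'_surjective _),
    fun _ _ => e.injective.eq_iff.trans H61.psl_mk_eq_iff⟩

theorem borel (h : b 1 0 = 0) : ∃ s : Rˣ, ∀ t : R, b * xx t * b⁻¹ = xx (s * s * t) := by
  obtain ⟨s, u, rfl⟩ := bruhat_zero b h
  refine ⟨s, fun t => ?_⟩
  rw [mul_inv_eq_iff_eq_mul, mul_assoc, ← xx_add, add_comm, xx_add, ← mul_assoc, hh_xx, mul_assoc]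

theorem bruhat (h : a 1 0 ≠ 0) : ∃ (t : R) (b : SL(2, R)), b 1 0 = 0 ∧ a = xx t * ww * b := by
  refine ⟨a 0 0 / a 1 0, (xx (a 0 0 / a 1 0) * ww)⁻¹ * a, ?_, (mul_inv_cancel_left _ _).symm⟩
  rw [sl_mul_apply, sl_inv_10, sl_inv_11, sl_mul_apply, sl_mul_apply]
  simp [xx, ww, h]

/-- The upper unipotent subgroup. -/
def xh : Multiplicative R →* SL(2, R) := MonoidHom.mk' (fun t => xx t.toAdd) fun _ _ => xx_add _ _

namespace Pr

variable (h : Pr π)
include h

theorem eq (e : PM a b) : π a = π b := (h.iff a b).2 e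

theorem one (e : PM a 1) : π a = 1 := (h.eq e).trans (map_one π)

theorem ne (e : ¬ PM a 1) : π a ≠ 1 := fun e' => e ((h.iff a 1).1 (e'.trans (map_one π).symm))

theorem conj (c : SL(2, R)) (e : PM (cp c 1 a) b) : IsConj (π a) (π b) := by
  rw [← h.eq e, map_cp]; exact isConj_cp _ _ _

theorem a4 (e : PM (w ^ 3) 1 ∧ PM (z * cp w 1 z) (cp w 1 z * z) ∧
    PM (z * cp w 1 z * cp w 2 z) 1 ∧ ¬ PM z 1 ∧ PM (z * z) 1) : A4 (π z) (π w) where
  w3 := by rw [← map_pow, h.one e.1]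
  comm := by rw [← map_cp, Commute, SemiconjBy, ← map_mul, ← map_mul, h.eq e.2.1]
  prod := by rw [← map_cp, ← map_cp, ← map_mul, ← map_mul, h.one e.2.2.1]
  ne := h.ne e.2.2.2.1
  sq := by rw [← map_mul, h.one e.2.2.2.2]

theorem top {H : Subgroup Γ} (hx : ∀ t, π (xx t) ∈ H) (ha : π a ∈ H) (n : a 1 0 ≠ 0) :
    H = ⊤ := by
  obtain ⟨t, b, b0, rfl⟩ := bruhat n
  obtain ⟨s, h1⟩ := borel b0
  refine eq_top_iff.2 fun g _ => ?_
  obtain ⟨g, rfl⟩ := h.surj g
  refine H19.O7.sl2_gen (H.comap π) hx (fun c => ?_) g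
  have : yy c = (xx t)⁻¹ * (xx t * ww * b) * xx (-c / (s * s)) * (xx t * ww * b)⁻¹ * xx t := by
    rw [H19.O7.yy_eq, ← mul_div_cancel₀ (-c) (mul_ne_zero s.ne_zero s.ne_zero), ← h1,
      mul_div_cancel_left₀ _ (mul_ne_zero s.ne_zero s.ne_zero)]
    group
  rw [this]
  exact mul_mem (mul_mem (mul_mem (mul_mem (inv_mem (hx t)) ha) (hx _)) (inv_mem ha)) (hx t)

theorem card_U : Nat.card (π.comp xh).range = Nat.card R :=
  (Nat.card_congr (MonoidHom.ofInjective ((injective_iff_map_eq_one _).2 fun t e => by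
    rcases (h.iff _ 1).1 (e.trans (map_one π).symm) with e | e
    · exact congrFun₂ (congrArg Subtype.val e) 0 1
    · exact (congrFun₂ (congrArg Subtype.val e) 0 1).trans neg_zero)).toEquiv).symm

omit h in
theorem map_U (b0 : b 1 0 = 0) :
    (π.comp xh).range.map (MulAut.conj (π b)).toMonoidHom = (π.comp xh).range := by
  obtain ⟨s, h1⟩ := borel b0
  have k : ∀ t, MulAut.conj (π b) (π (xx t)) = π (xx (s * s * t)) := fun t => by
    rw [MulAut.conj_apply, ← h1, map_mul, map_mul, map_inv]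
  refine le_antisymm ?_ ?_
  · rintro _ ⟨_, ⟨t, rfl⟩, rfl⟩
    exact ⟨Multiplicative.ofAdd (s * s * t.toAdd), (k _).symm⟩
  · rintro _ ⟨t, rfl⟩
    refine ⟨_, ⟨Multiplicative.ofAdd (t.toAdd / (s * s)), rfl⟩, (k _).trans ?_⟩
    rw [toAdd_ofAdd, mul_div_cancel₀ _ (mul_ne_zero s.ne_zero s.ne_zero)]
    rfl

theorem conj_U (g : Γ) : (π.comp xh).range.map (MulAut.conj g).toMonoidHom = (π.comp xh).range ∨
    ∃ c ∈ (π.comp xh).range, (π.comp xh).range.map (MulAut.conj g).toMonoidHom =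
      (π.comp xh).range.map (MulAut.conj (c * π ww)).toMonoidHom := by
  obtain ⟨g, rfl⟩ := h.surj g
  by_cases n : g 1 0 = 0
  · exact .inl (map_U n)
  · obtain ⟨t, b, b0, rfl⟩ := bruhat n
    refine .inr ⟨π (xx t), ⟨Multiplicative.ofAdd t, rfl⟩, ?_⟩
    conv_rhs => rw [← map_U (π := π) b0, Subgroup.map_map]
    rw [map_mul, map_mul π, map_mul MulAut.conj]
    rfl

end Pr

theorem mem_l {x y : Γ} : x ∈ closure {x, y} := subset_closure (.inl rfl)

theorem mem_r {x y : Γ} : y ∈ closure {x, y} := subset_closure (.inr rfl)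

theorem i5 {π : SL(2, ZMod 5) →* Γ} (h : Pr π) (hc : Nat.card Γ = 60) : I5 Γ := by
  let w : SL(2, ZMod 5) := sl2 1 1 2 3 (by decide)
  refine ⟨π ww, π w, h.a4 (by decide +kernel), ?_⟩
  have : Finite Γ := Nat.finite_of_card_ne_zero (by omega)
  let f : Fin 3 × Fin 2 × Fin 2 → SL(2, ZMod 5) := fun x =>
    w ^ x.1.1 * ww ^ x.2.1.1 * (w * ww * w⁻¹) ^ x.2.2.1
  have k : ∀ x y, PM (f x) (f y) → x = y := by decide +kernel
  have h1 := Nat.card_le_card_of_injective
    (fun x => (⟨π (f x), by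
      simp only [f, map_mul, map_pow, map_inv]
      exact mul_mem (mul_mem (pow_mem mem_r _) (pow_mem mem_l _))
        (pow_mem (mul_mem (mul_mem mem_r mem_l) (inv_mem mem_r)) _)⟩ : closure {π ww, π w}))
    fun x y e => k x y ((h.iff _ _).1 (congrArg Subtype.val e))
  have h2 := (closure {π ww, π w}).card_mul_index
  simp only [Nat.card_eq_fintype_card, Fintype.card_prod, Fintype.card_fin] at h1
  by_contra! h3
  have := Nat.mul_le_mul h1 h3
  omega

theorem hz (h : Pr π) (c : SL(2, R)) (hx : ∀ t : R, ∃ m : Fin 13, xx t = xx 1 ^ m.1)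
    (h7 : Z7 (π (xx 1))) (e : A4 (π (cp c 1 ww)) (π (ww⁻¹ * xx 1))) (p : ℕ) : HZ Γ p := by
  have e1 : π ww * π (ww⁻¹ * xx 1) = π (xx 1) := by rw [← map_mul, mul_inv_cancel_left]
  refine ⟨π ww, π (ww⁻¹ * xx 1), h.top (fun t => ?_) mem_l one_ne_zero, ?_, e.w3, e1 ▸ h7,
    .inr ⟨_, h.conj c (.inl rfl), e⟩⟩
  · obtain ⟨m, hm⟩ := hx t
    rw [hm, map_pow, ← e1]
    exact pow_mem (mul_mem mem_l mem_r) _
  · rw [← map_mul]
    exact h.one (.inr (H61.sl_mul_self_of_tr_zero (add_zero _)))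

theorem hz7 {π : SL(2, ZMod 7) →* Γ} (h : Pr π) (p : ℕ) : HZ Γ p :=
  hz h (sl2 0 2 3 0 (by decide)) (by decide +kernel)
    (.inl ⟨by rw [← map_pow, h.one (by decide +kernel)], by
      rw [← map_pow]; exact h.conj (sl2 3 0 0 5 (by decide)) (by decide +kernel)⟩)
    (h.a4 (by decide +kernel)) p

instance fact13 : Fact (Nat.Prime 13) := ⟨by norm_num⟩

theorem hz13 {π : SL(2, ZMod 13) →* Γ} (h : Pr π) (p : ℕ) : HZ Γ p :=
  hz h (sl2 0 2 6 0 (by decide)) (by decide +kernel)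
    (.inr ⟨by rw [← map_pow, h.one (by decide +kernel)], by
      rw [← map_pow]; exact h.conj (sl2 4 0 0 10 (by decide)) (by decide +kernel)⟩)
    (h.a4 (by decide +kernel)) p

theorem g3 (h : Pr π) {s t : R} (c : SL(2, R)) (e : PM (cp c 1 (xx s)) (xx t))
    (hx : ∀ u : R, ∃ m n : Fin 3, xx u = xx s ^ m.1 * xx t ^ n.1)
    (n : cp ww 1 (xx s) 1 0 ≠ 0) : G3 (π (xx s)) := by
  refine ⟨_, _, _, IsConj.refl _, h.conj c e, h.conj ww (.inl rfl),
    h.top (fun u => ?_) (subset_closure (.inr (.inr rfl))) n⟩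
  obtain ⟨m, k, e⟩ := hx u
  rw [e, map_mul, map_pow, map_pow]
  exact mul_mem (pow_mem (subset_closure (.inl rfl)) _) (pow_mem (subset_closure (.inr (.inl rfl))) _)

theorem t33 {π : SL(2, H55.F9) →* Γ} (h : Pr π) : T33 Γ := by
  let c : SL(2, H55.F9) := sl2 ⟨1, 2⟩ 0 0 ⟨2, 2⟩ (by decide +kernel)
  let d : SL(2, H55.F9) := sl2 ⟨1, 1⟩ 0 0 ⟨2, 1⟩ (by decide +kernel)
  have e1 : π (xx 1) * π (xx ⟨0, 1⟩) = π (xx ⟨1, 1⟩) := by
    rw [← map_mul]; exact h.eq (by decide +kernel)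
  have e2 : π (xx 1) * (π (xx ⟨0, 1⟩))⁻¹ = π (xx ⟨1, 2⟩) := by
    rw [← map_inv, ← map_mul]; exact h.eq (by decide +kernel)
  refine ⟨π (xx 1), π (xx ⟨0, 1⟩), by rw [← map_pow, h.one (by decide +kernel)], ?_,
    h.conj c (by decide +kernel), .inl ?_,
    g3 h c (t := ⟨0, 1⟩) (by decide +kernel) (by decide +kernel) (by decide +kernel), ?_⟩
  · rw [Commute, SemiconjBy, ← map_mul, ← map_mul]; exact h.eq (by decide +kernel)
  · rw [e1, e2]; exact h.conj d (by decide +kernel)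
  · rw [e1]
    exact g3 h d (t := ⟨1, 2⟩) (by decide +kernel) (by decide +kernel) (by decide +kernel)

theorem jobML2 : JobML2 := by
  intro F _ _
  refine ⟨fun hF => ?_, fun hF p => ?_, fun hF => ?_⟩
  · obtain ⟨π, h⟩ := exists_pr (ZMod 5) F (by rw [hF, ZMod.card])
    have := H88.two_mul_card_psl_two (F := F) (by rw [hF]; decide)
    rw [hF] at this
    exact i5 h (by omega)
  · rcases hF with hF | hF
    · obtain ⟨π, h⟩ := exists_pr (ZMod 7) F (by rw [hF, ZMod.card])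
      exact hz7 h p
    · obtain ⟨π, h⟩ := exists_pr (ZMod 13) F (by rw [hF, ZMod.card])
      exact hz13 h p
  · obtain ⟨π, h⟩ := exists_pr H55.F9 F (by rw [hF, H55.card_F9])
    exact t33 h

/-- The field with eight elements, `ω³ = ω + 1`. -/
def F8 : Type := ZMod 2 × ZMod 2 × ZMod 2

instance decF8 : DecidableEq F8 := inferInstanceAs (DecidableEq (ZMod 2 × ZMod 2 × ZMod 2))
instance finF8 : Fintype F8 := inferInstanceAs (Fintype (ZMod 2 × ZMod 2 × ZMod 2))
instance acgF8 : AddCommGroup F8 := inferInstanceAs (AddCommGroup (ZMod 2 × ZMod 2 × ZMod 2))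

instance mulF8 : Mul F8 := ⟨fun x y =>
  (x.1 * y.1 + x.2.1 * y.2.2 + x.2.2 * y.2.1,
    x.1 * y.2.1 + x.2.1 * y.1 + x.2.1 * y.2.2 + x.2.2 * y.2.1 + x.2.2 * y.2.2,
    x.1 * y.2.2 + x.2.1 * y.2.1 + x.2.2 * y.1 + x.2.2 * y.2.2)⟩

instance oneF8 : One F8 := ⟨((1, 0, 0) : ZMod 2 × ZMod 2 × ZMod 2)⟩

instance ringF8 : CommRing F8 :=
  { (inferInstance : AddCommGroup F8) with
    mul_assoc := by decide +kernel
    one_mul := by decide +kernel
    mul_one := by decide +kernel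
    left_distrib := by decide +kernel
    right_distrib := by decide +kernel
    zero_mul := by decide +kernel
    mul_zero := by decide +kernel
    mul_comm := by decide +kernel }

instance fieldF8 : Field F8 :=
  { (inferInstance : CommRing F8) with
    inv := fun x => x * x * (x * x) * (x * x)
    exists_pair_ne := ⟨0, 1, by decide +kernel⟩
    mul_inv_cancel := by decide +kernel
    inv_zero := by decide +kernel
    nnqsmul := _
    nnqsmul_def := fun _ _ => rfl
    qsmul := _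
    qsmul_def := fun _ _ => rfl }

/-- the element with the given bits -/
def e8 (n : ℕ) : F8 := (((n : ℕ) : ZMod 2), ((n / 2 : ℕ) : ZMod 2), ((n / 4 : ℕ) : ZMod 2))

theorem c8 {π : SL(2, F8) →* Γ} (h : Pr π) (hc : Nat.card Γ = 504) :
    ∃ a g n x y : Γ, C8 a g n x y := by
  let g : SL(2, F8) := sl2 (e8 6) 0 0 (e8 3) (by decide +kernel)
  let y : SL(2, F8) := ww * xx 1
  let x : SL(2, F8) := xx (e8 2)
  have : Finite Γ := Nat.finite_of_card_ne_zero (by omega)
  have eU : closure {π (xx 1), cp (π g) 1 (π (xx 1)), cp (π g) 2 (π (xx 1))} =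
      (π.comp xh).range := by
    rw [← map_cp, ← map_cp]
    refine le_antisymm ((closure_le _).2 ?_) ?_
    · rintro _ (rfl | rfl | rfl)
      · exact ⟨Multiplicative.ofAdd 1, rfl⟩
      · exact ⟨Multiplicative.ofAdd (e8 2), h.eq (by decide +kernel)⟩
      · exact ⟨Multiplicative.ofAdd (e8 4), h.eq (by decide +kernel)⟩
    · rintro _ ⟨t, rfl⟩
      have k : ∀ t : F8, ∃ i j k : Fin 2,
          xx t = xx 1 ^ i.1 * cp g 1 (xx 1) ^ j.1 * cp g 2 (xx 1) ^ k.1 := by decide +kernel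
      obtain ⟨i, j, k, e⟩ := k t.toAdd
      change π (xx t.toAdd) ∈ _
      rw [e, map_mul, map_mul, map_pow, map_pow, map_pow]
      exact mul_mem (mul_mem (pow_mem (subset_closure (.inl rfl)) _)
        (pow_mem (subset_closure (.inr (.inl rfl))) _)) (pow_mem (subset_closure (.inr (.inr rfl))) _)
  have cU : Nat.card (π.comp xh).range = 8 := by
    rw [h.card_U, Nat.card_eq_fintype_card]; decide +kernel
  refine ⟨π (xx 1), π g, π ww, π x, π y,
    ⟨h.ne (by decide +kernel), ?_, ?_, ?_, ?_⟩, ?_, ?_, ?_, ?_, eU ▸ cU, fun A hA => ?_, ?_,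
    h.conj g (by decide +kernel), by rw [← map_mul], 3, by decide, ?_⟩
  · rw [← map_mul, h.one (by decide +kernel)]
  · rw [← map_cp, Commute, SemiconjBy, ← map_mul, ← map_mul]; exact h.eq (by decide +kernel)
  · rw [← map_cp, Commute, SemiconjBy, ← map_mul, ← map_mul]; exact h.eq (by decide +kernel)
  · rw [← map_cp, ← map_cp, ← map_mul]; exact h.eq (by decide +kernel)
  · rw [← map_pow, h.one (by decide +kernel)]
  · rw [← map_mul, h.one (by decide +kernel)]
  · rw [← map_inv, ← map_inv, ← map_mul, ← map_mul]; exact h.eq (by decide +kernel)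
  · rw [← map_mul, ← map_pow, h.one (by decide +kernel)]
  · rw [eU]
    have := Fact.mk Nat.prime_two
    have f : 2 ^ (Nat.card Γ).factorization 2 = 8 := by
      rw [hc, Nat.factorization_def _ Nat.prime_two, show 504 = 2 ^ 3 * 63 from rfl,
        padicValNat.mul (by norm_num) (by norm_num), padicValNat.prime_pow,
        padicValNat.eq_zero_of_not_dvd (by norm_num)]
      rfl
    obtain ⟨k, hk⟩ := MulAction.exists_smul_eq Γ (Sylow.ofCard _ (cU.trans f.symm))
      (Sylow.ofCard _ (hA.trans f.symm))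
    have : (π.comp xh).range.map (MulAut.conj k).toMonoidHom = A :=
      congrArg (fun P : Sylow 2 Γ => (P : Subgroup Γ)) hk
    rw [← this]
    exact h.conj_U k
  · have k : ∀ t : F8, t = 0 ∨ ∃ m : Fin 7, xx t = cp (y⁻¹ * x * y⁻¹ * x * y⁻¹ * x * y) m x := by
      decide +kernel
    refine h.top (fun t => ?_) mem_r (by decide +kernel)
    obtain rfl | ⟨m, e⟩ := k t
    · rw [xx_zero, map_one]; exact one_mem _
    · have : π (y⁻¹ * x * y⁻¹ * x * y⁻¹ * x * y) ∈ closure {π x, π y} := by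
        simp only [map_mul π, map_inv π]
        exact mul_mem (mul_mem (mul_mem (mul_mem (mul_mem (mul_mem (inv_mem mem_r) mem_l)
          (inv_mem mem_r)) mem_l) (inv_mem mem_r)) mem_l) mem_r
      rw [e, map_cp]
      exact mul_mem (mul_mem (pow_mem this _) mem_l) (inv_mem (pow_mem this _))
  · rw [← map_pow, ← map_mul]
    exact h.conj (sl2 1 1 (e8 3) (e8 2) (by decide +kernel)) (by decide +kernel)

theorem jobML28 : JobML28 := by
  intro F _ _ hF
  obtain ⟨π, h⟩ := exists_pr F8 F (by rw [hF]; decide +kernel)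
  have := H88.card_psl_two_of_even (F := F) (by rw [hF]; decide)
  rw [hF] at this
  exact c8 h this

end H58.O7L
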