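/- O7 tower (S5815), slot WT: weights of abelian subgroups in dimension seven. -/
import Cfsg.Agent.H31.O7K

set_option autoImplicit false

namespace H58.O7W

open H56 QuadraticMap Module Cfsg Subgroup H31.O7
open H20.LD (cp Heis)
open scoped commutatorElement

universe u

variable {K : Type u} [Field K] {V : Type u} [AddCommGroup V] [Module K V] {Q : QuadraticForm K V}
  {Γ : Type} [Group Γ] {p : ℕ} {ρ : Γ →* O Q}

theorem lin_pow (g : O Q) (n : ℕ) : (g ^ n).lin = (g.lin : End K V) ^ n := by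
  induction n with
  | zero => rw [pow_zero, pow_zero]; rfl
  | succ n ih => rw [pow_succ, pow_succ, O.lin_mul, ih]; rfl

/-- An eigenbasis for commuting elements of order prime to the characteristic. -/
theorem exists_eb [IsAlgClosed K] [FiniteDimensional K V] {m : ℕ} (hd : finrank K V = m)
    (ρ : Γ →* O Q) (A : Set Γ) (hc : ∀ a ∈ A, ∀ b ∈ A, a * b = b * a)
    (hn : ∀ a ∈ A, ∃ n : ℕ, (n : K) ≠ 0 ∧ a ^ n = 1) :
    ∃ (b : Basis (Fin m) K V) (d : Γ → Fin m → K), ∀ a ∈ A, ∀ i, ρ a (b i) = d a i • b i := by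
  have hs : ∀ a : A, Module.End.IsSemisimple (ρ a).lin := fun a => by
    obtain ⟨n, h1, h2⟩ := hn a a.2
    refine Module.End.isSemisimple_of_squarefree_aeval_eq_zero
      (Polynomial.separable_X_pow_sub_C (1 : K) h1 one_ne_zero).squarefree ?_
    rw [map_sub, map_pow, Polynomial.aeval_X, ← lin_pow, ← map_pow, h2, map_one, Polynomial.aeval_C,
      map_one]
    exact sub_self _
  have h := Module.End.iSup_iInf_maxGenEigenspace_eq_top_of_iSup_maxGenEigenspace_eq_top_of_commute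
    (fun a : A => ((ρ a).lin : End K V)) (fun i j _ => by
      change (ρ i).lin ∘ₗ (ρ j).lin = (ρ j).lin ∘ₗ (ρ i).lin
      rw [← O.lin_mul, ← O.lin_mul, ← map_mul, ← map_mul, hc i i.2 j j.2])
    fun i => Module.End.iSup_maxGenEigenspace_eq_top _
  let s : Set V := {v | ∀ a : A, ∃ c : K, ρ a v = c • v}
  have hsp : ⊤ ≤ Submodule.span K s := by
    rw [← h]
    refine iSup_le fun χ v hv => Submodule.subset_span fun i => ⟨χ i, ?_⟩
    have := (Submodule.mem_iInf _).1 hv i
    rw [(hs i).isFinitelySemisimple.maxGenEigenspace_eq_eigenspace,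
      Module.End.mem_eigenspace_iff] at this
    exact this
  let b := Module.Basis.ofSpan hsp
  have hb : ∀ j, b j ∈ s := fun j => Module.Basis.ofSpan_subset hsp ⟨j, rfl⟩
  let _ := FiniteDimensional.fintypeBasisIndex b
  have e : _ ≃ Fin m := Fintype.equivFinOfCardEq (by rw [← Module.finrank_eq_card_basis b, hd])
  have : ∀ a i, ∃ c : K, a ∈ A → ρ a (b.reindex e i) = c • b.reindex e i := fun a i => by
    by_cases ha : a ∈ A
    · obtain ⟨c, hc⟩ := hb (e.symm i) ⟨a, ha⟩
      exact ⟨c, fun _ => by rw [Basis.reindex_apply]; exact hc⟩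
    · exact ⟨0, fun h => absurd h ha⟩
  choose d hd using this
  exact ⟨_, d, fun a ha i => hd a i ha⟩

section basis

variable {ι : Type} [DecidableEq ι] (b : Basis ι K V) {g g' : O Q} {d d' : ι → K}

theorem repr_eig (h : ∀ i, g (b i) = d i • b i) (v : V) (i : ι) :
    b.repr (g v) i = d i * b.repr v i := by
  have : b.coord i ∘ₗ g.lin = d i • b.coord i := b.ext fun j => by
    by_cases e : j = i <;> simp [h, e]
  exact LinearMap.congr_fun this v

/-- The eigenvalue of an eigenvector occurs on the diagonal. -/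
theorem eig_eq (h : ∀ i, g (b i) = d i • b i) {v : V} {c : K} (e : g v = c • v) {i : ι}
    (hi : b.repr v i ≠ 0) : d i = c := by
  have := repr_eig b h v i
  rw [e, map_smul, Finsupp.smul_apply, smul_eq_mul] at this
  exact mul_right_cancel₀ hi this.symm

omit [DecidableEq ι] in
theorem exists_repr {v : V} (hv : v ≠ 0) : ∃ i, b.repr v i ≠ 0 := by
  by_contra! h
  exact hv (b.ext_elem fun i => by rw [h, map_zero]; rfl)

omit [DecidableEq ι] in
theorem exists_dual (hQ : Q.polarBilin.Nondegenerate) (i : ι) : ∃ k, polar Q (b i) (b k) ≠ 0 := by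
  by_contra! h
  refine b.ne_zero i (eq_zero_of_polar hQ fun y => ?_)
  have : Q.polarBilin (b i) = 0 := b.ext h
  exact LinearMap.congr_fun this y

theorem dual_eig {v w : V} {c e : K} (h1 : g v = c • v) (h2 : g w = e • w)
    (h : polar Q v w ≠ 0) : c * e = 1 := by
  have := g.map_polar v w
  rw [h1, h2, polar_smul_left, polar_smul_right, smul_eq_mul, smul_eq_mul, ← mul_assoc] at this
  exact mul_right_cancel₀ h (this.trans (one_mul _).symm)

theorem smul_cancel {v : V} (hv : v ≠ 0) {c e : K} (h : c • v = e • v) : c = e :=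
  smul_left_injective K hv h

theorem eig_ne {v : V} (hv : v ≠ 0) {c : K} (h : g v = c • v) : c ≠ 0 := fun e =>
  hv (g.apply_eq_zero.1 (by rw [h, e, zero_smul]))

theorem eig_mul {v : V} {c e : K} (h1 : g v = c • v) (h2 : g' v = e • v) :
    (g * g') v = (c * e) • v := by
  rw [O.mul_apply, h2, map_smul, h1, smul_smul, mul_comm]

theorem eig_pow {v : V} {c : K} (h : g v = c • v) (n : ℕ) : (g ^ n) v = c ^ n • v := by
  induction n with
  | zero => rw [pow_zero, pow_zero, one_smul]; rfl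
  | succ n ih => rw [pow_succ, pow_succ, eig_mul ih h]

theorem eig_inv {v : V} {c e : K} (h : g v = c • v) (ce : c * e = 1) : g⁻¹ v = e • v := by
  rw [O.inv_apply_eq, map_smul, h, smul_smul, mul_comm, ce, one_smul]

open scoped Classical in
theorem finrank_fix [Fintype ι] (h : ∀ i, g (b i) = d i • b i) :
    finrank K g.fix = ∑ i, if d i = 1 then 1 else 0 := by
  have e : g.fix = Submodule.span K (Set.range fun i : {i // d i = 1} => b i) := by
    rw [show (Set.range fun i : {i // d i = 1} => b i) = b '' {i | d i = 1} by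
      rw [Set.image_eq_range]; rfl]
    refine le_antisymm (fun v hv => b.mem_span_image.2 fun i hi => ?_)
      (Submodule.span_le.2 ?_)
    · exact eig_eq b h ((O.mem_fix.1 hv).trans (one_smul K v).symm) (Finsupp.mem_support_iff.1 hi)
    · rintro _ ⟨i, hi, rfl⟩
      exact O.mem_fix.2 (by rw [h, show d i = 1 from hi, one_smul])
  rw [e, finrank_span_eq_card (b := fun i : {i // d i = 1} => b i)
    (b.linearIndependent.comp _ Subtype.val_injective), Fintype.card_subtype, Finset.card_filter]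

end basis

/-- Four weights and their inverses are not all different. -/
theorem eight (h : Rp p ρ) {A : Set Γ} (b : Basis (Fin 7) K V) {d : Γ → Fin 7 → K}
    (hd : ∀ a ∈ A, ∀ i, ρ a (b i) = d a i • b i) (v : Fin 4 → V) (hv : ∀ j, v j ≠ 0)
    (χ : Fin 4 → Γ → K) (hχ : ∀ j, ∀ a ∈ A, ρ a (v j) = χ j a • v j) :
    (∃ j j', j ≠ j' ∧ ∀ a ∈ A, χ j a = χ j' a) ∨ ∃ j j', ∀ a ∈ A, χ j a * χ j' a = 1 := by
  choose s hs using fun j => exists_repr b (hv j)
  choose t ht using exists_dual b h.nd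
  have h1 : ∀ j, ∀ a ∈ A, d a (s j) = χ j a := fun j a ha =>
    eig_eq b (hd a ha) (hχ j a ha) (hs j)
  have h2 : ∀ j, ∀ a ∈ A, χ j a * d a (t (s j)) = 1 := fun j a ha => by
    rw [← h1 j a ha]; exact dual_eig (hd a ha _) (hd a ha _) (ht _)
  obtain ⟨x, y, n, e⟩ := Fintype.exists_ne_map_eq_of_card_lt
    (Sum.elim s fun j => t (s j)) (by simp)
  rcases x with j | j <;> rcases y with j' | j' <;> simp only [Sum.elim_inl, Sum.elim_inr] at e
  · exact .inl ⟨j, j', fun z => n (by rw [z]), fun a ha => by rw [← h1 j a ha, e, h1 j' a ha]⟩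
  · exact .inr ⟨j', j, fun a ha => by rw [← h1 j a ha, e, h2 j' a ha]⟩
  · exact .inr ⟨j, j', fun a ha => by rw [← h1 j' a ha, ← e, h2 j a ha]⟩
  · refine .inl ⟨j, j', fun z => n (by rw [z]), fun a ha => ?_⟩
    have := h2 j a ha
    rw [e] at this
    exact mul_right_cancel₀ (right_ne_zero_of_mul_eq_one this) (this.trans (h2 j' a ha).symm)

theorem cast_ne (h : Rp p ρ) {r : ℕ} (hr : r.Prime) (hp : r ≠ p) : (r : K) ≠ 0 := fun e => by
  have := h.char
  exact hp ((Nat.prime_dvd_prime_iff_eq h.prime hr).1 ((CharP.cast_eq_zero_iff K p r).1 e)).symm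

theorem eq_one_of (h : Rp p ρ) (b : Basis (Fin 7) K V) {a : Γ} (e : ∀ i, ρ a (b i) = b i) :
    a = 1 := h.eq_one.1 (O.ext (LinearMap.congr_fun (b.ext e : (ρ a).lin = LinearMap.id)))

variable [IsAlgClosed K] [FiniteDimensional K V]

theorem not_w7 (h : Rp p ρ) {r : ℕ} (hr : r.Prime) (hp : r ≠ p) : ¬ W7 Γ r := by
  rintro ⟨A, hA, ar, ac, n, hn, h1, h2⟩
  obtain ⟨b, d, hd⟩ := exists_eb h.dim ρ A ac fun a ha => ⟨r, cast_ne h hr hp, ar a ha⟩
  obtain ⟨⟨a, ha⟩, a1⟩ := Subgroup.ne_bot_iff_exists_ne_one.1 hA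
  refine a1 (Subtype.ext (eq_one_of h b fun i => ?_))
  rcases eight h b hd (fun j => (ρ (n j))⁻¹ (b i))
    (fun j e => b.ne_zero i ((O.apply_eq_zero _).1 e)) (fun j x => d (n j * x * (n j)⁻¹) i)
    (fun j x hx => by
      rw [← map_smul, ← hd _ (hn j x hx), ← O.mul_apply, ← O.mul_apply, ← map_inv, ← map_mul,
        ← map_mul]
      congr 2
      group) with ⟨j, j', ne, e⟩ | ⟨j, j', e⟩
  · obtain ⟨x, hx, rfl⟩ := h1 j j' ne a ha
    change ρ (_ * _⁻¹) _ = _
    have e1 := hd _ (hn j' x hx) i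
    have e2 := mul_inv_cancel₀ (eig_ne (b.ne_zero i) e1)
    rw [map_mul, map_inv, eig_mul (hd _ (hn j x hx) i) (eig_inv e1 e2), e x hx, e2, one_smul]
  · obtain ⟨x, hx, rfl⟩ := h2 j j' a ha
    change ρ (_ * _) _ = _
    rw [map_mul, eig_mul (hd _ (hn j x hx) i) (hd _ (hn j' x hx) i), e x hx, one_smul]

theorem not_heis (h : Rp p ρ) {r : ℕ} (hr : r.Prime) (hp : r ≠ p) (h5 : 5 ≤ r) {x y : Γ} :
    ¬ Heis r x y := by
  intro H
  obtain ⟨ar, br, ne, ca, cb⟩ := H
  have e1 : x * y = ⁅x, y⁆ * y * x := by rw [commutatorElement_def]; group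
  generalize ⁅x, y⁆ = c at *
  have e2 : ∀ k : ℕ, x * y ^ k = y ^ k * (c ^ k * x) := fun k => by
    induction k with
    | zero => simp
    | succ k ih =>
      rw [pow_succ y, ← mul_assoc, ih, mul_assoc, mul_assoc, e1, ← mul_assoc (c ^ k),
        ← mul_assoc (c ^ k), ← pow_succ c, (cb.pow_left _).eq, mul_assoc, mul_assoc]
  have cr : c ^ r = 1 := by
    have := e2 r
    rw [br, mul_one, one_mul] at this
    exact mul_right_cancel (this.symm.trans (one_mul x).symm)
  obtain ⟨b, d, hd⟩ := exists_eb h.dim ρ {x, c} (by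
      rintro _ (rfl | rfl) _ (rfl | rfl)
      exacts [rfl, ca.symm, ca, rfl])
    (by rintro _ (rfl | rfl) <;> exact ⟨r, cast_ne h hr hp, ‹_›⟩)
  have hx := hd x (.inl rfl)
  have hc := hd c (.inr rfl)
  refine ne (eq_one_of h b fun i => ?_)
  by_contra n
  have l1 : d c i ≠ 1 := fun e => n (by rw [hc, e, one_smul])
  have lr : d c i ^ r = 1 := smul_cancel (b.ne_zero i) (by
    rw [← eig_pow (hc i), ← map_pow, cr, map_one, one_smul]; rfl)
  have := Fact.mk hr
  have o := orderOf_eq_prime lr l1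
  classical
  by_cases xc : x = c
  · subst xc
    exact ne (mul_left_cancel (e1.symm.trans (mul_one _).symm))
  rcases eight h b hd (fun j => ρ (y ^ (j : ℕ)) (b i))
    (fun j e => b.ne_zero i ((O.apply_eq_zero _).1 e))
    (fun j a => if a = x then d c i ^ (j : ℕ) * d x i else d c i) (by
      rintro j _ (rfl | rfl)
      · rw [if_pos rfl, ← O.mul_apply, ← map_mul, e2, map_mul, O.mul_apply, map_mul, map_pow ρ c,
          eig_mul (eig_pow (hc i) _) (hx i), map_smul]
      · rw [if_neg (Ne.symm xc), ← O.mul_apply, ← map_mul, (cb.pow_right _).eq, map_mul,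
          O.mul_apply, hc, map_smul]) with ⟨j, j', nj, e⟩ | ⟨j, j', e⟩
  · have := e x (.inl rfl)
    rw [if_pos rfl, if_pos rfl] at this
    exact nj (Fin.ext (pow_injOn_Iio_orderOf (x := d c i) (by rw [o]; exact j.2.trans_le (by omega))
      (by rw [o]; exact j'.2.trans_le (by omega))
      (mul_right_cancel₀ (eig_ne (b.ne_zero i) (hx i)) this)))
  · have := e c (.inr rfl)
    rw [if_neg (Ne.symm xc), if_neg (Ne.symm xc), ← pow_two] at this
    have := Nat.le_of_dvd two_pos (o ▸ orderOf_dvd_of_pow_eq_one this)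
    omega

omit [IsAlgClosed K] in
theorem finrank_conj (h : Rp p ρ) {x y : Γ} (c : IsConj x y) :
    finrank K (ρ x).fix = finrank K (ρ y).fix := by
  have h1 := h.rk_add x
  have h2 := h.rk_add y
  have h3 := Rp.rk_conj (ρ := ρ) c
  omega

theorem exists_fix (h : Rp p ρ) {z w : Γ} (a : A4 z w) :
    ∃ v, v ≠ 0 ∧ ρ z v = v ∧ ρ (cp w 1 z) v = v := by
  have s1 : cp w 1 z ^ 2 = 1 := by rw [← cp_pow, pow_two, a.sq, cp, mul_one, mul_inv_cancel]
  have s0 : z ^ 2 = 1 := by rw [pow_two, a.sq]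
  obtain ⟨b, d, hd⟩ := exists_eb h.dim ρ {z, cp w 1 z} (by
      rintro _ (rfl | rfl) _ (rfl | rfl)
      exacts [rfl, a.comm, a.comm.symm, rfl])
    (by rintro _ (rfl | rfl) <;> exact ⟨2, by exact_mod_cast h.two, ‹_›⟩)
  have h0 := hd z (.inl rfl)
  have h1 := hd _ (.inr rfl)
  by_contra! n
  have pm : ∀ {x : Γ} {i : Fin 7}, x ^ 2 = 1 → ρ x (b i) = d x i • b i → d x i = 1 ∨ d x i = -1 :=
    fun {x i} e hx => sq_eq_one_iff.1 (smul_cancel (b.ne_zero i) (by
      rw [← eig_pow hx, ← map_pow, e, map_one, one_smul]; rfl))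
  have h2 : ∀ i, ρ (cp w 2 z)⁻¹ (b i) = (d z i * d (cp w 1 z) i) • b i := fun i => by
    rw [← eq_inv_of_mul_eq_one_left a.prod, map_mul, eig_mul (h0 i) (h1 i)]
  have f0 := finrank_fix b h0
  have f1 := finrank_fix b h1
  have f2 := finrank_fix b h2
  rw [map_inv, O.fix_inv, ← finrank_conj h (isConj_cp w z 2)] at f2
  rw [← finrank_conj h (isConj_cp w z 1)] at f1
  have m : (-1 : K) ≠ 1 := fun e => h.two (by linear_combination -e)
  classical
  have : finrank K (ρ z).fix + finrank K (ρ z).fix + finrank K (ρ z).fix = ∑ _i : Fin 7, 1 := by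
    conv_lhs => rw [f2]; enter [1]; rw [← f2, f1]; enter [1]; rw [← f1, f0]
    rw [← Finset.sum_add_distrib, ← Finset.sum_add_distrib]
    refine Finset.sum_congr rfl fun i _ => ?_
    rcases pm s0 (h0 i) with e | e <;> rcases pm s1 (h1 i) with e' | e'
    · exact absurd (by rw [h1, e', one_smul]) (n _ (b.ne_zero i) (by rw [h0, e, one_smul]))
    all_goals simp [e, e', m]
  simp only [Finset.sum_const, Finset.card_univ, Fintype.card_fin, smul_eq_mul] at this
  omega

theorem not_i5 [Finite Γ] (h : Rp p ρ) : ¬ I5 Γ := by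
  rintro ⟨z, w, a, hi⟩
  obtain ⟨v, v0, v1, v2⟩ := exists_fix h a
  let W := (ρ z).fix ⊓ (ρ (cp w 1 z)).fix
  have : Nontrivial W := Submodule.nontrivial_iff_ne_bot.2 fun e =>
    v0 ((Submodule.eq_bot_iff _).1 e v ⟨O.mem_fix.2 v1, O.mem_fix.2 v2⟩)
  have hW : ∀ u ∈ W, (ρ w).lin u ∈ W := fun u ⟨u1, u2⟩ => by
    replace u1 := O.mem_fix.1 u1
    replace u2 := O.mem_fix.1 u2
    have u3 : ρ (cp w 2 z) u = u := by
      rw [eq_inv_of_mul_eq_one_right a.prod, map_inv, O.inv_apply_eq, map_mul, O.mul_apply, u2, u1]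
    have k : ∀ m, ρ (cp w m z) u = u → ρ (cp w (m + 1) z) (ρ w u) = ρ w u := fun m e => by
      rw [← O.mul_apply, ← map_mul, show cp w (m + 1) z * w = w * cp w m z by
        rw [cp, cp]; group, map_mul, O.mul_apply, e]
    refine ⟨O.mem_fix.2 ?_, O.mem_fix.2 (k 0 (by rw [cp_zero, u1]))⟩
    have := k 2 u3
    rwa [a.toT3.cp3] at this
  obtain ⟨μ, hμ⟩ := Module.End.exists_eigenvalue ((ρ w).lin.restrict hW)
  obtain ⟨⟨u, u1, u1'⟩, hu⟩ := hμ.exists_hasEigenvector
  have u0 : u ≠ 0 := fun e => hu.2 (Subtype.ext e)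
  have u2 : ρ w u = μ • u := congrArg Subtype.val hu.apply_eq_smul
  have hH : ∀ x ∈ closure {z, w}, ∃ c : K, ρ x u = c • u := fun x hx => by
    induction hx using Subgroup.closure_induction with
    | mem x hx =>
      rcases hx with rfl | rfl
      exacts [⟨1, by rw [O.mem_fix.1 u1, one_smul]⟩, ⟨μ, u2⟩]
    | one => exact ⟨1, by rw [map_one, one_smul]; rfl⟩
    | mul x y _ _ ih ih' =>
      obtain ⟨c, hc⟩ := ih
      obtain ⟨e, he⟩ := ih'
      exact ⟨_, by rw [map_mul, eig_mul hc he]⟩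
    | inv x _ ih =>
      obtain ⟨c, hc⟩ := ih
      exact ⟨_, by rw [map_inv, eig_inv hc (mul_inv_cancel₀ (eig_ne u0 hc))]⟩
  generalize closure {z, w} = H at hi hH
  let _ := Fintype.ofFinite (Γ ⧸ H)
  have := h.eq_bot (Submodule.span K (Set.range fun q : Γ ⧸ H => ρ q.out u)) (fun x y hy => by
    refine Submodule.mem_comap (f := (ρ x).lin) |>.1 (Submodule.span_le.2 ?_ hy)
    rintro _ ⟨q, rfl⟩
    obtain ⟨⟨k, hk⟩, e⟩ := QuotientGroup.mk_out_eq_mul H (x * q.out)
    obtain ⟨c, hc⟩ := hH _ (H.inv_mem hk)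
    have : ρ x (ρ q.out u) = c • ρ ((x * q.out : Γ) : Γ ⧸ H).out u := by
      rw [← map_smul, ← hc, e, ← O.mul_apply, ← O.mul_apply, ← map_mul, ← map_mul,
        mul_inv_cancel_right]
    refine Submodule.mem_comap.2 ?_
    rw [O.lin_apply, this]
    exact Submodule.smul_mem _ _ (Submodule.subset_span ⟨_, rfl⟩))
    ((finrank_range_le_card _).trans (by rwa [← Nat.card_eq_fintype_card]))
  exact u0 ((O.apply_eq_zero _).1 ((Submodule.eq_bot_iff _).1 this _
    (Submodule.subset_span ⟨((1 : Γ) : Γ ⧸ H), rfl⟩)))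

theorem not_t33 (h : Rp p ρ) (hp : p ≠ 3) (g3 : ∀ x : Γ, G3 x → 3 ≤ (ρ x).rk) : ¬ T33 Γ := by
  rintro ⟨x, y, x3, c, cj, cj', gx, gy⟩
  have y3 : y ^ 3 = 1 := by
    obtain ⟨g, rfl⟩ := isConj_iff.1 cj
    rw [conj_pow, x3, mul_one, mul_inv_cancel]
  have n3 : (3 : K) ≠ 0 := fun e => hp (h.three.1 e)
  obtain ⟨b, d, hd⟩ := exists_eb h.dim ρ {x, y} (by
      rintro _ (rfl | rfl) _ (rfl | rfl)
      exacts [rfl, c, c.symm, rfl])
    (by rintro _ (rfl | rfl) <;> exact ⟨3, by exact_mod_cast n3, ‹_›⟩)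
  have h0 := hd x (.inl rfl)
  have h1 := hd y (.inr rfl)
  have cb : ∀ {a : Γ} {i : Fin 7}, a ^ 3 = 1 → ρ a (b i) = d a i • b i → d a i ^ 3 = 1 :=
    fun {a i} e ha => smul_cancel (b.ne_zero i) (by
      rw [← eig_pow ha, ← map_pow, e, map_one, one_smul]; rfl)
  have h2 : ∀ i, ρ (x * y) (b i) = (d x i * d y i) • b i := fun i => by
    rw [map_mul, eig_mul (h0 i) (h1 i)]
  have h3 : ∀ i, ρ (x * y⁻¹) (b i) = (d x i * d y i ^ 2) • b i := fun i => by
    rw [map_mul, map_inv, eig_mul (h0 i) (eig_inv (h1 i) (by rw [← pow_succ', cb y3 (h1 i)]))]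
  have f0 := finrank_fix b h0
  have f1 := finrank_fix b h1
  have f2 := finrank_fix b h2
  have f3 := finrank_fix b h3
  have c1 := finrank_conj h cj
  have c2 : finrank K (ρ (x * y)).fix = finrank K (ρ (x * y⁻¹)).fix := by
    rcases cj' with e | e
    · exact finrank_conj h e
    · rw [finrank_conj h e, ← O.fix_inv, ← map_inv, mul_inv_rev, inv_inv, c.inv_right.eq]
  classical
  have : finrank K (ρ x).fix + finrank K (ρ y).fix + finrank K (ρ (x * y)).fix +
      finrank K (ρ (x * y⁻¹)).fix =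
      ∑ i : Fin 7, (1 + 3 * if d x i = 1 ∧ d y i = 1 then 1 else 0) := by
    rw [f0, f1, f2, f3, ← Finset.sum_add_distrib, ← Finset.sum_add_distrib,
      ← Finset.sum_add_distrib]
    refine Finset.sum_congr rfl fun i _ => ?_
    have e0 := cb x3 (h0 i)
    have e1 := cb y3 (h1 i)
    generalize d x i = s at e0
    generalize d y i = t at e1
    by_cases s1 : s = 1 <;> by_cases t1 : t = 1
    · simp [s1, t1]
    · have : t ^ 2 ≠ 1 := fun e => t1 (by linear_combination e1 - t * e)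
      simp [s1, t1, this]
    · simp [s1, t1]
    · have q0 : s ^ 2 + s + 1 = 0 := mul_left_cancel₀ (sub_ne_zero.2 s1) (by linear_combination e0)
      have q1 : t ^ 2 + t + 1 = 0 := mul_left_cancel₀ (sub_ne_zero.2 t1) (by linear_combination e1)
      have : (s * t - 1) * (s * t ^ 2 - 1) = 0 := by
        linear_combination s ^ 2 * e1 + q0 - s * q1
      by_cases e : s * t = 1
      · have : s * t ^ 2 ≠ 1 := fun e' => t1 (by linear_combination e' - t * e)
        simp [s1, t1, e, this]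
      · have : s * t ^ 2 = 1 := sub_eq_zero.1 ((mul_eq_zero.1 this).resolve_left (sub_ne_zero.2 e))
        simp [s1, t1, e, this]
  rw [Finset.sum_add_distrib, ← Finset.mul_sum] at this
  simp only [Finset.sum_const, Finset.card_univ, Fintype.card_fin, smul_eq_mul] at this
  have a1 := h.rk_add x
  have a2 := h.rk_add (x * y)
  obtain ⟨k1, k2⟩ := h.rk_even x
  obtain ⟨k3, k4⟩ := h.rk_even (x * y)
  have := g3 _ gx
  have := g3 _ gy
  omega

theorem jobWT : JobWT.{u} := by
  intro W4 p K _ V _ _ _ Q Γ _ _ ρ h _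
  refine ⟨fun r hr hp c => ?_, not_i5 h, fun hp => not_t33 h hp (W4 p K V Q Γ ρ h).1⟩
  rcases c with c | ⟨h5, a, b, c⟩
  exacts [not_w7 h hr hp c, not_heis h hr hp h5 c]

end H58.O7W
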