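/- FS tower (S1144), chapter O8, slot E, part 1: swap rules in a Moufang octagon. -/
import Cfsg.Agent.H54.O8Kit

set_option autoImplicit false
set_option linter.unusedSectionVars false

namespace H58.O8E

open H12.BN H59.BN H63.Oc H54.O8

variable {G : Type} [Group G] [Finite G] {x : MP 8 G} {K : Type} [Field K] [CharP K 2] {T : TF K}

/-- conjugation as a homomorphism -/
def cj (m : G) : G →* G where
  toFun g := m⁻¹ * g * m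
  map_one' := by group
  map_mul' a b := by group

theorem cj_def (m g : G) : cj m g = m⁻¹ * g * m := rfl

theorem cj_cj {m : G} (h : m * m = 1) (g : G) : cj m (cj m g) = g := by
  rw [cj_def, cj_def, inv_of_sq h]
  calc _ = m * m * g * (m * m) := by group
    _ = g := by rw [h]; group

theorem swp {a b : G} (e : a * b = b * a) (z : G) : b * (a * z) = a * (b * z) := by
  rw [← mul_assoc, ← e, mul_assoc]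

theorem lft {a b y : G} (e : y⁻¹ * a * y = b) (z : G) : a * (y * z) = y * (b * z) := by
  rw [← e]; group

theorem rgt {a b y : G} (h : a * a = 1) (e : y⁻¹ * a * y = b * a) (z : G) :
    y * (a * z) = a * (y * (b * z)) := by
  calc _ = a * a * y * a * z := by rw [h]; group
    _ = a * y * (y⁻¹ * a * y) * a * z := by group
    _ = a * y * b * (a * a) * z := by rw [e]; group
    _ = _ := by rw [h]; group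

theorem un8 {a1 a2 a3 a4 a5 a6 a7 a8 b1 b2 b3 b4 b5 b6 b7 b8 : G}
    (ha : a1 ∈ x.U 1 ∧ a2 ∈ x.U 2 ∧ a3 ∈ x.U 3 ∧ a4 ∈ x.U 4 ∧ a5 ∈ x.U 5 ∧ a6 ∈ x.U 6 ∧
      a7 ∈ x.U 7 ∧ a8 ∈ x.U 8)
    (hb : b1 ∈ x.U 1 ∧ b2 ∈ x.U 2 ∧ b3 ∈ x.U 3 ∧ b4 ∈ x.U 4 ∧ b5 ∈ x.U 5 ∧ b6 ∈ x.U 6 ∧
      b7 ∈ x.U 7 ∧ b8 ∈ x.U 8)
    (e : a1 * a2 * a3 * a4 * a5 * a6 * a7 * a8 = b1 * b2 * b3 * b4 * b5 * b6 * b7 * b8) :
    a1 = b1 ∧ a2 = b2 ∧ a3 = b3 ∧ a4 = b4 ∧ a5 = b5 ∧ a6 = b6 ∧ a7 = b7 ∧ a8 = b8 := by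
  have st : ∀ {k : ℤ} {p a : G} (l : ℤ), p ∈ II x.U 1 k → a ∈ x.U l → k < l → 1 ≤ l →
      p * a ∈ II x.U 1 l := fun l hp ha _ _ => mul_mem (mono hp) (toI ha)
  obtain ⟨p1, p2, p3, p4, p5, p6, p7, p8⟩ := ha
  obtain ⟨q1, q2, q3, q4, q5, q6, q7, q8⟩ := hb
  have r1 : a1 ∈ II x.U 1 1 := toI p1
  have r2 := st 2 r1 p2 (by decide) (by decide)
  have r3 := st 3 r2 p3 (by decide) (by decide)
  have r4 := st 4 r3 p4 (by decide) (by decide)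
  have r5 := st 5 r4 p5 (by decide) (by decide)
  have r6 := st 6 r5 p6 (by decide) (by decide)
  have r7 := st 7 r6 p7 (by decide) (by decide)
  have s1 : b1 ∈ II x.U 1 1 := toI q1
  have s2 := st 2 s1 q2 (by decide) (by decide)
  have s3 := st 3 s2 q3 (by decide) (by decide)
  have s4 := st 4 s3 q4 (by decide) (by decide)
  have s5 := st 5 s4 q5 (by decide) (by decide)
  have s6 := st 6 s5 q6 (by decide) (by decide)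
  have s7 := st 7 s6 q7 (by decide) (by decide)
  obtain ⟨e, e8⟩ := un r7 s7 (toI p8 : _ ∈ II x.U 8 8) (toI q8) e
  obtain ⟨e, e7⟩ := un r6 s6 (toI p7 : _ ∈ II x.U 7 7) (toI q7) e
  obtain ⟨e, e6⟩ := un r5 s5 (toI p6 : _ ∈ II x.U 6 6) (toI q6) e
  obtain ⟨e, e5⟩ := un r4 s4 (toI p5 : _ ∈ II x.U 5 5) (toI q5) e
  obtain ⟨e, e4⟩ := un r3 s3 (toI p4 : _ ∈ II x.U 4 4) (toI q4) e
  obtain ⟨e, e3⟩ := un r2 s2 (toI p3 : _ ∈ II x.U 3 3) (toI q3) e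
  obtain ⟨e, e2⟩ := un r1 s1 (toI p2 : _ ∈ II x.U 2 2) (toI q2) e
  exact ⟨e, e2, e3, e4, e5, e6, e7, e8⟩

/-- the standing facts -/
structure Hp (x : MP 8 G) : Prop where
  A : A8 x
  C : C8 x
  D : D8 x

variable (Y : Y8 x T)

theorem mV (k : ℤ) (t : K) (h : 0 ≤ k ∧ k ≤ 8 ∧ k % 2 = 0 := by decide) : Y.X k t ∈ V x k :=
  (Y.ev k h.1 h.2.1 h.2.2).mem' t

theorem mX (k : ℤ) (t : K) (h : 0 ≤ k ∧ k ≤ 9 := by decide) : Y.X k t ∈ x.U k := by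
  by_cases e : k % 2 = 0
  · exact (mV Y k t (by omega)).1
  · exact (Y.od k (by omega) h.2 (by omega)).mem' t

theorem my (k : ℤ) (h : 0 ≤ k ∧ k ≤ 8 ∧ k % 2 = 0 := by decide) : Y.y k 1 ∈ x.U k :=
  Y.y_mem k h.1 h.2.1 h.2.2 1

theorem xadd (k : ℤ) (h : 0 ≤ k ∧ k ≤ 9) (s t : K) : Y.X k (s + t) = Y.X k s * Y.X k t := by
  by_cases e : k % 2 = 0
  · exact (Y.ev k h.1 (by omega) e).add s t
  · exact (Y.od k (by omega) h.2 (by omega)).add s t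

theorem xinj (k : ℤ) (h : 0 ≤ k ∧ k ≤ 9) : Function.Injective (Y.X k) := by
  by_cases e : k % 2 = 0
  · exact (Y.ev k h.1 (by omega) e).inj
  · exact (Y.od k (by omega) h.2 (by omega)).inj

theorem xm (k : ℤ) (h : 0 ≤ k ∧ k ≤ 9) (s t : K) (z : G) :
    Y.X k s * (Y.X k t * z) = Y.X k (s + t) * z := by rw [xadd Y k h, mul_assoc]

theorem x0 (k : ℤ) (h : 0 ≤ k ∧ k ≤ 9) : Y.X k 0 = 1 := by simpa using xadd Y k h 0 0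

theorem xsq (k : ℤ) (t : K) (h : 0 ≤ k ∧ k ≤ 9 := by decide) : Y.X k t * Y.X k t = 1 := by
  rw [← xadd Y k h, CharTwo.add_self_eq_zero, x0 Y k h]

theorem xi (k : ℤ) (h : 0 ≤ k ∧ k ≤ 9) (t : K) : (Y.X k t)⁻¹ = Y.X k t := inv_of_sq (xsq Y k t h)

theorem xne (k : ℤ) (h : 0 ≤ k ∧ k ≤ 9 := by decide) : Y.X k 1 ≠ 1 := fun e =>
  one_ne_zero (xinj Y k h (e.trans (x0 Y k h).symm))

theorem cmU (i k : ℤ) (h : 1 ≤ i ∧ i ≤ 8 ∧ (i % 2 = 0 ∧ i - 4 ≤ k ∧ k ≤ i + 4 ∨ k = i + 1 ∨ k = i - 1))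
    (t : K) {u : G} (hu : u ∈ x.U k) : u * Y.X i t = Y.X i t * u := by
  obtain ⟨h1, h2, h | h⟩ := h
  · exact V.cm (mV Y i t (by omega)) hu
  · exact adj hu (mX Y i t (by omega))

theorem xy (i k : ℤ) (h : 2 ≤ i ∧ i % 2 = 0 ∧ i ≤ k ∧ k ≤ 8 ∧ (k % 2 = 0 ∧ k ≤ i + 4 ∨ k = i + 1))
    (s : K) (z : G) : Y.X k s * (Y.y i 1 * z) = Y.y i 1 * (Y.X k s * z) ∧
      Y.X k s * ((Y.y i 1)⁻¹ * z) = (Y.y i 1)⁻¹ * (Y.X k s * z) :=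
  ⟨swp (cmU Y k i (by omega) s (my Y i (by omega))) z,
    swp (cmU Y k i (by omega) s (inv_mem (my Y i (by omega)))) z⟩

theorem yx (i k : ℤ) (h : 1 ≤ i ∧ k % 2 = 0 ∧ i < k ∧ k ≤ 8 ∧ (i % 2 = 0 ∧ k ≤ i + 4 ∨ k = i + 1))
    (s : K) (z : G) : Y.y k 1 * (Y.X i s * z) = Y.X i s * (Y.y k 1 * z) ∧
      (Y.y k 1)⁻¹ * (Y.X i s * z) = Y.X i s * ((Y.y k 1)⁻¹ * z) :=
  ⟨swp (cmU Y i k (by omega) s (my Y k (by omega))).symm z,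
    swp (cmU Y i k (by omega) s (inv_mem (my Y k (by omega)))).symm z⟩

theorem xy1 (i k : ℤ) (h : 2 ≤ i ∧ i % 2 = 0 ∧ i ≤ k ∧ k ≤ 8 ∧ (k % 2 = 0 ∧ k ≤ i + 4 ∨ k = i + 1))
    (s : K) (z : G) : Y.X k s * (Y.y i 1 * z) = Y.y i 1 * (Y.X k s * z) := (xy Y i k h s z).1
theorem xy2 (i k : ℤ) (h : 2 ≤ i ∧ i % 2 = 0 ∧ i ≤ k ∧ k ≤ 8 ∧ (k % 2 = 0 ∧ k ≤ i + 4 ∨ k = i + 1))
    (s : K) (z : G) : Y.X k s * ((Y.y i 1)⁻¹ * z) = (Y.y i 1)⁻¹ * (Y.X k s * z) := (xy Y i k h s z).2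
theorem yx1 (i k : ℤ) (h : 1 ≤ i ∧ k % 2 = 0 ∧ i < k ∧ k ≤ 8 ∧ (i % 2 = 0 ∧ k ≤ i + 4 ∨ k = i + 1))
    (s : K) (z : G) : Y.y k 1 * (Y.X i s * z) = Y.X i s * (Y.y k 1 * z) := (yx Y i k h s z).1
theorem yx2 (i k : ℤ) (h : 1 ≤ i ∧ k % 2 = 0 ∧ i < k ∧ k ≤ 8 ∧ (i % 2 = 0 ∧ k ≤ i + 4 ∨ k = i + 1))
    (s : K) (z : G) : (Y.y k 1)⁻¹ * (Y.X i s * z) = Y.X i s * ((Y.y k 1)⁻¹ * z) := (yx Y i k h s z).2

/-- the two reflections -/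
noncomputable def n1 : G := x.mu 1 (Y.X 1 1)
/-- the two reflections -/
noncomputable def n8 : G := x.mu 8 (Y.X 8 1)

theorem n1sq : n1 Y * n1 Y = 1 := (mu_of_sq (mX Y 1 1) (xne Y 1) (xsq Y 1 1)).2.2
theorem n8sq : n8 Y * n8 Y = 1 := (mu_of_sq (mX Y 8 1) (xne Y 8) (xsq Y 8 1)).2.2

theorem f1X (j : ℤ) (h : 1 ≤ j ∧ j ≤ 9) (t : K) : cj (n1 Y) (Y.X j t) = Y.X (10 - j) t := by
  by_cases e : j = 5
  · subst e; exact Y.n15 t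
  · exact Y.n1 j _ (by omega) h.1 (by omega) e t

theorem f8X (j : ℤ) (h : 0 ≤ j ∧ j ≤ 8) (t : K) : cj (n8 Y) (Y.X j t) = Y.X (8 - j) t :=
  Y.n8 j _ (by omega) h.1 (by omega) t

theorem f1y : cj (n1 Y) (Y.y 2 1) = Y.y 8 1 ∧ cj (n1 Y) (Y.y 8 1) = Y.y 2 1 ∧
    cj (n1 Y) (Y.y 6 1) = Y.y 4 1 ∧ cj (n1 Y) (Y.y 4 1) = Y.y 6 1 := by
  have h1 : cj (n1 Y) (Y.y 2 1) = Y.y 8 1 := Y.y28 1
  have h2 : cj (n1 Y) (Y.y 6 1) = Y.y 4 1 := Y.y64 1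
  exact ⟨h1, by rw [← h1, cj_cj (n1sq Y)], h2, by rw [← h2, cj_cj (n1sq Y)]⟩

variable (H : Hp x)
include H

theorem xx (i k : ℤ) (h : 1 ≤ i ∧ i < k ∧ k ≤ 8 ∧ k ≤ i + 4) (s t : K) (z : G) :
    Y.X k s * (Y.X i t * z) = Y.X i t * (Y.X k s * z) := by
  refine swp ?_ z
  by_cases e : i % 2 = 0
  · exact (cmU Y i k (by omega) t (mX Y k s (by omega))).symm
  by_cases e' : k % 2 = 0
  · exact cmU Y k i (by omega) s (mX Y i t (by omega))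
  by_cases e2 : k = i + 2
  · exact H.C.c2 i k (by omega) (Or.inl e2) _ (mX Y i t (by omega)) _ (mX Y k s (by omega))
  · exact H.C.c4 i k (by omega) (by omega) _ (mX Y i t (by omega)) _ (mX Y k s (by omega))

theorem xx' (i k : ℤ) (h : 1 ≤ i ∧ i < k ∧ k ≤ 8 ∧ k ≤ i + 4) (s t : K) (z : G) :
    Y.X k s * (Y.X i t * z) = Y.X i t * Y.X k s * z := by rw [xx Y H i k h, mul_assoc]

theorem k4 {u : G} (hu : u ∈ x.U 4) : u * x.ka 8 (Y.X 8 1) = x.ka 8 (Y.X 8 1) * u :=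
  H.D.k4 8 4 rfl (Or.inr rfl) _ (mV Y 8 1) (xne Y 8) u hu

theorem f8y : cj (n8 Y) (Y.y 6 1) = Y.y 2 1 ∧ cj (n8 Y) (Y.y 2 1) = Y.y 6 1 ∧
    cj (n8 Y) (Y.y 8 1) = Y.y 0 1 ∧ cj (n8 Y) (Y.y 0 1) = Y.y 8 1 ∧
    cj (n8 Y) (Y.y 4 1) = Y.y 4 1 := by
  have h1 : cj (n8 Y) (Y.y 6 1) = Y.y 2 1 := Y.y62 1
  have h2 : cj (n8 Y) (Y.y 8 1) = Y.y 0 1 := Y.y80 1
  refine ⟨h1, by rw [← h1, cj_cj (n8sq Y)], h2, by rw [← h2, cj_cj (n8sq Y)], ?_⟩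
  have c1 : Commute (x.ka 8 (Y.X 8 1)) (Y.y 4 1) := (k4 Y H (my Y 4)).symm
  have c2 : Commute (Y.X 8 1) (Y.y 4 1) := (V.cm (mV Y 8 1) (my Y 4)).symm
  have c : Commute (n8 Y) (Y.y 4 1) := by
    rw [n8, MP.mu, (mu_of_sq (mX Y 8 1) (xne Y 8) (xsq Y 8 1)).1]
    exact (c1.mul_left c2).mul_left c1.inv_left
  rw [cj_def, mul_assoc, ← c.eq, inv_mul_cancel_left]

/-- conjugates under `X 1` that are fixed by the first reflection -/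
theorem inv1 {g : G} (h : cj (n1 Y) g * Y.X 1 1 = Y.X 1 1 * cj (n1 Y) g) :
    cj (n1 Y) ((Y.X 1 1)⁻¹ * g * Y.X 1 1) = (Y.X 1 1)⁻¹ * g * Y.X 1 1 := by
  have a1 := mX Y 1 1
  have hk := H.A.sqU 9 rfl _ (ka_mem a1 (xne Y 1) 9)
  have hl := (mu_of_sq a1 (xne Y 1) (xsq Y 1 1)).1
  rw [inv_of_sq hk] at hl
  obtain ⟨-, e1, e2⟩ := ka_ka a1 (xne Y 1) 9
  obtain ⟨-, e3, -⟩ := la_la a1 (xne Y 1) 9
  rw [hl] at e3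
  rw [MP.mu, e1, e3] at e2
  have e4 : n1 Y = x.ka 1 (Y.X 1 1) * Y.X 1 1 * x.ka 1 (Y.X 1 1) := by rw [n1, MP.mu, hl]
  have e5 : n1 Y * Y.X 1 1 * cj (n1 Y) (Y.X 1 1) = Y.X 1 1 := by
    rw [cj_def, inv_of_sq (n1sq Y)]
    nth_rw 2 [e4]
    rw [n1, ← e2]
    have hx := xsq Y 1 1
    generalize x.ka 1 (Y.X 1 1) = κ at hk
    generalize Y.X 1 1 = a at hx
    calc _ = a * κ * (a * a) * κ * a * κ * (a * a) * κ * a := by group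
      _ = a * (κ * κ) * a * (κ * κ) * a := by rw [hx]; group
      _ = a := by rw [hk, mul_one, mul_one, hx, one_mul]
  rw [map_mul, map_mul, map_inv]
  conv_rhs => rw [← e5]
  calc _ = (cj (n1 Y) (Y.X 1 1))⁻¹ * (Y.X 1 1)⁻¹ * (Y.X 1 1 * cj (n1 Y) g) * cj (n1 Y) (Y.X 1 1) := by
        group
    _ = _ := by rw [← h, cj_def _ g]; group

/-- step 1 -/
theorem st1 : ∃ δ : K, (Y.X 1 1)⁻¹ * Y.X 8 1 * Y.X 1 1 =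
    Y.X 2 1 * Y.X 3 1 * (Y.y 4 1)⁻¹ * Y.X 5 δ * Y.y 6 1 * Y.X 7 1 * Y.X 8 1 := by
  obtain ⟨d, hd, e1⟩ := key (mX Y 1 1) (xne Y 1) (mX Y 8 1) 3 7
  obtain ⟨d', hd', e2⟩ := key' (mX Y 8 1) (xne Y 8) (mX Y 1 1) 2 6
  obtain ⟨p, hp, e, he, e3⟩ := Y.d6 1 1
  rw [Y.n1 8 2 rfl (by decide) (by decide) (by decide)] at e1
  rw [Y.n8 1 7 rfl (by decide) (by decide), xi Y 8 (by decide)] at e2
  rw [mul_one] at e3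
  obtain ⟨a2, h2, p2, hp2, rfl⟩ := spL hp 3
  obtain ⟨a3, h3, p3, hp3, rfl⟩ := spL hp2 4
  obtain ⟨a4, h4, p4, hp4, rfl⟩ := spL hp3 5
  obtain ⟨δ, rfl⟩ := ((Y.od 5 (by decide) (by decide) rfl).mem _).1 (ofI hp4)
  have m5 := mX Y 5 δ
  have e4 : a2 = Y.X 2 1 := (un (toI h2 : _ ∈ II x.U 2 2) (toI (mX Y 2 1)) (l := 3) (j := 7)
    (mul_mem (mul_mem (mul_mem (toI h3) (mul_mem (toI h4) (toI m5))) (toI (my Y 6))) (toI he)) hd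
    (mul_right_cancel (b := Y.X 8 1) (by rw [← e1, e3]; group))).1
  have e5 : e = Y.X 7 1 := (un (i := 2) (k := 6) (mul_mem (mul_mem (toI h2) (mul_mem (toI h3)
    (mul_mem (toI h4) (toI m5)))) (toI (my Y 6))) hd' (toI he : _ ∈ II x.U 7 7) (toI (mX Y 7 1))
    (mul_right_cancel (b := Y.X 8 1) (by
      rw [← e3]
      calc _ = (Y.X 1 1)⁻¹ * (Y.X 8 1 * Y.X 1 1 * Y.X 8 1) * (Y.X 8 1)⁻¹ := by group
        _ = _ := by rw [e2, xi Y 8 (by decide)]; group))).2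
  subst e4 e5
  have i1 := inv1 Y H (g := Y.X 8 1) (by
    rw [f1X Y 8 (by decide)]; exact adj (mX Y 2 1) (mX Y 1 1))
  have i2 : ((Y.X 1 1)⁻¹ * Y.X 8 1 * Y.X 1 1)⁻¹ = (Y.X 1 1)⁻¹ * Y.X 8 1 * Y.X 1 1 := by
    conv_rhs => rw [← xi Y 8 (by decide)]
    group
  have i3 : (cj (n1 Y) ((Y.X 1 1)⁻¹ * Y.X 8 1 * Y.X 1 1))⁻¹ = (Y.X 1 1)⁻¹ * Y.X 8 1 * Y.X 1 1 := by
    rw [i1, i2]
  rw [e3] at i3
  have r := rf_mu (mX Y 1 1) (xne Y 1) 10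
  have := un8 (x := x) (a1 := 1) (b1 := 1) ⟨one_mem _, mX Y 2 1, h3, h4, m5, my Y 6, mX Y 7 1, mX Y 8 1⟩
    ⟨one_mem _, mX Y 2 1, mX Y 3 1, inv_mem (my Y 4), m5, inv_mem (r.U h4 6), inv_mem (r.U h3 7),
      mX Y 8 1⟩ (by
    simp (disch := decide) only [map_mul, f1X, f1y, Int.reduceSub, mul_inv_rev, xi] at i3
    simp only [mul_assoc, one_mul] at i3 ⊢
    rw [← i3, cj_def, cj_def, n1]
    simp only [mul_assoc])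
  exact ⟨δ, by rw [e3, this.2.2.1, this.2.2.2.1]; group⟩

/-- step 2 -/
theorem st2 {δ : K} (e : (Y.X 1 1)⁻¹ * Y.X 8 1 * Y.X 1 1 =
    Y.X 2 1 * Y.X 3 1 * (Y.y 4 1)⁻¹ * Y.X 5 δ * Y.y 6 1 * Y.X 7 1 * Y.X 8 1) :
    x.ka 8 (Y.X 8 1) = Y.y 0 1 ∧ (Y.y 0 1)⁻¹ * Y.X 7 1 * Y.y 0 1 =
      Y.X 1 1 * Y.X 2 1 * Y.X 3 1 * (Y.y 4 1)⁻¹ * Y.X 5 δ * Y.y 6 1 * Y.X 7 1 := by
  have hk := ka_mem (mX Y 8 1) (xne Y 8) 0
  have e1 := cj_ka (mX Y 8 1) (xne Y 8) (xsq Y 8 1) (Y.X 1 1)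
  rw [Y.n8 1 7 rfl (by decide) (by decide), mul_assoc _ (Y.X 1 1), ← adj hk (mX Y 1 1),
    inv_mul_cancel_left] at e1
  have e2 : (x.ka 8 (Y.X 8 1))⁻¹ * Y.X 7 1 * x.ka 8 (Y.X 8 1) =
      Y.X 1 1 * Y.X 2 1 * Y.X 3 1 * (Y.y 4 1)⁻¹ * Y.X 5 δ * Y.y 6 1 * Y.X 7 1 := by
    rw [← e1, xi Y 8 (by decide)]
    calc _ = Y.X 1 1 * ((Y.X 1 1)⁻¹ * Y.X 8 1 * Y.X 1 1) * Y.X 8 1 := by group
      _ = _ := by
        rw [e, mul_assoc, mul_assoc _ (Y.X 8 1), xsq Y 8 1]; group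
  obtain ⟨d, hd, e3⟩ := key' (mX Y 7 1) (xne Y 7) hk 1 5
  have r8 := rf_mu (mX Y 8 1) (xne Y 8) 8
  have m7 := (r8.mu (mX Y 1 1) (xne Y 1) 7).2.2
  rw [Y.n8 1 7 rfl (by decide) (by decide)] at m7
  have e4 := (un (i := 1) (k := 5) (mul_mem (mul_mem (mul_mem (mul_mem (toI (mX Y 1 1))
    (toI (mX Y 2 1))) (toI (mX Y 3 1))) (toI (inv_mem (my Y 4)))) (toI (mX Y 5 δ))) hd
    (toI (my Y 6) : _ ∈ II x.U 6 6) (toI ((rf_mu (mX Y 7 1) (xne Y 7) 6).U hk 6))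
    (mul_left_cancel (a := x.ka 8 (Y.X 8 1)) (by
      rw [← mul_assoc _ d, ← e3, xi Y 7 (by decide), ← mul_inv_cancel_right (_ * Y.y 6 1) (Y.X 7 1),
        ← e2, xi Y 7 (by decide)]
      group))).2
  have e5 : Y.y 6 1 = cj (n8 Y) (cj (n1 Y) (cj (n8 Y) (x.ka 8 (Y.X 8 1)))) := by
    rw [e4, m7, cj_def, cj_def, cj_def, inv_of_sq (n8sq Y), ← n8, ← n1, mul_inv_rev, mul_inv_rev,
      inv_inv, inv_of_sq (n8sq Y)]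
    group
  have e6 : x.ka 8 (Y.X 8 1) = Y.y 0 1 := by
    rw [← (f8y Y H).2.2.1, ← (f1y Y).1, ← (f8y Y H).1, e5, cj_cj (n8sq Y), cj_cj (n1sq Y),
      cj_cj (n8sq Y)]
  exact ⟨e6, e6 ▸ e2⟩

end H58.O8E
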