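/- FS tower (S1144), chapter O8, slot E, part 2: the relations for the parameters `1, 1`. -/
import Cfsg.Agent.H58.O8E1

set_option autoImplicit false
set_option linter.unusedSectionVars false
set_option linter.unusedSimpArgs false

namespace H58.O8E

open H12.BN H59.BN H63.Oc H54.O8 H54.Par

variable {G : Type} [Group G] [Finite G] {x : MP 8 G} {K : Type} [Field K] [CharP K 2] {T : TF K}
  (Y : Y8 x T) (H : Hp x)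
include H

theorem kY : x.ka 8 (Y.X 8 1) = Y.y 0 1 := let ⟨_, e⟩ := st1 Y H; (st2 Y H e).1

theorem q8 (s : K) : (Y.y 8 1)⁻¹ * Y.X 5 s * Y.y 8 1 = Y.X 6 s * Y.X 5 s ∧
    (Y.y 8 1)⁻¹ * Y.X 3 s * Y.y 8 1 = Y.X 6 s * Y.X 5 s * Y.X 4 (T.σ s) * Y.X 3 s ∧
    (Y.y 8 1)⁻¹ * Y.X 2 s * Y.y 8 1 = Y.X 6 s * Y.X 4 (T.σ s) * Y.X 3 s * Y.X 2 s := by
  have e1 := Y.k3 s
  have e2 := Y.k5 s
  have e3 := cj_ka (mX Y 8 1) (xne Y 8) (xsq Y 8 1) (Y.X 2 s)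
  rw [Y.n8 2 6 rfl (by decide) (by decide), mul_assoc _ (Y.X 2 s),
    ← V.cm (mV Y 2 s) (ka_mem (mX Y 8 1) (xne Y 8) 0), inv_mul_cancel_left, Y.s28] at e3
  rw [kY Y H] at e1 e2 e3
  exact ⟨by simpa (disch := decide) only [map_mul, map_inv, f8X, f8y Y H, Int.reduceSub]
      using congrArg (cj (n8 Y)) e1,
    by simpa (disch := decide) only [map_mul, map_inv, f8X, f8y Y H, Int.reduceSub]
      using congrArg (cj (n8 Y)) e2,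
    by simpa (disch := decide) only [map_mul, map_inv, f8X, f8y Y H, Int.reduceSub]
      using congrArg (cj (n8 Y)) e3.symm⟩

theorem q2 (s : K) : (Y.y 2 1)⁻¹ * Y.X 5 s * Y.y 2 1 = Y.X 4 s * Y.X 5 s ∧
    (Y.y 2 1)⁻¹ * Y.X 7 s * Y.y 2 1 = Y.X 4 s * Y.X 5 s * Y.X 6 (T.σ s) * Y.X 7 s ∧
    (Y.y 2 1)⁻¹ * Y.X 8 s * Y.y 2 1 = Y.X 4 s * Y.X 6 (T.σ s) * Y.X 7 s * Y.X 8 s :=
  ⟨by simpa (disch := decide) only [map_mul, map_inv, f1X, f1y Y, Int.reduceSub]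
      using congrArg (cj (n1 Y)) (q8 Y H s).1,
    by simpa (disch := decide) only [map_mul, map_inv, f1X, f1y Y, Int.reduceSub]
      using congrArg (cj (n1 Y)) (q8 Y H s).2.1,
    by simpa (disch := decide) only [map_mul, map_inv, f1X, f1y Y, Int.reduceSub]
      using congrArg (cj (n1 Y)) (q8 Y H s).2.2⟩

theorem q6 (s : K) : (Y.y 6 1)⁻¹ * Y.X 3 s * Y.y 6 1 = Y.X 4 s * Y.X 3 s ∧
    (Y.y 6 1)⁻¹ * Y.X 1 s * Y.y 6 1 = Y.X 4 s * Y.X 3 s * Y.X 2 (T.σ s) * Y.X 1 s :=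
  ⟨by simpa (disch := decide) only [map_mul, map_inv, f8X, f8y Y H, Int.reduceSub]
      using congrArg (cj (n8 Y)) (q2 Y H s).1,
    by simpa (disch := decide) only [map_mul, map_inv, f8X, f8y Y H, Int.reduceSub]
      using congrArg (cj (n8 Y)) (q2 Y H s).2.1⟩

theorem q4 (s : K) : (Y.y 4 1)⁻¹ * Y.X 7 s * Y.y 4 1 = Y.X 6 s * Y.X 7 s ∧
    (Y.y 4 1)⁻¹ * Y.X 1 s * Y.y 4 1 = Y.X 2 s * Y.X 1 s := by
  have e : (Y.y 4 1)⁻¹ * Y.X 7 s * Y.y 4 1 = Y.X 6 s * Y.X 7 s := by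
    simpa (disch := decide) only [map_mul, map_inv, f1X, f1y Y, Int.reduceSub]
      using congrArg (cj (n1 Y)) (q6 Y H s).1
  exact ⟨e, by simpa (disch := decide) only [map_mul, map_inv, f8X, f8y Y H, Int.reduceSub]
      using congrArg (cj (n8 Y)) e⟩

theorem y84 (z : G) : Y.y 8 1 * (Y.y 4 1 * z) = Y.y 4 1 * (Y.y 8 1 * z) := by
  have e := k4 Y H (my Y 4)
  rw [kY Y H] at e
  exact swp (by simpa only [map_mul, f8y Y H] using congrArg (cj (n8 Y)) e) z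

theorem y62 (z : G) : Y.y 6 1 * (Y.y 2 1 * z) = Y.y 2 1 * (Y.y 6 1 * z) := by
  have e := y84 Y H 1
  rw [mul_one, mul_one] at e
  exact swp (by simpa only [map_mul, f1y Y] using congrArg (cj (n1 Y)) e) z

theorem r72 (s t : K) (z : G) :
    Y.X 7 s * (Y.X 2 t * z) = Y.X 2 t * (Y.X 4 (t * s) * (Y.X 7 s * z)) := by
  have e := Y.r27 t s
  rw [xi Y 7 (by decide)] at e
  rw [← mul_assoc (Y.X 2 t), ← e, mul_assoc, mul_assoc, xm Y 7 (by decide), CharTwo.add_self_eq_zero,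
    x0 Y 7 (by decide), one_mul]

theorem r61 (s t : K) (z : G) :
    Y.X 6 s * (Y.X 1 t * z) = Y.X 1 t * (Y.X 4 (s * t) * (Y.X 6 s * z)) := by
  have e : (Y.X 1 t)⁻¹ * Y.X 6 s * Y.X 1 t = Y.X 6 s * Y.X 4 (s * t) := by
    simpa (disch := decide) only [map_mul, map_inv, f8X, Int.reduceSub]
      using congrArg (cj (n8 Y)) (Y.r27 s t)
  rw [lft e, mul_assoc, xx Y H 4 6 (by decide)]

theorem r83 (s t : K) (z : G) :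
    Y.X 8 s * (Y.X 3 t * z) = Y.X 3 t * (Y.X 6 (s * t) * (Y.X 8 s * z)) := by
  have e : (Y.X 3 t)⁻¹ * Y.X 8 s * Y.X 3 t = Y.X 8 s * Y.X 6 (s * t) := by
    simpa (disch := decide) only [map_mul, map_inv, f1X, Int.reduceSub]
      using congrArg (cj (n1 Y)) (Y.r27 s t)
  rw [lft e, mul_assoc, xx Y H 6 8 (by decide)]

theorem r82 (s : K) (z : G) : Y.X 8 1 * (Y.X 2 s * z) =
    Y.X 2 s * (Y.X 4 (T.σ s) * (Y.X 5 s * (Y.X 6 s * (Y.X 8 1 * z)))) := by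
  have e := Y.s28 s
  rw [xi Y 8 (by decide)] at e
  calc _ = Y.X 8 1 * Y.X 2 s * (Y.X 8 1 * Y.X 8 1) * z := by rw [xsq Y 8 1]; group
    _ = Y.X 8 1 * Y.X 2 s * Y.X 8 1 * (Y.X 8 1 * z) := by group
    _ = _ := by rw [e]; group

theorem y85 (s : K) (z : G) : Y.y 8 1 * (Y.X 5 s * z) = Y.X 5 s * (Y.X 6 s * (Y.y 8 1 * z)) := by
  rw [rgt (xsq Y 5 s) (q8 Y H s).1, yx1 Y 6 8 (by decide)]

theorem y83 (s : K) (z : G) : Y.y 8 1 * (Y.X 3 s * z) =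
    Y.X 3 s * (Y.X 4 (T.σ s) * (Y.X 5 s * (Y.y 8 1 * z))) := by
  rw [rgt (xsq Y 3 s) (q8 Y H s).2.1]
  simp (disch := decide) only [mul_assoc, yx1, xx' Y H, y85 Y H, xm, CharTwo.add_self_eq_zero, x0,
    one_mul]

theorem y82 (s : K) (z : G) : Y.y 8 1 * (Y.X 2 s * z) =
    Y.X 2 s * (Y.X 3 s * (Y.X 5 s * (Y.X 6 s * (Y.y 8 1 * z)))) := by
  rw [rgt (xsq Y 2 s) (q8 Y H s).2.2]
  simp (disch := decide) only [mul_assoc, yx1, xx' Y H, y83 Y H, xm, CharTwo.add_self_eq_zero, x0,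
    one_mul]

theorem r5y (s : K) (z : G) : Y.X 5 s * (Y.y 2 1 * z) = Y.y 2 1 * (Y.X 4 s * (Y.X 5 s * z)) := by
  rw [lft (q2 Y H s).1, mul_assoc]

theorem r7y (s : K) (z : G) : Y.X 7 s * (Y.y 2 1 * z) =
    Y.y 2 1 * (Y.X 4 s * (Y.X 5 s * (Y.X 6 (T.σ s) * (Y.X 7 s * z)))) := by
  simp only [lft (q2 Y H s).2.1, mul_assoc]

theorem r8y (s : K) (z : G) : Y.X 8 s * (Y.y 2 1 * z) =
    Y.y 2 1 * (Y.X 4 s * (Y.X 6 (T.σ s) * (Y.X 7 s * (Y.X 8 s * z)))) := by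
  simp only [lft (q2 Y H s).2.2, mul_assoc]

theorem y63 (s : K) (z : G) : Y.y 6 1 * (Y.X 3 s * z) = Y.X 3 s * (Y.X 4 s * (Y.y 6 1 * z)) := by
  rw [rgt (xsq Y 3 s) (q6 Y H s).1, yx1 Y 4 6 (by decide)]

theorem y63' (s : K) (z : G) :
    (Y.y 6 1)⁻¹ * (Y.X 3 s * z) = Y.X 3 s * (Y.X 4 s * ((Y.y 6 1)⁻¹ * z)) := by
  rw [← xx Y H 3 4 (by decide), ← mul_assoc (Y.X 4 s), ← (q6 Y H s).1]; group

theorem y61 (s : K) (z : G) : Y.y 6 1 * (Y.X 1 s * z) =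
    Y.X 1 s * (Y.X 2 (T.σ s) * (Y.X 3 s * (Y.y 6 1 * z))) := by
  rw [rgt (xsq Y 1 s) (q6 Y H s).2]
  simp (disch := decide) only [mul_assoc, yx1, xx' Y H, y63 Y H, xm, CharTwo.add_self_eq_zero, x0,
    one_mul]

theorem r74 (s : K) (z : G) : Y.X 7 s * (Y.y 4 1 * z) = Y.y 4 1 * (Y.X 6 s * (Y.X 7 s * z)) := by
  rw [lft (q4 Y H s).1, mul_assoc]

theorem y41 (s : K) (z : G) : Y.y 4 1 * (Y.X 1 s * z) = Y.X 1 s * (Y.X 2 s * (Y.y 4 1 * z)) := by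
  rw [rgt (xsq Y 1 s) (q4 Y H s).2, yx1 Y 2 4 (by decide)]

/-- step 4 -/
theorem st4 : (Y.y 4 1)⁻¹ = Y.y 4 1 * Y.X 4 1 ∧ (Y.y 6 1)⁻¹ = Y.y 6 1 * Y.X 6 1 ∧
    Y.y 6 1 * Y.y 4 1 = Y.y 4 1 * Y.X 5 1 * Y.y 6 1 := by
  obtain ⟨δ, e⟩ := st1 Y H
  obtain ⟨d, hd, e1⟩ := cj_hi (my Y 4) (my Y 6) 5 5
  obtain ⟨γ, rfl⟩ := ((Y.od 5 (by decide) (by decide) rfl).mem _).1 (ofI hd)
  have e2 : ∀ z, (Y.y 6 1)⁻¹ * (Y.y 4 1 * z) = Y.y 4 1 * (Y.X 5 γ * ((Y.y 6 1)⁻¹ * z)) := fun z => by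
    rw [← mul_assoc (Y.y 4 1), ← e1]; group
  have i2 : (Y.X 1 1)⁻¹ * Y.X 8 1 * Y.X 1 1 = ((Y.X 1 1)⁻¹ * Y.X 8 1 * Y.X 1 1)⁻¹ := by
    conv_lhs => rw [← xi Y 8 (by decide)]
    group
  rw [e] at i2
  have := un8 (x := x) (a1 := 1) (b1 := 1) ⟨one_mem _, mX Y 2 1, mX Y 3 1, inv_mem (my Y 4), mX Y 5 δ,
    my Y 6, mX Y 7 1, mX Y 8 1⟩ ⟨one_mem _, mX Y 2 1, mX Y 3 1, mul_mem (my Y 4) (mX Y 4 1),
      mX Y 5 (δ + γ + 1), mul_mem (inv_mem (my Y 6)) (mX Y 6 1), mX Y 7 1, mX Y 8 1⟩ (by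
    rw [one_mul, i2]
    refine mul_right_cancel (b := 1) ?_
    simp (disch := decide) only [mul_inv_rev, inv_inv, xi, mul_assoc, one_mul, xx' Y H, xy1, xy2, yx1,
      yx2, e2, y63' Y H, r72 Y H, r82 Y H, r83 Y H, r74 Y H, xm, map_one, mul_one (1 : K),
      CharTwo.add_self_eq_zero, x0, add_zero, zero_add])
  obtain ⟨-, -, -, e4, e5, e6, -⟩ := this
  have e7 : γ = 1 := by
    have := xinj Y 5 (by decide) e5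
    rw [add_assoc, left_eq_add, ← CharTwo.sub_eq_add, sub_eq_zero] at this
    exact this
  have e8 : (Y.y 6 1)⁻¹ = Y.y 6 1 * Y.X 6 1 := by
    conv_rhs => rw [e6]
    rw [mul_assoc, xsq Y 6 1, mul_one]
  refine ⟨e4, e8, mul_right_cancel (b := Y.X 6 1 * 1) ?_⟩
  have := e2 1
  rw [e7, e8] at this
  simp (disch := decide) only [mul_assoc, xy1] at this ⊢
  exact this

theorem y64 (z : G) : Y.y 6 1 * (Y.y 4 1 * z) = Y.y 4 1 * (Y.X 5 1 * (Y.y 6 1 * z)) := by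
  rw [← mul_assoc, (st4 Y H).2.2]; group

theorem y42 (z : G) : Y.y 4 1 * (Y.y 2 1 * z) = Y.y 2 1 * (Y.X 3 1 * (Y.y 4 1 * z)) := by
  have e : Y.y 2 1 * Y.y 4 1 = Y.y 4 1 * Y.X 3 1 * Y.y 2 1 := by
    simpa (disch := decide) only [map_mul, f8X, f8y Y H, Int.reduceSub]
      using congrArg (cj (n8 Y)) (st4 Y H).2.2
  rw [← xy1 Y 2 3 (by decide), ← mul_assoc (Y.y 2 1), e]
  simp (disch := decide) only [mul_assoc, yx1, xm, CharTwo.add_self_eq_zero, x0, one_mul]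

theorem y86 (z : G) : Y.y 8 1 * (Y.y 6 1 * z) = Y.y 6 1 * (Y.X 7 1 * (Y.y 8 1 * z)) := by
  have e0 := y42 Y H 1
  have e : Y.y 6 1 * Y.y 8 1 = Y.y 8 1 * (Y.X 7 1 * Y.y 6 1) := by
    simpa (disch := decide) only [map_mul, f1X, f1y Y, Int.reduceSub, mul_one]
      using congrArg (cj (n1 Y)) e0
  rw [← xy1 Y 6 7 (by decide), ← mul_assoc (Y.y 6 1), e]
  simp (disch := decide) only [mul_assoc, yx1, xm, CharTwo.add_self_eq_zero, x0, one_mul]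

theorem yi : (Y.y 2 1)⁻¹ = Y.y 2 1 * Y.X 2 1 ∧ (Y.y 4 1)⁻¹ = Y.y 4 1 * Y.X 4 1 ∧
    (Y.y 6 1)⁻¹ = Y.y 6 1 * Y.X 6 1 ∧ (Y.y 8 1)⁻¹ = Y.y 8 1 * Y.X 8 1 := by
  have e : (Y.y 2 1)⁻¹ = Y.y 2 1 * Y.X 2 1 := by
    simpa (disch := decide) only [map_mul, map_inv, f8X, f8y Y H, Int.reduceSub]
      using congrArg (cj (n8 Y)) (st4 Y H).2.1
  exact ⟨e, (st4 Y H).1, (st4 Y H).2.1, by
    simpa (disch := decide) only [map_mul, map_inv, f1X, f1y Y, Int.reduceSub]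
      using congrArg (cj (n1 Y)) e⟩

theorem ym (z : G) : Y.y 2 1 * (Y.y 2 1 * z) = Y.X 2 1 * z ∧ Y.y 4 1 * (Y.y 4 1 * z) = Y.X 4 1 * z ∧
    Y.y 6 1 * (Y.y 6 1 * z) = Y.X 6 1 * z ∧ Y.y 8 1 * (Y.y 8 1 * z) = Y.X 8 1 * z := by
  have key : ∀ a b : G, b * b = 1 → a⁻¹ = a * b → a * (a * z) = b * z := fun a b h e => by
    calc _ = a * (a * b) * (b * z) := by rw [mul_assoc, mul_assoc a b, ← mul_assoc b, h, one_mul]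
      _ = _ := by rw [← e]; group
  exact ⟨key _ _ (xsq Y 2 1) (yi Y H).1, key _ _ (xsq Y 4 1) (yi Y H).2.1,
    key _ _ (xsq Y 6 1) (yi Y H).2.2.1, key _ _ (xsq Y 8 1) (yi Y H).2.2.2⟩

theorem r71 (z : G) :
    Y.X 7 1 * (Y.X 1 1 * z) = Y.X 1 1 * (Y.X 3 1 * (Y.X 5 1 * (Y.X 7 1 * z))) := by
  obtain ⟨δ, e⟩ := st1 Y H
  have e7 : Y.X 7 1 = (Y.X 2 1 * Y.X 3 1 * (Y.y 4 1)⁻¹ * Y.X 5 δ * Y.y 6 1)⁻¹ *
      ((Y.X 1 1)⁻¹ * Y.X 8 1 * Y.X 1 1) * (Y.X 8 1)⁻¹ := by rw [e]; group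
  calc _ = (Y.X 2 1 * Y.X 3 1 * (Y.y 4 1)⁻¹ * Y.X 5 δ * Y.y 6 1)⁻¹ * (Y.X 1 1)⁻¹ * Y.X 8 1 *
        ((Y.X 1 1)⁻¹⁻¹ * (Y.X 8 1)⁻¹ * Y.X 1 1) * z := by
        conv_lhs => rw [e7]
        group
    _ = _ := by
      rw [xi Y 8 (by decide), xi Y 1 (by decide), e]
      simp (disch := decide) only [mul_inv_rev, inv_inv, xi, yi Y H, mul_assoc, one_mul, xx' Y H, xy1,
        yx1, y63 Y H, r72 Y H, r82 Y H, r83 Y H, r74 Y H, y41 Y H, y61 Y H, r61 Y H, y64 Y H, xm,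
        map_one, mul_one (1 : K), CharTwo.add_self_eq_zero, x0, add_zero, zero_add, ym Y H]
      congr 4
      linear_combination (δ + 1) * (CharTwo.two_eq_zero (R := K))

/-- step 5 -/
theorem st5 : ∃ δ : K, (∀ z, Y.X 8 1 * (Y.X 1 1 * z) = Y.X 1 1 * (Y.X 2 1 * (Y.X 3 1 * (Y.y 4 1 *
      (Y.X 4 1 * (Y.X 5 δ * (Y.y 6 1 * (Y.X 7 1 * (Y.X 8 1 * z))))))))) ∧
    (∀ z, Y.y 8 1 * (Y.X 1 1 * z) = Y.X 1 1 * (Y.y 2 1 * (Y.X 3 1 * (Y.X 4 1 * (Y.X 5 1 *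
      (Y.y 6 1 * (Y.X 6 1 * (Y.X 7 δ * (Y.y 8 1 * z))))))))) ∧
    ∀ z, Y.y 8 1 * (Y.y 2 1 * z) = (Y.X 7 1 * (Y.X 5 1 * ((Y.y 4 1)⁻¹ * (Y.X 3 δ * (Y.X 4 (T.σ δ) *
      Y.X 5 δ)))))⁻¹ * (Y.y 2 1 * (Y.X 3 1 * (Y.X 4 1 * (Y.X 5 1 *
        (Y.y 6 1 * (Y.X 6 1 * (Y.X 7 δ * (Y.y 8 1 * z)))))))) := by
  obtain ⟨δ, e⟩ := st1 Y H
  have e1 : (Y.y 8 1)⁻¹ * Y.X 1 1 * Y.y 8 1 =
      Y.X 7 1 * Y.X 6 1 * Y.X 5 1 * (Y.y 4 1)⁻¹ * Y.X 3 δ * Y.y 2 1 * Y.X 1 1 := by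
    simpa (disch := decide) only [map_mul, map_inv, f8X, f8y Y H, Int.reduceSub]
      using congrArg (cj (n8 Y)) (st2 Y H e).2
  have e2 : (Y.X 1 1)⁻¹ * Y.y 8 1 * Y.X 1 1 =
      Y.y 8 1 * (Y.X 7 1 * Y.X 6 1 * Y.X 5 1 * (Y.y 4 1)⁻¹ * Y.X 3 δ * Y.y 2 1) := by
    have := rgt (xsq Y 1 1) e1 1
    rw [mul_one, mul_one] at this
    rw [mul_assoc, this, inv_mul_cancel_left]
  have i1 := inv1 Y H (g := Y.y 8 1) (by rw [(f1y Y).2.1]; exact adj (my Y 2) (mX Y 1 1))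
  have e3 : (Y.X 1 1)⁻¹ * Y.y 8 1 * Y.X 1 1 =
      Y.y 2 1 * (Y.X 3 1 * Y.X 4 1 * Y.X 5 1 * (Y.y 6 1)⁻¹ * Y.X 7 δ * Y.y 8 1) := by
    rw [← i1, e2]
    simp (disch := decide) only [map_mul, map_inv, f1X, f1y Y, Int.reduceSub]
  refine ⟨δ, fun z => ?_, fun z => ?_, fun z => ?_⟩
  · rw [lft e, (yi Y H).2.1]; group
  · rw [lft e3, (yi Y H).2.2.1]; group
  · rw [eq_inv_mul_iff_mul_eq]
    have e4 := congrArg (· * z) (e2.symm.trans e3)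
    simp (disch := decide) only [(yi Y H).2.2.1, (yi Y H).2.1, mul_assoc, xx' Y H, xy1, yx1, y85 Y H,
      y83 Y H, y84 Y H, xm, CharTwo.add_self_eq_zero, x0, one_mul, r74 Y H] at e4 ⊢
    rw [add_comm 1, add_comm 1]
    exact e4

theorem st6 : (∀ z, Y.X 8 1 * (Y.X 1 1 * z) = Y.X 1 1 * (Y.X 2 1 * (Y.X 3 1 * (Y.y 4 1 *
      (Y.X 4 1 * (Y.X 5 1 * (Y.y 6 1 * (Y.X 7 1 * (Y.X 8 1 * z))))))))) ∧
    (∀ z, Y.y 8 1 * (Y.X 1 1 * z) = Y.X 1 1 * (Y.y 2 1 * (Y.X 3 1 * (Y.X 4 1 * (Y.X 5 1 *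
      (Y.y 6 1 * (Y.X 6 1 * (Y.X 7 1 * (Y.y 8 1 * z))))))))) ∧
    ∀ z, Y.y 8 1 * (Y.y 2 1 * z) =
      Y.y 2 1 * (Y.X 3 1 * (Y.y 4 1 * (Y.X 4 1 * (Y.y 6 1 * (Y.y 8 1 * z))))) := by
  obtain ⟨δ, e1, e2, e3⟩ := st5 Y H
  have e4 := (ym Y H (Y.X 1 1 * 1)).2.2.2
  rw [e1, e2, e2] at e4
  simp (disch := decide) only [mul_inv_rev, inv_inv, xi, yi Y H, mul_assoc, one_mul, xx' Y H, xy1,
    yx1, y63 Y H, r72 Y H, r74 Y H, y64 Y H, xm, y42 Y H, y86 Y H, y62 Y H, y84 Y H, y85 Y H, y83 Y H,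
    r5y Y H, r7y Y H, e3, map_one, mul_one (1 : K), CharTwo.add_self_eq_zero, x0, add_zero, zero_add,
    ym Y H] at e4
  have m : ∀ a b c d, Y.y 4 1 * (Y.X 4 a * (Y.X 5 b * (Y.y 6 1 * (Y.X 6 c * (Y.X 7 d *
      (Y.X 8 1 * 1)))))) ∈ II x.U 4 8 := fun a b c d => mul_mem (toI (my Y 4)) (mul_mem
    (toI (mX Y 4 a)) (mul_mem (toI (mX Y 5 b)) (mul_mem (toI (my Y 6)) (mul_mem (toI (mX Y 6 c))
      (mul_mem (toI (mX Y 7 d)) (mul_mem (toI (mX Y 8 1)) (one_mem _)))))))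
  have m' := m 1 δ 0 1
  rw [x0 Y 6 (by decide), one_mul] at m'
  have e5 := xinj Y 3 (by decide) (un (toI (mX Y 3 _) : _ ∈ II x.U 3 3) (toI (mX Y 3 _)) (m _ _ _ _) m'
    (mul_left_cancel (mul_left_cancel e4))).1
  rw [CharTwo.add_cancel_left] at e5
  subst e5
  refine ⟨e1, e2, fun z => ?_⟩
  simp (disch := decide) only [mul_inv_rev, inv_inv, xi, mul_assoc, one_mul, xx' Y H, xy1,
    yx1, xm, y42 Y H, r5y Y H, r7y Y H, e3, map_one, CharTwo.add_self_eq_zero, x0, add_zero, zero_add]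

set_option maxHeartbeats 1600000 in
theorem tab : Y.Tab := by
  intro k hk i hi h
  refine mul_right_cancel (b := 1) ?_
  obtain ⟨e1, e2, e3⟩ := st6 Y H
  have z0 : (0 : K) ^ 2 = 0 ∧ (0 : K) ^ 3 = 0 := by simp
  interval_cases k <;> interval_cases i <;> first
    | exact absurd h (by decide)
    | (simp only [Y8.fm, gn, Co.mul_a1, Co.mul_b2, Co.mul_a2, Co.mul_a3, Co.mul_b4,
        Co.mul_a4, Co.mul_a5, Co.mul_b6, Co.mul_a6, Co.mul_a7, Co.mul_b8, Co.mul_a8,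
        Nat.reduceEqDiff, ↓reduceIte, mul_zero, zero_mul, add_zero, zero_add, map_zero, map_one,
        one_mul, mul_one (1 : K), one_pow, Y.y_zero, z0]
       simp (disch := decide) only [one_mul, mul_one (1 : K), map_one, x0, mul_assoc, xx' Y H, xy1, yx1,
        e1, e2, e3, r71 Y H, r72 Y H, r61 Y H, r83 Y H, r82 Y H, y85 Y H, y83 Y H, y82 Y H, r5y Y H,
        r7y Y H, r8y Y H, y63 Y H, y61 Y H, r74 Y H, y41 Y H, y64 Y H, y42 Y H, y86 Y H, y84 Y H,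
        y62 Y H])

omit H in
theorem jobE : H54.O8.JobE := fun _ _ _ _ _ A C D _ _ _ _ _ Y => tab Y ⟨A, C, D⟩

end H58.O8E
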