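/- Tower RIT (S5056), slot P3: the case split of the rank two geometry. -/
import Cfsg.Agent.H66.RITSpec
import Cfsg.Agent.H51.R2B
import Cfsg.Agent.H52.R2T
import Cfsg.Agent.H52.R2C
import Cfsg.Agent.H1.R2One
import Cfsg.Agent.H9.RtD
import Cfsg.Agent.H9.RtE

set_option autoImplicit false

namespace H58.RitP3

open Cfsg Subgroup H70 H66.RIT H51.R2 H1.Gold

universe u

variable {G : Type u} [Group G] {D : Set G} {q : ℕ} {d : G}

theorem self_mem (hd : d ∈ D) : d ∈ E D d := subset_closure ⟨hd, fun _ _ h => h⟩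

theorem good_of_diam (h : Hyp D) (f : FA D q) (hD : Diam D) :
    ∀ a ∈ D, ∀ b ∈ D, IOpp a b → Good D a b := by
  intro a ha b hb hab
  have a1 := ri_ne_one h.ri ha
  have b1 := ri_ne_one h.ri hb
  rcases hD _ _ ⟨a, ha, rfl⟩ ⟨b, hb, rfl⟩ with hn | ⟨A, B, P⟩
  · exact absurd hab (f.nopp ⟨a, ha, rfl⟩ ⟨b, hb, rfl⟩ hn (self_mem ha) a1 (self_mem hb) b1)
  obtain ⟨e, he, hA⟩ := P.c1.pb
  have heA : e ∈ A := hA ▸ self_mem he
  have e1 := ri_ne_one h.ri he
  have hc : a * e = e * a := mem_centralizer_iff.1 (P.c1.le heA) a (self_mem ha)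
  have hne : a ≠ e := by
    rintro rfl
    have : a ∈ E D a ⊓ A := ⟨self_mem ha, heA⟩
    rw [f.pt_inf P.c1.pa P.c1.pb P.c1.ne] at this
    exact a1 this
  refine ⟨e, he, hc, h.mul a ha e he hne hc, ri_four_of h.ri he hb (fun c => P.n2 ?_) ?_⟩
  · exact f.col_of P.c1.pb P.c3.pb heA e1 (self_mem hb) b1 c
  · exact f.nopp P.c1.pb P.c3.pb ⟨B, P.c2.pb, le_centralizer_iff.1 P.c2.le, P.c3.le⟩ heA e1
      (self_mem hb) b1

theorem E_eq (h : Hyp D) (f : FA D q) (hd : d ∈ D) : EE D d = E D d := by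
  unfold EE sameCommutingSubgroup E
  congr 1
  ext e
  refine and_congr_right fun he => ⟨fun c y hy hc => ?_, fun c => ?_⟩
  · have : y ∈ commutingMembers D d := ⟨hy, hc⟩
    rw [c] at this
    exact this.2
  · ext y
    refine and_congr_right fun hy => ⟨c y hy, fun hc => ?_⟩
    have heE : e ∈ E D d := subset_closure ⟨he, c⟩
    exact (mem_centralizer_iff.1 (f.cen_of ⟨d, hd, rfl⟩ heE (ri_ne_one h.ri he) hy hc) d
      (self_mem hd)).symm

theorem M_eq (h : Hyp D) (f : FA D q) (hd : d ∈ D) :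
    closure (commutingMembers D d) = M D (E D d) := by
  unfold M
  congr 1
  ext y
  exact and_congr_right fun hy =>
    ⟨fun hc => f.cen_of ⟨d, hd, rfl⟩ (self_mem hd) (ri_ne_one h.ri hd) hy hc,
      fun hc => (mem_centralizer_iff.1 hc d (self_mem hd)).symm⟩

theorem small_of (h : Hyp D) (f : FA D 2) (hM : ∀ A, Pt D A → Nat.card (M D A) ≤ 2 ^ 10) :
    H66.RIT.Small D := fun d hd => by
  rw [E_eq h f hd, M_eq h f hd]
  exact ⟨f.pt_card ⟨d, hd, rfl⟩, hM _ ⟨d, hd, rfl⟩⟩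

theorem card_M_one [Finite G] (f : FA D 2) (o : F1 D) (A : Subgroup G) (hA : Pt D A) :
    Nat.card (M D A) ≤ 2 ^ 10 := by
  obtain ⟨W, W', fl, fl', ne⟩ := f.ln_two hA
  have key : ∀ x : M D A, ∃ w : W × W', (x : G) = w.1 * w.2 := fun x => by
    obtain ⟨w, hw, w', hw', e⟩ := H1.R2.mem_M_iff f o fl fl' ne x.2
    exact ⟨(⟨w, hw⟩, ⟨w', hw'⟩), e⟩
  choose φ hφ using key
  have hi : Function.Injective φ := fun x y e => Subtype.ext (by rw [hφ x, hφ y, e])
  have := Nat.card_le_card_of_injective φ hi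
  rw [Nat.card_prod, f.ln_card fl.ln, f.ln_card fl'.ln] at this
  omega

theorem jobP3 : JobP3.{u} := by
  intro p1 p2 G _ _ D h
  obtain ⟨q, a⟩ := H51.R2.jobA G D h
  have b := H51.R2.jobB G D q h a
  obtain ⟨t, c⟩ := H52.R2C.jobC G D q h a b
  have T := H52.R2T.jobT G D q h a
  by_cases ht : t = 1
  · subst ht
    have f := H1.R2.job1 G D q h a b c T
    by_cases hq : q = 2
    · subst hq
      exact Or.inr (small_of h a (card_M_one a f))
    · exact Or.inl (good_of_diam h a (p1 G D q h a c T f hq))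
  have h2 : 2 ≤ t := by
    obtain ⟨k, hk⟩ := c.t2
    have : 0 < t := hk ▸ Nat.two_pow_pos k
    omega
  have d := H9.RtD.jobD G D q t h a b c h2
  by_cases hI : ∃ W, Ln D W ∧ I D W ≠ W
  · exact Or.inl (good_of_diam h a (p2 G D q t h a b c d (H9.RtE.jobE G D q t h a b c h2 d hI)))
  · push Not at hI
    have i := H9.RtE.jobI G D q t h a b c h2 d hI
    obtain rfl := i.q2
    refine Or.inr (small_of h a fun A hA => ?_)
    obtain ⟨W, -, fl, -⟩ := a.ln_two hA
    rw [c.cardM fl, c.cardR fl, i.eq fl.ln, a.ln_card fl.ln]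
    rcases i.t24 with rfl | rfl <;> norm_num

end H58.RitP3
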