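/- S3275, chapter U2I, slot VV: the group `V = Y × Y^y`. -/
import Cfsg.Agent.H96.U2ISpec

set_option autoImplicit false

namespace H58.U2IVV

open Subgroup Cfsg H98 H48.DP H96.U2I
open scoped commutatorElement

universe u

theorem jobVV : JobVV.{u} := by
  intro G _ _ M Q T R y c Y
  have y3 : y * y * y = 1 := by rw [← pow_three', ← c.y3, pow_orderOf_eq_one]
  have yi : y * y = y⁻¹ := eq_inv_of_mul_eq_one_left y3
  have pR : ∀ z ∈ Yq Q, y * z * y⁻¹ ∈ R := fun z hz => conj_mem_of_mem_normalizer c.yR (Y.le hz)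
  have pC : ∀ z ∈ Yq Q, y * z * y⁻¹ ∈ Ce R := fun z hz =>
    conj_mem_of_mem_normalizer (normalizer_le_normalizer_centralizer R c.yR) (Y.cR hz)
  have zc : ∀ z ∈ Yq Q, ∀ r ∈ R, r * z = z * r := fun z hz r hr =>
    mem_centralizer_iff.1 (Y.cR hz) r hr
  have pc : ∀ z ∈ Yq Q, ∀ r ∈ R, r * (y * z * y⁻¹) = y * z * y⁻¹ * r := fun z hz r hr =>
    mem_centralizer_iff.1 (pC z hz) r hr
  let V : Subgroup G :=
    { carrier := {v | ∃ a ∈ Yq Q, ∃ b ∈ Yq Q, v = a * (y * b * y⁻¹)}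
      one_mem' := ⟨1, one_mem _, 1, one_mem _, by group⟩
      mul_mem' := by
        rintro _ _ ⟨a, ha, b, hb, rfl⟩ ⟨a', ha', b', hb', rfl⟩
        refine ⟨_, mul_mem ha ha', _, mul_mem hb hb', ?_⟩
        calc a * (y * b * y⁻¹) * (a' * (y * b' * y⁻¹))
            = a * (y * b * y⁻¹ * a') * (y * b' * y⁻¹) := by group
          _ = _ := by rw [zc a' ha' _ (pR b hb)]; group
      inv_mem' := by
        rintro _ ⟨a, ha, b, hb, rfl⟩
        refine ⟨_, inv_mem ha, _, inv_mem hb, ?_⟩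
        rw [← zc _ (inv_mem ha) _ (pR _ (inv_mem hb))]
        group }
  have v1 : ∀ z ∈ Yq Q, z ∈ V := fun z hz => ⟨z, hz, 1, one_mem _, by group⟩
  have v2 : ∀ z ∈ Yq Q, y * z * y⁻¹ ∈ V := fun z hz => ⟨1, one_mem _, z, hz, (one_mul _).symm⟩
  have nor : ∀ m : G, (∀ z ∈ Yq Q, m * z * m⁻¹ ∈ V) →
      (∀ z ∈ Yq Q, m * (y * z * y⁻¹) * m⁻¹ ∈ V) → m ∈ No V := fun m h1 h2 =>
    mem_normalizer_fintype (by
      rintro _ ⟨a, ha, b, hb, rfl⟩
      have := V.mul_mem (h1 a ha) (h2 b hb)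
      rwa [show m * a * m⁻¹ * (m * (y * b * y⁻¹) * m⁻¹) = m * (a * (y * b * y⁻¹)) * m⁻¹ by group]
        at this)
  have MV : ∀ m ∈ M, m ∈ No (Q ⊓ R) → m ∈ No V := by
    intro m hm hn
    refine nor m (fun z hz => v1 _ (Yq_conj (c.MQ hm) hz)) fun z hz => ?_
    obtain ⟨q, hq, nq⟩ := c.nQ
    set u := m * (y * z * y⁻¹) * m⁻¹ with hu
    have uQR : u ∈ Q ⊓ R := conj_mem_of_mem_normalizer hn ⟨Y.vQ z hz, pR z hz⟩
    have uC : u ∈ Ce (Q ⊓ R) := conj_mem_of_mem_normalizer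
      (normalizer_le_normalizer_centralizer _ hn) (centralizer_le inf_le_right (pC z hz))
    have q0 : m⁻¹ * q * m⁻¹⁻¹ ∈ Q := conj_mem_of_mem_normalizer (inv_mem (c.MQ hm)) hq
    have n0 : m⁻¹ * q * m⁻¹⁻¹ ∉ R := fun h => nq (by
      have := (conj_mem_of_mem_normalizer hn (⟨q0, h⟩ : _ ∈ Q ⊓ R)).2
      rwa [show m * (m⁻¹ * q * m⁻¹⁻¹) * m⁻¹ = q by group] at this)
    have z1 := Yq_conj (c.MQ hm) hz
    set a := m * z * m⁻¹ with ha
    have e1 : q * u * q⁻¹ = a * u := by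
      rw [ha, ← Y.cm z hz _ q0 n0, hu, commutatorElement_def]
      group
    have e2 : q * (y * a * y⁻¹) * q⁻¹ = a * (y * a * y⁻¹) := by
      nth_rewrite 2 [← Y.cm a z1 q hq nq]
      rw [commutatorElement_def]
      group
    set b := y * a * y⁻¹ with hb
    have bR : b ∈ R := pR a z1
    have wR : u * b⁻¹ ∈ R := mul_mem uQR.2 (inv_mem bR)
    have e3 : q * (u * b⁻¹) = u * b⁻¹ * q := by
      calc q * (u * b⁻¹) = q * u * q⁻¹ * (q * b * q⁻¹)⁻¹ * q := by group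
        _ = a * (u * b⁻¹) * a⁻¹ * q := by rw [e1, e2]; group
        _ = _ := by rw [← zc a z1 _ wR]; group
    have e4 : ∀ g ∈ Q ⊓ R, g * (u * b⁻¹) = u * b⁻¹ * g := fun g hg =>
      mem_centralizer_iff.1 (mul_mem uC (inv_mem (centralizer_le inf_le_right (pC a z1)))) g hg
    have wY : u * b⁻¹ ∈ Yq Q := by
      refine ⟨mul_mem uQR.1 (inv_mem (Y.vQ a z1)), mem_centralizer_iff.2 fun g hg => ?_, ?_⟩
      · by_cases hR : g ∈ R
        · exact e4 g ⟨hg, hR⟩
        · have := e4 _ ⟨mul_mem hg hq, c.mul g (c.QT hg) q (c.QT hq) hR nq⟩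
          rw [mul_assoc, e3, ← mul_assoc, ← mul_assoc _ g] at this
          exact mul_right_cancel this
      · have uu : u * u = 1 := by
          calc u * u = m * y * (z * z) * (m * y)⁻¹ := by rw [hu]; group
            _ = 1 := by rw [hz.2.2]; group
        have bb : b * b = 1 := by
          calc b * b = y * (a * a) * y⁻¹ := by rw [hb]; group
            _ = 1 := by rw [z1.2.2]; group
        rw [inv_eq_of_mul_eq_one_right bb]
        have ub : u * b = b * u := by rw [hb]; exact pc a z1 u uQR.2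
        nth_rewrite 1 [ub]
        rw [mul_assoc, ← mul_assoc u, uu, one_mul, bb]
    exact ⟨_, wY, a, z1, by rw [← hb]; group⟩
  obtain ⟨z, hz, z1⟩ := Y.nt
  refine ⟨V, nor y v2 fun a ha => ?_, fun t ht => MV t (c.TM ht) ?_, fun r hr => ?_,
    fun q hq hc => ?_, fun h => z1 (Y.i1 z hz ?_), MV⟩
  · have e : y * (y * a * y⁻¹) * y⁻¹ = (a * (y * a * y⁻¹))⁻¹ := by
      rw [inv_eq_of_mul_eq_one_right (c.fp.f1 a (Y.le ha))]
      calc y * (y * a * y⁻¹) * y⁻¹ = y * y * a * (y * y)⁻¹ := by group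
        _ = _ := by rw [yi, inv_inv]
    rw [e]
    exact inv_mem (mul_mem (v1 a ha) (v2 a ha))
  · exact mem_normalizer_fintype fun g hg => ⟨conj_mem_of_mem_normalizer (c.MQ (c.TM ht)) hg.1,
      conj_mem_of_mem_normalizer (c.TR ht) hg.2⟩
  · refine mem_centralizer_iff.2 ?_
    rintro _ ⟨a, ha, b, hb, rfl⟩
    rw [mul_assoc, ← pc b hb r hr, ← mul_assoc, ← zc a ha r hr, mul_assoc]
  · by_contra nq
    apply z1
    rw [← Y.cm z hz q hq nq, commutatorElement_eq_one_iff_mul_comm]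
    exact (mem_centralizer_iff.1 hc _ (v2 z hz)).symm
  · have hy : y ∈ Ce V := by
      rw [yi] at h
      exact inv_mem_iff.1 h
    rw [← mem_centralizer_iff.1 hy z (v1 z hz), mul_inv_cancel_right]
    exact hz

end H58.U2IVV
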